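import Mathlib
import Cfsg.Prelude.Def_Local

set_option autoImplicit false

namespace Cfsg.Agent.Lib.Helper91

open Cfsg
open scoped commutatorElement

universe u v

section basic

variable {X : Type u} [Group X] {Y : Type v} [Group Y]

theorem map_center_mulEquiv (e : X ≃* Y) : (Subgroup.center X).map e.toMonoidHom = Subgroup.center Y := by
  ext y
  constructor
  · rintro ⟨x, hx, rfl⟩
    rw [Subgroup.mem_center_iff]
    intro g
    obtain ⟨g', rfl⟩ := e.surjective g
    show e g' * e x = e x * e g'
    rw [← map_mul, ← map_mul, Subgroup.mem_center_iff.mp hx g']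
  · intro hy
    refine ⟨e.symm y, ?_, by simp⟩
    rw [SetLike.mem_coe, Subgroup.mem_center_iff]
    intro g
    apply e.injective
    rw [map_mul, map_mul, e.apply_symm_apply]
    exact Subgroup.mem_center_iff.mp hy (e g)

/-- quasisimplicity is invariant under isomorphism -/
theorem isQuasisimple_of_mulEquiv (e : X ≃* Y) (hX : IsQuasisimple X) : IsQuasisimple Y := by
  obtain ⟨hp, hs⟩ := hX
  refine ⟨Group.IsPerfect.ofSurjective (f := e.toMonoidHom) e.surjective, ?_⟩
  have e' : X ⧸ Subgroup.center X ≃* Y ⧸ Subgroup.center Y :=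
    QuotientGroup.congr (Subgroup.center X) (Subgroup.center Y) e (map_center_mulEquiv e)
  exact e'.isSimpleGroup_congr.mp hs

theorem commutatorElement_mul_central_left {h z y : X} (hz : z ∈ Subgroup.center X) :
    ⁅h * z, y⁆ = ⁅h, y⁆ := by
  have h1 : z * y = y * z := (Subgroup.mem_center_iff.mp hz y).symm
  rw [commutatorElement_def, commutatorElement_def, mul_inv_rev]
  calc h * z * y * (z⁻¹ * h⁻¹) * y⁻¹ = h * (z * y) * z⁻¹ * h⁻¹ * y⁻¹ := by group
    _ = h * (y * z) * z⁻¹ * h⁻¹ * y⁻¹ := by rw [h1]
    _ = h * y * h⁻¹ * y⁻¹ := by group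

theorem commutatorElement_mul_central_right {h z y : X} (hz : z ∈ Subgroup.center X) :
    ⁅y, h * z⁆ = ⁅y, h⁆ := by
  have := commutatorElement_mul_central_left (h := h) (y := y) hz
  rw [← commutatorElement_inv (h * z) y, this, commutatorElement_inv]

/-- If `H ⊔ Z(X) = ⊤` then `X' ≤ H`. -/
theorem commutator_le_of_sup_center_eq_top (H : Subgroup X)
    (hH : ∀ x : X, ∃ h ∈ H, ∃ z ∈ Subgroup.center X, x = h * z) : commutator X ≤ H := by
  rw [commutator_def, Subgroup.commutator_le]
  intro a _ b _
  obtain ⟨h, hh, z, hz, rfl⟩ := hH a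
  obtain ⟨h', hh', z', hz', rfl⟩ := hH b
  rw [commutatorElement_mul_central_left hz, commutatorElement_mul_central_right hz']
  rw [commutatorElement_def]
  exact H.mul_mem (H.mul_mem (H.mul_mem hh hh') (H.inv_mem hh)) (H.inv_mem hh')

/-- decomposition `x = h * z` from surjectivity of the image of `H` modulo the centre -/
theorem exists_mul_central_of_map_mk_eq_top (H : Subgroup X)
    (hH : H.map (QuotientGroup.mk' (Subgroup.center X)) = ⊤) (x : X) :
    ∃ h ∈ H, ∃ z ∈ Subgroup.center X, x = h * z := by
  have hx : (QuotientGroup.mk' (Subgroup.center X)) x ∈ H.map (QuotientGroup.mk' (Subgroup.center X)) := by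
    rw [hH]; exact Subgroup.mem_top _
  obtain ⟨h, hh, hhx⟩ := hx
  refine ⟨h, hh, h⁻¹ * x, ?_, by group⟩
  have : (QuotientGroup.mk h : X ⧸ Subgroup.center X) = QuotientGroup.mk x := hhx
  exact QuotientGroup.eq.mp this

/-- A normal subgroup of a quasisimple group is everything or central. -/
theorem normal_eq_top_or_le_center_of_isQuasisimple (hX : IsQuasisimple X) (H : Subgroup X) [hn : H.Normal] :
    H = ⊤ ∨ H ≤ Subgroup.center X := by
  obtain ⟨hp, hs⟩ := hX
  have hn' : (H.map (QuotientGroup.mk' (Subgroup.center X))).Normal :=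
    hn.map _ (QuotientGroup.mk'_surjective _)
  rcases hn'.eq_bot_or_eq_top with h | h
  · right
    rw [Subgroup.map_eq_bot_iff, QuotientGroup.ker_mk'] at h
    exact h
  · left
    have h1 := commutator_le_of_sup_center_eq_top H (exists_mul_central_of_map_mk_eq_top H h)
    rw [hp.commutator_eq_top] at h1
    exact top_le_iff.mp h1

/-- A subnormal subgroup of a quasisimple group is everything or central. -/
theorem isSubnormal_eq_top_or_le_center_of_isQuasisimple (hX : IsQuasisimple X) {H : Subgroup X}
    (hH : H.IsSubnormal) : H = ⊤ ∨ H ≤ Subgroup.center X := by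
  induction hH with
  | top => exact Or.inl rfl
  | step H K hle hK hN ih =>
    rcases ih with rfl | hK'
    · have hn : H.Normal := by
        have := hN
        rw [Subgroup.normal_subgroupOf_iff_le_normalizer hle, top_le_iff,
          Subgroup.normalizer_eq_top_iff] at this
        exact this
      exact normal_eq_top_or_le_center_of_isQuasisimple hX H
    · exact Or.inr (hle.trans hK')

end basic


section s1258

variable {X : Type u} [Group X]

theorem exists_commutator_mul_central_of_simple_nonabelian
    (hs : IsSimpleGroup (X ⧸ Subgroup.center X)) (hna : ¬ IsMulCommutative (X ⧸ Subgroup.center X)) (x : X) :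
    ∃ c ∈ commutator X, ∃ z ∈ Subgroup.center X, x = c * z := by
  apply exists_mul_central_of_map_mk_eq_top
  have hn' : ((commutator X).map (QuotientGroup.mk' (Subgroup.center X))).Normal :=
    (inferInstance : (commutator X).Normal).map _ (QuotientGroup.mk'_surjective _)
  rcases hn'.eq_bot_or_eq_top with h | h
  · exfalso
    apply hna
    rw [Subgroup.map_eq_bot_iff, QuotientGroup.ker_mk'] at h
    refine ⟨⟨?_⟩⟩
    intro a b
    obtain ⟨x, rfl⟩ := QuotientGroup.mk_surjective a
    obtain ⟨y, rfl⟩ := QuotientGroup.mk_surjective b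
    rw [← QuotientGroup.mk_mul, ← QuotientGroup.mk_mul, QuotientGroup.eq]
    have : ⁅x⁻¹, y⁻¹⁆ ∈ Subgroup.center X := h (Subgroup.commutator_mem_commutator (Subgroup.mem_top _) (Subgroup.mem_top _))
    -- (x*y)⁻¹ * (y*x) = y⁻¹ x⁻¹ y x, and ⁅x⁻¹,y⁻¹⁆ = x⁻¹ y⁻¹ x y
    have h2 : ⁅y⁻¹, x⁻¹⁆ ∈ Subgroup.center X := h (Subgroup.commutator_mem_commutator (Subgroup.mem_top _) (Subgroup.mem_top _))
    have h3 : (x * y)⁻¹ * (y * x) = ⁅y⁻¹, x⁻¹⁆ := by
      rw [commutatorElement_def]; group
    rw [h3]; exact h2
  · exact h


theorem commutator_sup_center_eq_top_of_simple_nonabelian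
    (hs : IsSimpleGroup (X ⧸ Subgroup.center X)) (hna : ¬ IsMulCommutative (X ⧸ Subgroup.center X)) :
    commutator X ⊔ Subgroup.center X = ⊤ := by
  rw [eq_top_iff]
  intro x _
  obtain ⟨c, hc, z, hz, rfl⟩ := exists_commutator_mul_central_of_simple_nonabelian hs hna x
  exact Subgroup.mul_mem_sup hc hz

theorem isQuasisimple_commutator_of_simple_nonabelian
    (hs : IsSimpleGroup (X ⧸ Subgroup.center X)) (hna : ¬ IsMulCommutative (X ⧸ Subgroup.center X)) :
    IsQuasisimple ↥(commutator X) := by
  have hdec := exists_commutator_mul_central_of_simple_nonabelian hs hna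
  constructor
  · rw [Subgroup.isPerfect_iff]
    apply le_antisymm
    · exact Subgroup.commutator_le_left _ _
    · conv_lhs => rw [commutator_def]
      rw [Subgroup.commutator_le]
      intro a _ b _
      obtain ⟨c, hc, z, hz, rfl⟩ := hdec a
      obtain ⟨c', hc', z', hz', rfl⟩ := hdec b
      rw [commutatorElement_mul_central_left hz, commutatorElement_mul_central_right hz']
      exact Subgroup.commutator_mem_commutator hc hc'
  · let φ : ↥(commutator X) →* X ⧸ Subgroup.center X :=
      (QuotientGroup.mk' (Subgroup.center X)).comp (commutator X).subtype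
    have hφs : Function.Surjective φ := by
      intro q
      obtain ⟨x, rfl⟩ := QuotientGroup.mk_surjective q
      obtain ⟨c, hc, z, hz, rfl⟩ := hdec x
      refine ⟨⟨c, hc⟩, ?_⟩
      show (QuotientGroup.mk c : X ⧸ Subgroup.center X) = QuotientGroup.mk (c * z)
      rw [QuotientGroup.eq]
      simpa using hz
    have hker : Subgroup.center ↥(commutator X) = φ.ker := by
      ext ⟨d, hd⟩
      rw [MonoidHom.mem_ker]
      show _ ↔ (QuotientGroup.mk d : X ⧸ Subgroup.center X) = 1
      rw [QuotientGroup.eq_one_iff, Subgroup.mem_center_iff, Subgroup.mem_center_iff]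
      constructor
      · intro h g
        obtain ⟨c, hc, z, hz, rfl⟩ := hdec g
        have h1 := congrArg Subtype.val (h ⟨c, hc⟩)
        simp only [Subgroup.coe_mul] at h1
        have h2 := Subgroup.mem_center_iff.mp hz d
        calc c * z * d = c * (z * d) := by group
          _ = c * (d * z) := by rw [h2]
          _ = (c * d) * z := by group
          _ = (d * c) * z := by rw [h1]
          _ = d * (c * z) := by group
      · intro h g
        apply Subtype.ext
        exact h g
    have e : ↥(commutator X) ⧸ Subgroup.center ↥(commutator X) ≃* X ⧸ Subgroup.center X :=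
      (QuotientGroup.quotientMulEquivOfEq hker).trans (QuotientGroup.quotientKerEquivOfSurjective φ hφs)
    exact e.isSimpleGroup_congr.mpr hs

end s1258


section s1261

theorem isComponent_subgroupOf {G : Type u} [Group G] {L U : Subgroup G} (hL : IsComponent L) (hLU : L ≤ U) :
    IsComponent (L.subgroupOf U) :=
  ⟨hL.1.subgroupOf, isQuasisimple_of_mulEquiv (Subgroup.subgroupOfEquivOfLe hLU).symm hL.2⟩

theorem transport_le_or_le_centralizer {G : Type u} [Group G] {U L H : Subgroup G} (hLU : L ≤ U) (hHU : H ≤ U)
    (h : L.subgroupOf U ≤ H.subgroupOf U ∨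
      L.subgroupOf U ≤ Subgroup.centralizer ((H.subgroupOf U : Subgroup U) : Set U)) :
    L ≤ H ∨ L ≤ Subgroup.centralizer (H : Set G) := by
  rcases h with h | h
  · left
    intro l hl
    have : (⟨l, hLU hl⟩ : U) ∈ L.subgroupOf U := Subgroup.mem_subgroupOf.mpr hl
    exact Subgroup.mem_subgroupOf.mp (h this)
  · right
    intro l hl
    rw [Subgroup.mem_centralizer_iff]
    intro x hx
    have h1 : (⟨l, hLU hl⟩ : U) ∈ L.subgroupOf U := Subgroup.mem_subgroupOf.mpr hl
    have h2 : (⟨x, hHU hx⟩ : U) ∈ H.subgroupOf U := Subgroup.mem_subgroupOf.mpr hx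
    have h3 := Subgroup.mem_centralizer_iff.mp (h h1) ⟨x, hHU hx⟩ h2
    exact congrArg Subtype.val h3

theorem card_subgroup_lt_of_ne_top {G : Type u} [Group G] [Finite G] {U : Subgroup G} (hU : U ≠ ⊤) :
    Nat.card U < Nat.card G := by
  apply lt_of_le_of_ne (Subgroup.card_le_card_group U)
  intro h
  exact hU ((Subgroup.card_eq_iff_eq_top U).mp h)

theorem component_le_or_le_centralizer_aux : ∀ (n : ℕ) (G : Type u) [Group G] [Finite G], Nat.card G = n →
    ∀ L H : Subgroup G, IsComponent L → H.IsSubnormal → L ≤ H ∨ L ≤ Subgroup.centralizer (H : Set G) := by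
  intro n
  induction n using Nat.strong_induction_on with
  | _ n ih =>
  intro G _ _ hn L H hL hH
  by_cases hLtop : L = ⊤
  · -- G itself is quasisimple
    subst hLtop
    have hG : IsQuasisimple G := isQuasisimple_of_mulEquiv Subgroup.topEquiv hL.2
    rcases isSubnormal_eq_top_or_le_center_of_isQuasisimple hG hH with h | h
    · left; rw [h]
    · right
      intro l _
      rw [Subgroup.mem_centralizer_iff]
      intro x hx
      exact (Subgroup.mem_center_iff.mp (h hx) l).symm ▸ rfl
  by_cases hHtop : H = ⊤
  · left; rw [hHtop]; exact le_top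
  obtain ⟨X, hXn, hLX, hXlt⟩ := hL.1.exists_normal_and_le_and_lt_top_of_ne hLtop
  obtain ⟨Y, hYn, hHY, hYlt⟩ := hH.exists_normal_and_le_and_lt_top_of_ne hHtop
  have hXc : Nat.card X < n := hn ▸ card_subgroup_lt_of_ne_top hXlt.ne
  have hYc : Nat.card Y < n := hn ▸ card_subgroup_lt_of_ne_top hYlt.ne
  have hXYn : ((X ⊓ Y).subgroupOf X).Normal := inferInstance
  have h1 := ih (Nat.card X) hXc X rfl (L.subgroupOf X) ((X ⊓ Y).subgroupOf X)
    (isComponent_subgroupOf hL hLX) hXYn.isSubnormal
  have h2 := transport_le_or_le_centralizer hLX inf_le_left h1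
  rcases h2 with h2 | h2
  · -- L ≤ Y
    have hLY : L ≤ Y := h2.trans inf_le_right
    have h3 := ih (Nat.card Y) hYc Y rfl (L.subgroupOf Y) (H.subgroupOf Y)
      (isComponent_subgroupOf hL hLY) hH.subgroupOf
    exact transport_le_or_le_centralizer hLY hHY h3
  · -- L centralizes X ⊓ Y
    right
    have h3 : ⁅L, X ⊓ Y⁆ = ⊥ := Subgroup.commutator_eq_bot_iff_le_centralizer.mpr h2
    have h4 : ⁅L, Y⁆ ≤ X ⊓ Y := (Subgroup.commutator_mono hLX le_rfl).trans (Subgroup.commutator_le_inf X Y)
    have h5 : ⁅⁅L, Y⁆, L⁆ = ⊥ := by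
      rw [eq_bot_iff, ← h3, Subgroup.commutator_comm L (X ⊓ Y)]
      exact Subgroup.commutator_mono h4 le_rfl
    have h6 : ⁅⁅Y, L⁆, L⁆ = ⊥ := by rw [Subgroup.commutator_comm Y L]; exact h5
    have h7 : ⁅⁅L, L⁆, Y⁆ = ⊥ := Subgroup.commutator_commutator_eq_bot_of_rotate h5 h6
    have hperf : ⁅L, L⁆ = L := Subgroup.isPerfect_iff.mp hL.2.1
    rw [hperf] at h7
    have h8 : ⁅L, H⁆ = ⊥ := by
      rw [eq_bot_iff, ← h7]
      exact Subgroup.commutator_mono le_rfl hHY
    exact Subgroup.commutator_eq_bot_iff_le_centralizer.mp h8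

/-- A component `L` and a subnormal subgroup `H` of a finite group: `L ≤ H` or `L` centralizes `H`. -/
theorem component_le_or_commutator_eq_bot {G : Type u} [Group G] [Finite G] {L H : Subgroup G}
    (hL : IsComponent L) (hH : H.IsSubnormal) : L ≤ H ∨ ⁅L, H⁆ = ⊥ := by
  rcases component_le_or_le_centralizer_aux (Nat.card G) G rfl L H hL hH with h | h
  · exact Or.inl h
  · exact Or.inr (Subgroup.commutator_eq_bot_iff_le_centralizer.mpr h)

end s1261


section s1262

theorem nontrivial_of_isQuasisimple {X : Type u} [Group X] (hX : IsQuasisimple X) : Nontrivial X := by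
  have := hX.2
  exact (QuotientGroup.mk_surjective (s := Subgroup.center X)).nontrivial

theorem not_isSolvable_of_isQuasisimple {X : Type u} [Group X] (hX : IsQuasisimple X) : ¬ Group.IsSolvable X := by
  have := nontrivial_of_isQuasisimple hX
  have := hX.1
  exact Group.IsPerfect.not_isSolvable X

theorem component_commutator_solvable_eq_bot {G : Type u} [Group G] [Finite G] {L H : Subgroup G}
    (hL : IsComponent L) (hsolv : Group.IsSolvable ↥H) (hinv : L ≤ Subgroup.normalizer (H : Set G)) :
    ⁅L, H⁆ = ⊥ := by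
  set M : Subgroup G := L ⊔ H with hM
  have hLM : L ≤ M := le_sup_left
  have hHM : H ≤ M := le_sup_right
  have hHn : (H.subgroupOf M).Normal := by
    rw [Subgroup.normal_subgroupOf_iff_le_normalizer hHM]
    exact sup_le hinv Subgroup.le_normalizer
  have h1 := component_le_or_le_centralizer_aux (Nat.card M) M rfl (L.subgroupOf M) (H.subgroupOf M)
    (isComponent_subgroupOf hL hLM) hHn.isSubnormal
  rcases transport_le_or_le_centralizer hLM hHM h1 with h | h
  · exfalso
    apply not_isSolvable_of_isQuasisimple hL.2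
    exact Group.isSolvable_of_isSolvable_injective (f := Subgroup.inclusion h) (Subgroup.inclusion_injective h)
  · exact Subgroup.commutator_eq_bot_iff_le_centralizer.mpr h

end s1262


section s1263

variable {G : Type u} [Group G]

/-- elements of `L ⊔ M` for elementwise commuting `L`, `M` are products -/
theorem exists_mul_of_mem_sup_of_commute {L M : Subgroup G} (hc : ∀ l ∈ L, ∀ m ∈ M, l * m = m * l) {x : G}
    (hx : x ∈ L ⊔ M) : ∃ l ∈ L, ∃ m ∈ M, x = l * m := by
  rw [Subgroup.sup_eq_closure] at hx
  induction hx using Subgroup.closure_induction with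
  | mem x hx =>
    rcases hx with hx | hx
    · exact ⟨x, hx, 1, M.one_mem, by simp⟩
    · exact ⟨1, L.one_mem, x, hx, by simp⟩
  | one => exact ⟨1, L.one_mem, 1, M.one_mem, by simp⟩
  | mul x y _ _ ihx ihy =>
    obtain ⟨l, hl, m, hm, rfl⟩ := ihx
    obtain ⟨l', hl', m', hm', rfl⟩ := ihy
    refine ⟨l * l', L.mul_mem hl hl', m * m', M.mul_mem hm hm', ?_⟩
    have := hc l' hl' m hm
    calc l * m * (l' * m') = l * (m * l') * m' := by group
      _ = l * (l' * m) * m' := by rw [this]
      _ = l * l' * (m * m') := by group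
  | inv x _ ihx =>
    obtain ⟨l, hl, m, hm, rfl⟩ := ihx
    refine ⟨l⁻¹, L.inv_mem hl, m⁻¹, M.inv_mem hm, ?_⟩
    have := hc l hl m hm
    rw [mul_inv_rev]
    have h2 : m⁻¹ * l⁻¹ = (l * m)⁻¹ := by group
    have h3 : l⁻¹ * m⁻¹ = (m * l)⁻¹ := by group
    rw [h2, h3, this]

variable [Finite G]

/-- distinct components commute elementwise -/
theorem component_commute_of_ne {L L' : Subgroup G} (hL : IsComponent L) (hL' : IsComponent L')
    (hne : L ≠ L') : ∀ l ∈ L, ∀ l' ∈ L', l * l' = l' * l := by
  rcases component_le_or_le_centralizer_aux (Nat.card G) G rfl L L' hL hL'.1 with h | h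
  · exfalso
    have hsn : (L.subgroupOf L').IsSubnormal := hL.1.subgroupOf
    rcases isSubnormal_eq_top_or_le_center_of_isQuasisimple hL'.2 hsn with h1 | h1
    · apply hne
      apply le_antisymm h
      intro x hx
      have : (⟨x, hx⟩ : L') ∈ L.subgroupOf L' := by rw [h1]; exact Subgroup.mem_top _
      exact Subgroup.mem_subgroupOf.mp this
    · have hnt := nontrivial_of_isQuasisimple hL.2
      have hpf := hL.2.1
      apply Group.IsPerfect.not_isMulCommutative ↥L
      show IsMulCommutative L
      have : IsMulCommutative L := by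
        refine ⟨⟨?_⟩⟩
        rintro ⟨a, ha⟩ ⟨b, hb⟩
        apply Subtype.ext
        have ha' : (⟨a, h ha⟩ : L') ∈ L.subgroupOf L' := Subgroup.mem_subgroupOf.mpr ha
        have := Subgroup.mem_center_iff.mp (h1 ha') ⟨b, h hb⟩
        have h2 := congrArg Subtype.val this
        simp only [Subgroup.coe_mul] at h2
        exact h2.symm
      exact this
  · intro l hl l' hl'
    exact (Subgroup.mem_centralizer_iff.mp (h hl) l' hl').symm

/-- the target subgroup: join of centres of components -/
def centersOfComponents (G : Type u) [Group G] : Subgroup G :=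
  ⨆ L : {K : Subgroup G // IsComponent K}, (Subgroup.center ↥(L : Subgroup G)).map (L : Subgroup G).subtype

omit [Finite G] in
theorem mem_centersOfComponents_of_central {L : Subgroup G} (hL : IsComponent L) {l : G} (hl : l ∈ L)
    (hc : ∀ x ∈ L, l * x = x * l) : l ∈ centersOfComponents G := by
  have h1 : (Subgroup.center ↥L).map L.subtype ≤ centersOfComponents G :=
    le_iSup (fun L : {K : Subgroup G // IsComponent K} =>
      (Subgroup.center ↥(L : Subgroup G)).map (L : Subgroup G).subtype) ⟨L, hL⟩
  apply h1
  refine ⟨⟨l, hl⟩, ?_, rfl⟩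
  rw [SetLike.mem_coe, Subgroup.mem_center_iff]
  rintro ⟨x, hx⟩
  apply Subtype.ext
  exact (hc x hx).symm

theorem mem_centersOfComponents_aux (T : Finset (Subgroup G)) :
    (∀ L ∈ T, IsComponent L) → ∀ z ∈ ⨆ L ∈ T, L, (∀ L ∈ T, ∀ x ∈ L, z * x = x * z) →
      z ∈ centersOfComponents G := by
  classical
  induction T using Finset.induction_on with
  | empty =>
    intro _ z hz _
    simp only [Finset.notMem_empty, not_false_eq_true, iSup_neg, iSup_bot, Subgroup.mem_bot] at hz
    rw [hz]; exact Subgroup.one_mem _
  | insert L T' hLT ih =>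
    intro hT z hz hzc
    rw [Finset.iSup_insert] at hz
    have hLc : IsComponent L := hT L (Finset.mem_insert_self _ _)
    have hT' : ∀ L' ∈ T', IsComponent L' := fun L' h => hT L' (Finset.mem_insert_of_mem h)
    -- L commutes with the join of T'
    have hcomm : ∀ l ∈ L, ∀ m ∈ ⨆ L' ∈ T', L', l * m = m * l := by
      intro l hl m hm
      have : (⨆ L' ∈ T', L') ≤ Subgroup.centralizer ({l} : Set G) := by
        apply iSup₂_le
        intro L' hL' x hx
        rw [Subgroup.mem_centralizer_iff]
        intro y hy
        rw [Set.mem_singleton_iff] at hy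
        subst hy
        have hne : L ≠ L' := fun h => hLT (h ▸ hL')
        exact component_commute_of_ne hLc (hT' L' hL') hne y hl x hx
      have := Subgroup.mem_centralizer_iff.mp (this hm) l rfl
      exact this
    obtain ⟨l, hl, m, hm, rfl⟩ := exists_mul_of_mem_sup_of_commute hcomm hz
    -- l is central in L
    have hlc : ∀ x ∈ L, l * x = x * l := by
      intro x hx
      have h1 := hzc L (Finset.mem_insert_self _ _) x hx
      have h2 := hcomm x hx m hm
      -- l * m * x = x * (l * m), x * m = m * x
      have : l * x * m = x * l * m := by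
        calc l * x * m = l * (x * m) := by group
          _ = l * (m * x) := by rw [h2]
          _ = l * m * x := by group
          _ = x * (l * m) := h1
          _ = x * l * m := by group
      exact mul_right_cancel this
    -- m centralizes each L' in T'
    have hmc : ∀ L' ∈ T', ∀ x ∈ L', m * x = x * m := by
      intro L' hL' x hx
      have h1 := hzc L' (Finset.mem_insert_of_mem hL') x hx
      have hne : L ≠ L' := fun h => hLT (h ▸ hL')
      have h2 := component_commute_of_ne hLc (hT' L' hL') hne l hl x hx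
      have : l * (m * x) = l * (x * m) := by
        calc l * (m * x) = l * m * x := by group
          _ = x * (l * m) := h1
          _ = (x * l) * m := by group
          _ = (l * x) * m := by rw [h2]
          _ = l * (x * m) := by group
      exact mul_left_cancel this
    exact Subgroup.mul_mem _ (mem_centersOfComponents_of_central hLc hl hlc) (ih hT' m hm hmc)

theorem map_center_layer_eq :
    (Subgroup.center ↥(layer G)).map (layer G).subtype = centersOfComponents G := by
  classical
  apply le_antisymm
  · rintro z ⟨⟨z, hzE⟩, hzc, rfl⟩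
    rw [SetLike.mem_coe, Subgroup.mem_center_iff] at hzc
    have hfin : {K : Subgroup G | IsComponent K}.Finite := Set.toFinite _
    have hE : layer G = ⨆ L ∈ hfin.toFinset, L := by
      unfold layer
      rw [sSup_eq_iSup]
      simp only [Set.Finite.mem_toFinset]
    apply mem_centersOfComponents_aux hfin.toFinset
    · intro L hL; exact (Set.Finite.mem_toFinset hfin).mp hL
    · rw [← hE]; exact hzE
    · intro L hL x hx
      have hLE : L ≤ layer G := le_sSup ((Set.Finite.mem_toFinset hfin).mp hL)
      have := hzc ⟨x, hLE hx⟩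
      have h2 := congrArg Subtype.val this
      simp only [Subgroup.coe_mul] at h2
      exact h2.symm
  · apply iSup_le
    rintro ⟨L, hL⟩ z ⟨⟨z, hzL⟩, hzc, rfl⟩
    rw [SetLike.mem_coe, Subgroup.mem_center_iff] at hzc
    have hLE : L ≤ layer G := le_sSup hL
    refine ⟨⟨z, hLE hzL⟩, ?_, rfl⟩
    rw [SetLike.mem_coe, Subgroup.mem_center_iff]
    rintro ⟨e, he⟩
    apply Subtype.ext
    show e * z = z * e
    have : layer G ≤ Subgroup.centralizer ({z} : Set G) := by
      apply sSup_le
      intro L' hL' x hx
      rw [Subgroup.mem_centralizer_iff]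
      intro y hy
      rw [Set.mem_singleton_iff] at hy
      subst hy
      by_cases hne : L = L'
      · subst hne
        have := hzc ⟨x, hx⟩
        have h2 := congrArg Subtype.val this
        simp only [Subgroup.coe_mul] at h2
        exact h2.symm
      · exact component_commute_of_ne hL hL' hne y hzL x hx
    exact (Subgroup.mem_centralizer_iff.mp (this he) z rfl).symm

end s1263

end Cfsg.Agent.Lib.Helper91
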