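import Mathlib
import Cfsg.Prelude.Def_Transfer

set_option autoImplicit false

namespace Cfsg.Agent.Lib.Helper91

open Cfsg

universe u

variable {G : Type u} [Group G]

/-- the trivial subgroup is elementary abelian -/
theorem isElementaryAbelian_bot (p : ℕ) : IsElementaryAbelian p (⊥ : Subgroup G) := by
  refine ⟨⟨⟨?_⟩⟩, ?_⟩
  · rintro ⟨a, ha⟩ ⟨b, hb⟩
    rw [Subgroup.mem_bot] at ha hb
    subst ha; subst hb
    rfl
  · intro a ha
    rw [Subgroup.mem_bot] at ha
    subst ha
    simp

theorem IsElementaryAbelian.mono {p : ℕ} {A B : Subgroup G} (hA : IsElementaryAbelian p A) (h : B ≤ A) :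
    IsElementaryAbelian p B := by
  refine ⟨⟨⟨?_⟩⟩, fun b hb => hA.2 b (h hb)⟩
  rintro ⟨a, ha⟩ ⟨b, hb⟩
  have := hA.1.is_comm.comm ⟨a, h ha⟩ ⟨b, h hb⟩
  apply Subtype.ext
  have h2 := congrArg Subtype.val this
  simpa using h2

theorem IsElementaryAbelian.commute {p : ℕ} {A : Subgroup G} (hA : IsElementaryAbelian p A) {a b : G}
    (ha : a ∈ A) (hb : b ∈ A) : a * b = b * a := by
  have := hA.1.is_comm.comm ⟨a, ha⟩ ⟨b, hb⟩
  have h2 := congrArg Subtype.val this
  simpa using h2

/-- In a finite group the set of elementary abelian subgroups of maximal order is nonempty. -/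
theorem maxElementaryAbelianSubgroups_nonempty (p : ℕ) [Finite G] :
    (maxElementaryAbelianSubgroups p G).Nonempty := by
  classical
  let S : Set (Subgroup G) := {A | IsElementaryAbelian p A}
  have hS : S.Finite := Set.toFinite S
  have hne : S.Nonempty := ⟨⊥, isElementaryAbelian_bot p⟩
  obtain ⟨A, hA, hmax⟩ := Set.exists_max_image S (fun A : Subgroup G => Nat.card A) hS hne
  exact ⟨A, hA, fun B hB => hmax B hB⟩

theorem commute_of_mem_closure {S : Set G} (hS : ∀ a ∈ S, ∀ b ∈ S, a * b = b * a) {x y : G}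
    (hx : x ∈ Subgroup.closure S) (hy : y ∈ Subgroup.closure S) : x * y = y * x := by
  have hc := Subgroup.isMulCommutative_closure hS
  have := hc.is_comm.comm (⟨x, hx⟩ : Subgroup.closure S) ⟨y, hy⟩
  have h2 := congrArg Subtype.val this
  simpa using h2

theorem isElementaryAbelian_closure {p : ℕ} {S : Set G} (hS : ∀ a ∈ S, ∀ b ∈ S, a * b = b * a)
    (hp : ∀ a ∈ S, a ^ p = 1) : IsElementaryAbelian p (Subgroup.closure S) := by
  refine ⟨Subgroup.isMulCommutative_closure hS, ?_⟩
  intro a ha
  induction ha using Subgroup.closure_induction with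
  | mem x hx => exact hp x hx
  | one => simp
  | mul x y hx hy ihx ihy =>
    have hc : Commute x y := commute_of_mem_closure hS hx hy
    rw [hc.mul_pow, ihx, ihy, one_mul]
  | inv x hx ihx => rw [inv_pow, ihx, inv_one]

/-- If `x` has `x ^ p = 1` and commutes with every element of a maximal elementary abelian subgroup `A`,
then `x ∈ A`. -/
theorem mem_of_commute_maxElementaryAbelian [Finite G] {p : ℕ} {A : Subgroup G}
    (hA : A ∈ maxElementaryAbelianSubgroups p G) {x : G} (hx : x ^ p = 1)
    (hc : ∀ a ∈ A, a * x = x * a) : x ∈ A := by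
  classical
  let S : Set G := (A : Set G) ∪ {x}
  have hS : ∀ a ∈ S, ∀ b ∈ S, a * b = b * a := by
    rintro a (ha | ha) b (hb | hb)
    · exact IsElementaryAbelian.commute hA.1 ha hb
    · rw [Set.mem_singleton_iff] at hb; subst hb; exact hc a ha
    · rw [Set.mem_singleton_iff] at ha; subst ha; exact (hc b hb).symm
    · rw [Set.mem_singleton_iff] at ha hb; subst ha; subst hb; rfl
  have hp : ∀ a ∈ S, a ^ p = 1 := by
    rintro a (ha | ha)
    · exact hA.1.2 a ha
    · rw [Set.mem_singleton_iff] at ha; subst ha; exact hx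
  have hB := isElementaryAbelian_closure hS hp
  have hAB : A ≤ Subgroup.closure S := fun a ha => Subgroup.subset_closure (Or.inl ha)
  have hcard := hA.2 _ hB
  have heq : A = Subgroup.closure S := by
    apply Subgroup.eq_of_le_of_card_ge hAB
    exact hcard
  rw [heq]
  exact Subgroup.subset_closure (Or.inr rfl)

theorem le_thompsonSubgroup {p : ℕ} {A : Subgroup G} (hA : A ∈ maxElementaryAbelianSubgroups p G) :
    A ≤ thompsonSubgroup p G :=
  le_sSup hA

universe v

variable {H : Type v} [Group H]


theorem IsElementaryAbelian.map {p : ℕ} {A : Subgroup G} (hA : IsElementaryAbelian p A) (f : G →* H) :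
    IsElementaryAbelian p (A.map f) := by
  refine ⟨⟨⟨?_⟩⟩, ?_⟩
  · rintro ⟨a, ha⟩ ⟨b, hb⟩
    obtain ⟨a', ha', rfl⟩ := Subgroup.mem_map.mp ha
    obtain ⟨b', hb', rfl⟩ := Subgroup.mem_map.mp hb
    apply Subtype.ext
    show f a' * f b' = f b' * f a'
    rw [← map_mul, ← map_mul, IsElementaryAbelian.commute hA ha' hb']
  · intro a ha
    obtain ⟨a', ha', rfl⟩ := Subgroup.mem_map.mp ha
    rw [← map_pow, hA.2 a' ha', map_one]

theorem IsElementaryAbelian.comap_of_injective {p : ℕ} {B : Subgroup H} (hB : IsElementaryAbelian p B) (f : G →* H)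
    (hf : Function.Injective f) : IsElementaryAbelian p (B.comap f) := by
  refine ⟨⟨⟨?_⟩⟩, ?_⟩
  · rintro ⟨a, ha⟩ ⟨b, hb⟩
    apply Subtype.ext
    apply hf
    show f (a * b) = f (b * a)
    rw [map_mul, map_mul]
    exact IsElementaryAbelian.commute hB ha hb
  · intro a ha
    apply hf
    rw [map_pow, map_one]
    exact hB.2 _ ha

/-- images of maximal elementary abelian subgroups under an isomorphism -/
theorem map_mem_maxElementaryAbelianSubgroups {p : ℕ} (e : G ≃* H) {A : Subgroup G}
    (hA : A ∈ maxElementaryAbelianSubgroups p G) :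
    A.map e.toMonoidHom ∈ maxElementaryAbelianSubgroups p H := by
  refine ⟨IsElementaryAbelian.map hA.1 _, ?_⟩
  intro B hB
  have h1 : Nat.card (A.map e.toMonoidHom) = Nat.card A :=
    Subgroup.card_map_of_injective e.injective
  have h2 : Nat.card (B.map e.symm.toMonoidHom) = Nat.card B :=
    Subgroup.card_map_of_injective e.symm.injective
  rw [h1, ← h2]
  exact hA.2 _ (IsElementaryAbelian.map hB _)

theorem isPGroup_of_isElementaryAbelian {p : ℕ} {A : Subgroup G} (hA : IsElementaryAbelian p A) :
    IsPGroup p A := by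
  rintro ⟨a, ha⟩
  refine ⟨1, ?_⟩
  apply Subtype.ext
  simpa using hA.2 a ha

/-- If `A ≤ U` is maximal elementary abelian in `G`, it is so in `U`. -/
theorem subgroupOf_mem_maxElementaryAbelianSubgroups {p : ℕ} {A U : Subgroup G}
    (hA : A ∈ maxElementaryAbelianSubgroups p G) (hAU : A ≤ U) :
    A.subgroupOf U ∈ maxElementaryAbelianSubgroups p U := by
  refine ⟨IsElementaryAbelian.comap_of_injective hA.1 _ U.subtype_injective, ?_⟩
  intro B hB
  have h1 : Nat.card (A.subgroupOf U) = Nat.card A :=
    Nat.card_congr (Subgroup.subgroupOfEquivOfLe hAU).toEquiv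
  have h2 : Nat.card (B.map U.subtype) = Nat.card B :=
    Subgroup.card_map_of_injective U.subtype_injective
  rw [h1, ← h2]
  exact hA.2 _ (IsElementaryAbelian.map hB _)

/-- If some maximal elementary abelian subgroup of `G` lies in `U`, the maximal elementary abelian subgroups of
`U` are maximal elementary abelian in `G`. -/
theorem map_subtype_mem_maxElementaryAbelianSubgroups {p : ℕ} {A U : Subgroup G}
    (hA : A ∈ maxElementaryAbelianSubgroups p G) (hAU : A ≤ U) {B : Subgroup U}
    (hB : B ∈ maxElementaryAbelianSubgroups p U) :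
    B.map U.subtype ∈ maxElementaryAbelianSubgroups p G := by
  refine ⟨IsElementaryAbelian.map hB.1 _, ?_⟩
  intro C hC
  have h1 : Nat.card (A.subgroupOf U) = Nat.card A :=
    Nat.card_congr (Subgroup.subgroupOfEquivOfLe hAU).toEquiv
  have h2 : Nat.card (B.map U.subtype) = Nat.card B :=
    Subgroup.card_map_of_injective U.subtype_injective
  rw [h2]
  calc Nat.card C ≤ Nat.card A := hA.2 C hC
    _ = Nat.card (A.subgroupOf U) := h1.symm
    _ ≤ Nat.card B := hB.2 _ (subgroupOf_mem_maxElementaryAbelianSubgroups hA hAU).1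

/-- The Thompson subgroup of `U`, viewed in `G`, equals that of `G`, provided all maximal elementary abelian subgroups
of `G` lie in `U`. -/
theorem thompsonSubgroupOf_eq [Finite G] {p : ℕ} (U : Subgroup G)
    (hU : ∀ A ∈ maxElementaryAbelianSubgroups p G, A ≤ U) :
    thompsonSubgroupOf p U = thompsonSubgroup p G := by
  obtain ⟨A₀, hA₀⟩ := maxElementaryAbelianSubgroups_nonempty (G := G) p
  apply le_antisymm
  · unfold thompsonSubgroupOf
    rw [Subgroup.map_le_iff_le_comap]
    apply sSup_le
    intro B hB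
    rw [← Subgroup.map_le_iff_le_comap]
    exact le_thompsonSubgroup (map_subtype_mem_maxElementaryAbelianSubgroups hA₀ (hU _ hA₀) hB)
  · apply sSup_le
    intro A hA
    have h1 := subgroupOf_mem_maxElementaryAbelianSubgroups hA (hU _ hA)
    have h2 : A.subgroupOf U ≤ thompsonSubgroup p U := le_thompsonSubgroup h1
    have h3 := Subgroup.map_mono (f := U.subtype) h2
    rw [Subgroup.map_subgroupOf_eq_of_le (hU _ hA)] at h3
    exact h3

end Cfsg.Agent.Lib.Helper91
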