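import Mathlib
import Cfsg.Prelude.Def_Transfer
import Cfsg.Prelude.Def_PLocal
import Cfsg.Agent.Lib.Helper91.Thompson

set_option autoImplicit false

namespace Cfsg.Agent.Lib.Helper91

open Cfsg

universe u v

variable {G : Type u} [Group G]

theorem card_mul_card_le_card_inf_mul_card_sup [Finite G] (B W : Subgroup G) :
    Nat.card B * Nat.card W ≤ Nat.card (B ⊓ W : Subgroup G) * Nat.card (B ⊔ W : Subgroup G) := by
  have h1 : Nat.card B = Nat.card (B ⊓ W : Subgroup G) * W.relIndex B := by
    rw [← Subgroup.relIndex_bot_left, ← Subgroup.relIndex_bot_left (H := B ⊓ W),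
      ← Subgroup.inf_relIndex_left (H := B) (K := W)]
    exact (Subgroup.relIndex_mul_relIndex ⊥ (B ⊓ W) B bot_le inf_le_left).symm
  have h2 : Nat.card (B ⊔ W : Subgroup G) = Nat.card W * W.relIndex (B ⊔ W) := by
    rw [← Subgroup.relIndex_bot_left, ← Subgroup.relIndex_bot_left (H := W)]
    exact (Subgroup.relIndex_mul_relIndex ⊥ W (B ⊔ W) bot_le le_sup_right).symm
  have h3 : W.relIndex B ≤ W.relIndex (B ⊔ W) := by
    apply Subgroup.relIndex_le_of_le_right le_sup_left
    intro h0
    have := Subgroup.relIndex_dvd_card W (B ⊔ W)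
    rw [h0, zero_dvd_iff] at this
    exact Nat.card_pos.ne' this
  rw [h1, h2]
  calc Nat.card (B ⊓ W : Subgroup G) * W.relIndex B * Nat.card W
      ≤ Nat.card (B ⊓ W : Subgroup G) * W.relIndex (B ⊔ W) * Nat.card W := by gcongr
    _ = Nat.card (B ⊓ W : Subgroup G) * (Nat.card W * W.relIndex (B ⊔ W)) := by ring

theorem isBestOffenderOn_of_mem_maxElementaryAbelianSubgroups [Finite G] {p : ℕ} (V : Subgroup G)
    (hV : IsElementaryAbelian p V) {A : Subgroup G} (hA : A ∈ maxElementaryAbelianSubgroups p G) :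
    IsBestOffenderOn p V A := by
  refine ⟨?_, ?_, ?_⟩
  · intro B hBA
    set W : Subgroup G := V ⊓ Subgroup.centralizer (B : Set G) with hW
    have hE : IsElementaryAbelian p (B ⊔ W) := by
      have : B ⊔ W = Subgroup.closure ((B : Set G) ∪ (W : Set G)) := by
        rw [Subgroup.closure_union, Subgroup.closure_eq, Subgroup.closure_eq]
      rw [this]
      apply isElementaryAbelian_closure
      · rintro a (ha | ha) b (hb | hb)
        · exact IsElementaryAbelian.commute hA.1 (hBA ha) (hBA hb)
        · exact ((Subgroup.mem_centralizer_iff.mp hb.2) a ha)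
        · exact ((Subgroup.mem_centralizer_iff.mp ha.2) b hb).symm
        · exact IsElementaryAbelian.commute hV ha.1 hb.1
      · rintro a (ha | ha)
        · exact hA.1.2 a (hBA ha)
        · exact hV.2 a ha.1
    have h1 := hA.2 _ hE
    have h2 := card_mul_card_le_card_inf_mul_card_sup B W
    have h3 : B ⊓ W ≤ V ⊓ Subgroup.centralizer (A : Set G) := by
      intro x hx
      refine ⟨hx.2.1, ?_⟩
      show x ∈ Subgroup.centralizer (A : Set G)
      rw [Subgroup.mem_centralizer_iff]
      intro a ha
      exact IsElementaryAbelian.commute hA.1 ha (hBA hx.1)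
    have h4 : Nat.card (B ⊓ W : Subgroup G) ≤ Nat.card (V ⊓ Subgroup.centralizer (A : Set G) : Subgroup G) :=
      Subgroup.card_le_of_le h3
    calc Nat.card B * Nat.card W ≤ Nat.card (B ⊓ W : Subgroup G) * Nat.card (B ⊔ W : Subgroup G) := h2
      _ ≤ Nat.card (V ⊓ Subgroup.centralizer (A : Set G) : Subgroup G) * Nat.card A := Nat.mul_le_mul h4 h1
      _ = Nat.card A * Nat.card (V ⊓ Subgroup.centralizer (A : Set G) : Subgroup G) := Nat.mul_comm _ _
  · have : ⁅A, A⁆ = ⊥ := by
      rw [Subgroup.commutator_eq_bot_iff_le_centralizer]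
      intro a ha
      rw [Subgroup.mem_centralizer_iff]
      intro b hb
      exact IsElementaryAbelian.commute hA.1 hb ha
    rw [this]
    exact bot_le
  · intro a ha
    rw [hA.1.2 a ha]
    exact Subgroup.one_mem _

end Cfsg.Agent.Lib.Helper91
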