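import Cfsg.Agent.Lib.Helper47.BG11b
import Cfsg.Agent.Lib.Helper24.PxQ
import Cfsg.Agent.S1443

/-!
# Bender–Glauberman Theorem 11.7, step (a6) of the key step

`a6`: in the cyclic case of the key step, `N_G(A)` normalizes `X = C_A(B₀)`.
-/

set_option autoImplicit false

namespace Cfsg.Agent.Lib.Helper91.BG117

open Subgroup Cfsg Cfsg.Agent.Lib.Helper33 Cfsg.Agent.Lib.Helper24 Cfsg.Agent.Lib.Helper32
open Cfsg.Agent.Lib.Helper24.BG Cfsg.Agent.Lib.Helper23 Cfsg.Agent.Lib.Helper63
open Cfsg.Agent.Lib.Helper47.BG11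

universe u

variable {G : Type u} [Group G] [Finite G]

omit [Finite G] in
/-- `X ≤ C(Y)` iff `Y ≤ C(X)` -/
theorem le_centralizer_symm {X Y : Subgroup G} (h : X ≤ centralizer (Y : Set G)) :
    Y ≤ centralizer (X : Set G) := by
  intro y hy
  rw [mem_centralizer_iff]
  intro x hx
  exact ((mem_centralizer_iff.mp (h hx)) y hy).symm

omit [Finite G] in
/-- an element normalizing `Q` normalizes `C_G(Q)` -/
theorem mem_normalizer_centralizer {Q : Subgroup G} {n : G} (hn : n ∈ normalizer (Q : Set G)) :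
    n ∈ normalizer ((centralizer (Q : Set G) : Subgroup G) : Set G) := by
  have key : ∀ m : G, m ∈ normalizer (Q : Set G) → ∀ x ∈ centralizer (Q : Set G),
      m * x * m⁻¹ ∈ centralizer (Q : Set G) := by
    intro m hm x hx
    rw [mem_centralizer_iff]
    intro y hy
    have hy' : m⁻¹ * y * m ∈ Q := by
      have := (mem_normalizer_iff.mp (inv_mem hm) y).mp hy
      simpa using this
    have hc := (mem_centralizer_iff.mp hx) _ hy'
    calc y * (m * x * m⁻¹) = m * ((m⁻¹ * y * m) * x) * m⁻¹ := by group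
      _ = m * (x * (m⁻¹ * y * m)) * m⁻¹ := by rw [hc]
      _ = m * x * m⁻¹ * y := by group
  rw [mem_normalizer_iff]
  intro x
  constructor
  · exact key n hn x
  · intro h
    have := key n⁻¹ (inv_mem hn) _ h
    simpa [mul_assoc] using this

/-- **Step (a6)** of the key step of B&G Theorem 11.7. -/
theorem a6 (hG : IsMinSimpleOddOrder G) (h10 : Stmt1410 G) {M A₀ A : Subgroup G} {p : ℕ}
    [hp : Fact p.Prime] (e : Exc M p A₀ A) {q : ℕ} [hq : Fact q.Prime] (hqp : q ≠ p)
    {B₀ B X : Subgroup G} (hB₀n : normalizer (B₀ : Set G) ≤ M) (hB₀B : B₀ ≤ B) (hBM : B ≤ M)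
    (hBq : IsPGroup q B) (hAB : A ≤ normalizer (B : Set G))
    (hX : X = A ⊓ centralizer (B₀ : Set G)) (hXB : X ≤ centralizer (B : Set G))
    (hqC : q ∣ Nat.card (centralizer (A : Set G)))
    (hab : ∀ S : Subgroup G, IsPGroup q S → S ≤ M → B ≤ S →
      (∀ x ∈ S, ∀ y ∈ S, x * y = y * x) ∧ ∀ x ∈ S, x ^ q = 1 → x ∈ B) :
    normalizer (A : Set G) ≤ normalizer (X : Set G) := by
  have hXA : X ≤ A := hX ▸ inf_le_left
  have hq2 : q ≠ 2 := by
    rintro rfl
    have h1 : 2 ∣ Nat.card G := dvd_trans hqC (Subgroup.card_subgroup_dvd_card _)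
    have h2 := hG.1
    rw [Nat.odd_iff] at h2
    omega
  have hqA := e.not_dvd_card hq.out hqp
  have hTH := e.transHyp hG h10
  have hZ : ¬ RankLE 1 ↥(A ⊓ centralizer (A : Set G)) := by
    rw [inf_of_le_left e.le_cent]
    refine BG10.not_rankLE_one_of_elemAb e.elem le_rfl ?_
    rw [e.card]
    have := hp.out.one_lt
    nlinarith
  have htr := transitivity_74 hG hTH hZ hq.out hqA hqC
  have hAtop : A ≠ ⊤ := fun h => e.coatom.1 (top_le_iff.mp (h ▸ e.le))
  have hsn : (A.subgroupOf A).IsSubnormal :=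
    Cfsg.Agent.Lib.Helper91.isSubnormal_of_isNilpotent e.isPGroup.isNilpotent _
  obtain ⟨-, -, -, h75⟩ := Cfsg.Agent.S1395.result hG A hTH q hq.out hqA A hAtop
    (fun r _ hrd => hrd) le_rfl hsn (fun Q₁ h₁ Q₂ h₂ => htr Q₁ h₁ Q₂ h₂)
  -- a maximal `A`-invariant `q`-subgroup containing `B`
  obtain ⟨Qs, hQs, hBQs⟩ := exists_maxInv_ge (mem_invSubgroups_of_isPGroup hq.out hBq hAB)
  have hQsq : IsPGroup q Qs := isPGroup_of_mem_invSubgroups hq.out hQs.1
  have hAQs : A ≤ normalizer (Qs : Set G) := hQs.1.2.2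
  -- `B` is abelian
  have hBab := (hab B hBq hBM le_rfl).1
  have hBcent : B ≤ centralizer (B : Set G) := by
    intro a ha
    rw [mem_centralizer_iff]
    intro b hb
    exact hBab b hb a ha
  -- `S₀ = C_{Q*}(B)`
  set S₀ : Subgroup G := Qs ⊓ centralizer (B : Set G) with hS₀
  have hS₀q : IsPGroup q S₀ := hQsq.to_le inf_le_left
  have hS₀M : S₀ ≤ M := by
    refine le_trans ?_ hB₀n
    refine le_trans ?_ (centralizer_le_normalizer _)
    exact inf_le_right.trans (Subgroup.centralizer_le hB₀B)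
  have hBS₀ : B ≤ S₀ := le_inf hBQs hBcent
  obtain ⟨-, hS₀Ω⟩ := hab S₀ hS₀q hS₀M hBS₀
  have hXcop : (Nat.card X).Coprime q := by
    have h1 : (Nat.card A).Coprime q := by
      rw [e.card]
      exact Nat.Coprime.pow_left 2 ((Nat.coprime_primes hp.out hq.out).mpr (Ne.symm hqp))
    exact Nat.Coprime.coprime_dvd_left (Subgroup.card_dvd_of_le hXA) h1
  have hXS₀n : X ≤ normalizer (S₀ : Set G) := by
    refine le_normalizer_inf (hXA.trans hAQs) ?_
    intro x hx
    exact mem_normalizer_centralizer ((centralizer_le_normalizer _) (hXB hx))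
  have hXS₀ : X ≤ centralizer (S₀ : Set G) := by
    refine Cfsg.Agent.S1443.result q hq2 S₀ ⊥ X hS₀q bot_le ?_ hXS₀n hXcop ?_
    · refine ⟨⟨⟨fun a b => ?_⟩⟩, fun a ha => ?_⟩
      · apply Subtype.ext
        have ha := a.2
        have hb := b.2
        rw [mem_bot] at ha hb
        simp [ha, hb]
      · rw [mem_bot] at ha
        rw [ha, one_pow]
    · intro x hx hxo
      have hxB : x ∈ B := hS₀Ω x hx.1 (by rw [← hxo]; exact pow_orderOf_eq_one x)
      intro y hy
      rw [mem_centralizer_iff]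
      intro z hz
      rw [Set.mem_singleton_iff] at hz
      rw [hz]
      exact (mem_centralizer_iff.mp (hXB hy)) x hxB
  -- Thompson `P × Q`: `X` centralizes `Q*`
  have hXQs : X ≤ centralizer (Qs : Set G) :=
    thompson_PxQ (p := q) B X Qs hBq hXcop hQsq (le_centralizer_symm hXB)
      (hBQs.trans le_normalizer) (hXA.trans hAQs) (le_centralizer_symm hXS₀)
  have hXeq : X = A ⊓ centralizer (Qs : Set G) := by
    apply le_antisymm (le_inf hXA hXQs)
    rw [hX]
    exact inf_le_inf_left _ (Subgroup.centralizer_le (hB₀B.trans hBQs))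
  rw [(h75 Qs hQs).2]
  refine sup_le ?_ ?_
  · refine (piCoreOf_le _ _).trans ?_
    refine (Subgroup.centralizer_le hXA).trans (centralizer_le_normalizer _)
  · intro n hn
    rw [hXeq]
    exact le_normalizer_inf (A := zpowers n)
      ((zpowers_le).mpr hn.1) ((zpowers_le).mpr (mem_normalizer_centralizer hn.2)) (mem_zpowers n)

end Cfsg.Agent.Lib.Helper91.BG117
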