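import Cfsg.Agent.Lib.Helper6.BN3

/-! # Ti mini-hive (S1074, owner helper31): leaf TI-DICH `ti_dich` (helper91)
Copy of the first half of `Helper6.simple_of_irreducible`. -/

set_option autoImplicit false

namespace Cfsg.Agent.Lib.Helper31.Ti

open Cfsg Cfsg.Agent.Lib.Helper6
open scoped Pointwise

/-- TI-DICH. -/
theorem ti_dich {G : Type*} [Group G] (P : Cfsg.BNPair G) (hirr : P.Irreducible) (hcore : P.B.normalCore = ⊥)
    (M : Subgroup G) (hM : M.Normal) : M = ⊥ ∨ M ⊔ P.B = ⊤ := by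
  have hB : P.B ≤ M ⊔ P.B := le_sup_right
  have hMp := overgroup_eq_parabolic hB
  set J : Set G := P.S ∩ ((M ⊔ P.B : Subgroup G) : Set G) with hJdef
  have hJS : J ⊆ P.S := Set.inter_subset_left
  have hcomm : ∀ s1 ∈ J, ∀ s2 ∈ P.S \ J, s1 * s2 * s1⁻¹ * s2⁻¹ ∈ P.B := by
    rintro s1 ⟨hs1, hs1M⟩ s2 ⟨hs2, hs2J⟩
    have hs2M : s2 ∉ M ⊔ P.B := fun h => hs2J ⟨hs2, h⟩
    have hs1N := P.subset hs1
    have hs2N := P.subset hs2
    -- s1 = k * b
    have hmem : s1 ∈ ((M ⊔ P.B : Subgroup G) : Set G) := hs1M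
    rw [Subgroup.normal_mul] at hmem
    obtain ⟨k, hk, b, hb, hkb⟩ := Set.mem_mul.1 hmem
    have hkeq : k = s1 * b⁻¹ := by rw [← hkb]; group
    -- k' = s2 k s2⁻¹  ∈ M
    have hk' : s2 * k * s2⁻¹ ∈ M := hM.conj_mem k hk s2
    have hk'M : s2 * k * s2⁻¹ ∈ M ⊔ P.B := Subgroup.mem_sup_left hk'
    have hg : s2 * s1 * b⁻¹ ∈ C P (s2 * s1) :=
      mul_mem_C_right P (P.B.inv_mem hb) (self_mem_C P _)
    have h3 := T3_right_inv P hs2 (P.N.mul_mem hs2N hs1N) hg
    have e3 : s2 * s1 * b⁻¹ * s2⁻¹ = s2 * k * s2⁻¹ := by rw [hkeq]; group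
    rw [e3, C_mul_inv P hs2] at h3
    -- in either case the representative lies in M
    have hrepM : ∀ n : G, s2 * k * s2⁻¹ ∈ C P n → n ∈ M ⊔ P.B := by
      intro n hn
      rw [mem_C] at hn
      obtain ⟨a, ha, c, hc, he⟩ := hn
      have e : n = a⁻¹ * (s2 * k * s2⁻¹) * c⁻¹ := by rw [he]; group
      rw [e]
      exact Subgroup.mul_mem _ (Subgroup.mul_mem _ (Subgroup.inv_mem _ (hB ha)) hk'M)
        (Subgroup.inv_mem _ (hB hc))
    rcases h3 with h3 | h3
    · have hn := hrepM _ h3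
      have e : s2 * s1 * s2 = s2 * (s1 * s2) := by group
      rw [e] at hn
      exact comm_of_conj_mem hB hs1 hs2 hs1M hs2M hn
    · exfalso
      have hn := hrepM _ h3
      apply hs2M
      have e : s2 = (s2 * s1) * s1⁻¹ := by group
      rw [e]
      exact Subgroup.mul_mem _ hn (Subgroup.inv_mem _ hs1M)
  -- use irreducibility
  by_cases hJne : J.Nonempty
  · by_cases hJc : (P.S \ J).Nonempty
    · exfalso
      obtain ⟨s, hs, s', hs', hnot⟩ := hirr J hJS hJne hJc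
      exact hnot (hcomm s hs s' hs')
    · -- J = S, so M ⊔ B = ⊤
      right
      have hJeq : J = P.S := by
        apply Set.Subset.antisymm hJS
        intro x hx
        by_contra hxJ
        exact hJc ⟨x, hx, hxJ⟩
      rw [hMp, hJeq, parabolic_S]
  · -- J = ∅, so M ≤ B
    left
    have hJeq : J = ∅ := Set.not_nonempty_iff_eq_empty.1 hJne
    have hKB : M ⊔ P.B = P.B := by
      rw [hMp, hJeq]
      unfold BNPair.parabolic
      simp
    have hle : M ≤ P.B := by rw [← hKB]; exact le_sup_left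
    have := (Subgroup.normal_le_normalCore (H := P.B) (N := M)).2 hle
    rw [hcore] at this
    exact le_bot_iff.1 this

end Cfsg.Agent.Lib.Helper31.Ti
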