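import Mathlib
import Cfsg.Prelude.Def_Local
import Cfsg.Agent.Lib.Helper1.Gaschutz
import Cfsg.Agent.Lib.Helper22.FStar

set_option autoImplicit false

namespace Cfsg.Agent.Lib.Helper91

open Cfsg

universe u

section innerAut

variable {G : Type u} [Group G] [Finite G]

theorem fittingSubgroup_eq_pCore_of_pPrimeCore_eq_bot {p : ℕ} [hp : Fact p.Prime]
    (hcore : Cfsg.pPrimeCore p G = ⊥) : Cfsg.fittingSubgroup G = Cfsg.pCore p G := by
  rw [Cfsg.Agent.Lib.Helper22.fittingSubgroup_eq_iSup_pCore]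
  apply le_antisymm
  · apply iSup_le
    intro q
    have : Fact (q : ℕ).Prime := ⟨q.2⟩
    by_cases hq : (q : ℕ) = p
    · rw [hq]
    · have := Cfsg.Agent.Lib.Helper22.pCore_le_pPrimeCore (G := G) (p := p) (q := q) hq
      rw [hcore] at this
      exact this.trans bot_le
  · exact le_iSup (fun q : Nat.Primes => Cfsg.pCore (q : ℕ) G) ⟨p, hp.out⟩

/-- An automorphism fixing a Sylow `p`-subgroup and the layer elementwise is inner, if `O_{p'}(G) = 1`. -/
theorem inner_of_fix_sylow_and_layer {p : ℕ} [hp : Fact p.Prime] (hcore : Cfsg.pPrimeCore p G = ⊥)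
    (T : Sylow p G) (α : MulAut G) (hfixT : ∀ x ∈ (T : Subgroup G), α x = x)
    (hfixE : ∀ x ∈ Cfsg.layer G, α x = x) : ∃ g : G, ∀ x : G, α x = g * x * g⁻¹ := by
  classical
  have hF := fittingSubgroup_eq_pCore_of_pPrimeCore_eq_bot (G := G) hcore
  have hpn := Cfsg.Agent.Lib.Helper22.pCore_normal' p G
  have hpT : Cfsg.pCore p G ≤ T :=
    (Cfsg.Agent.Lib.Helper22.pCore_isPGroup' p G).le_sylow_of_normal T
  -- fixed points
  let Fix : Subgroup G := MonoidHom.eqLocus α.toMonoidHom (MonoidHom.id G)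
  have hFixmem : ∀ x, x ∈ Fix ↔ α x = x := fun x => Iff.rfl
  have hFS : Cfsg.generalizedFittingSubgroup G ≤ Fix := by
    unfold Cfsg.generalizedFittingSubgroup
    apply sup_le
    · intro x hx; exact hfixE x hx
    · rw [hF]; intro x hx; exact hfixT x (hpT hx)
  have hFSn := Cfsg.Agent.Lib.Helper22.generalizedFittingSubgroup_normal G
  set K : Subgroup G := Subgroup.centralizer (Cfsg.generalizedFittingSubgroup G : Set G) with hK
  have hKn : K.Normal := inferInstance
  have hKle : K ≤ Cfsg.generalizedFittingSubgroup G :=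
    Cfsg.Agent.Lib.Helper22.centralizer_generalizedFitting_le G
  have hKc : IsMulCommutative K := by
    refine ⟨⟨fun a b => ?_⟩⟩
    apply Subtype.ext
    have := Subgroup.mem_centralizer_iff.mp a.2 b (hKle b.2)
    simpa using this.symm
  have hKnil : Group.IsNilpotent K := Cfsg.Agent.Lib.Helper22.isNilpotent_of_isMulCommutative ↥K
  have hKF : K ≤ Cfsg.pCore p G := by
    rw [← hF]; exact Cfsg.Agent.Lib.Helper22.le_fittingSubgroup hKn hKnil
  have hKp : IsPGroup p K := (Cfsg.Agent.Lib.Helper22.pCore_isPGroup' p G).to_le hKF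
  have hcop : (Nat.card K).Coprime (T : Subgroup G).index := by
    obtain ⟨n, hn⟩ := hKp.exists_card_eq
    rw [hn]
    exact Nat.Coprime.pow_left n ((Nat.Prime.coprime_iff_not_dvd hp.out).mpr T.not_dvd_index)
  -- the cocycle
  have hmem : ∀ x : G, α x * x⁻¹ ∈ K := by
    intro x
    rw [hK, Subgroup.mem_centralizer_iff]
    intro y hy
    have hy' : x⁻¹ * y * x ∈ Cfsg.generalizedFittingSubgroup G := by
      have := hFSn.conj_mem y hy x⁻¹
      simpa using this
    have h1 : α (x⁻¹ * y * x) = x⁻¹ * y * x := hFS hy'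
    have h2 : α y = y := hFS hy
    rw [map_mul, map_mul, map_inv, h2] at h1
    -- (α x)⁻¹ * y * α x = x⁻¹ * y * x
    calc y * (α x * x⁻¹) = α x * ((α x)⁻¹ * y * α x) * x⁻¹ := by group
      _ = α x * (x⁻¹ * y * x) * x⁻¹ := by rw [h1]
      _ = α x * x⁻¹ * y := by group
  let F : G → K := fun x => ⟨α x * x⁻¹, hmem x⟩
  have hcoc : ∀ x g, F (x * g) = F x * MulAut.conjNormal x (F g) := by
    intro x g
    apply Subtype.ext
    simp only [F, Subgroup.coe_mul, MulAut.conjNormal_apply, map_mul, mul_inv_rev]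
    group
  have hU : ∀ g, ∀ u ∈ (T : Subgroup G), F (g * u) = F g := by
    intro g u hu
    rw [hcoc]
    have : F u = 1 := by
      apply Subtype.ext
      simp only [F, hfixT u hu, mul_inv_cancel, Subgroup.coe_one]
    rw [this, map_one, mul_one]
  obtain ⟨k, hk⟩ := Cfsg.Agent.Lib.Helper1.cocycle_coboundary K (T : Subgroup G) hcop F hcoc hU
  refine ⟨(k : G), fun x => ?_⟩
  have h1 := congrArg Subtype.val (hk x)
  simp only [F, Subgroup.coe_mul, Subgroup.coe_inv, MulAut.conjNormal_apply] at h1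
  -- α x * x⁻¹ = k * (x * k * x⁻¹)⁻¹
  calc α x = (α x * x⁻¹) * x := by group
    _ = (k * (x * k * x⁻¹)⁻¹) * x := by rw [h1]
    _ = k * x * (k : G)⁻¹ := by group

end innerAut

end Cfsg.Agent.Lib.Helper91
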