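import Mathlib

set_option autoImplicit false

namespace Cfsg.Agent.Lib.Helper91

universe u

section minnormal

variable {G : Type u} [Group G]

/-- `M` is a minimal normal subgroup. -/
def IsMinNormal (M : Subgroup G) : Prop :=
  M.Normal ∧ M ≠ ⊥ ∧ ∀ K : Subgroup G, K.Normal → K ≤ M → K = ⊥ ∨ K = M

theorem card_subgroup_lt_of_ne_top' [Finite G] {U : Subgroup G} (hU : U ≠ ⊤) :
    Nat.card U < Nat.card G := by
  apply lt_of_le_of_ne (Subgroup.card_le_card_group U)
  intro h
  exact hU ((Subgroup.card_eq_iff_eq_top U).mp h)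

/-- every nontrivial normal subgroup of a finite group contains a minimal normal subgroup -/
theorem exists_isMinNormal_le [Finite G] (N : Subgroup G) (hNn : N.Normal) (hN : N ≠ ⊥) :
    ∃ M : Subgroup G, IsMinNormal M ∧ M ≤ N := by
  classical
  let S : Set (Subgroup G) := {K | K.Normal ∧ K ≠ ⊥ ∧ K ≤ N}
  have hS : S.Finite := Set.toFinite S
  have hne : S.Nonempty := ⟨N, hNn, hN, le_rfl⟩
  obtain ⟨M, hM, hmin⟩ := Set.exists_min_image S (fun K : Subgroup G => Nat.card K) hS hne
  refine ⟨M, ⟨hM.1, hM.2.1, ?_⟩, hM.2.2⟩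
  intro K hKn hKM
  by_cases hK : K = ⊥
  · exact Or.inl hK
  · right
    have h1 := hmin K ⟨hKn, hK, hKM.trans hM.2.2⟩
    exact Subgroup.eq_of_le_of_card_ge hKM h1

/-- image of a minimal normal subgroup under an automorphism -/
theorem IsMinNormal.map_mulEquiv {M : Subgroup G} (hM : IsMinNormal M) (φ : G ≃* G) :
    IsMinNormal (M.map φ.toMonoidHom) := by
  obtain ⟨hn, hne, hmin⟩ := hM
  refine ⟨hn.map _ φ.surjective, ?_, ?_⟩
  · intro h
    apply hne
    rw [Subgroup.map_eq_bot_iff_of_injective _ φ.injective] at h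
    exact h
  · intro K hKn hK
    have hK' : K.comap φ.toMonoidHom ≤ M := by
      intro x hx
      have : φ x ∈ M.map φ.toMonoidHom := hK hx
      obtain ⟨y, hy, hyx⟩ := this
      have : y = x := φ.injective hyx
      rwa [← this]
    rcases hmin _ (hKn.comap _) hK' with h | h
    · left
      rw [← Subgroup.map_comap_eq_self_of_surjective (f := φ.toMonoidHom) φ.surjective K, h, Subgroup.map_bot]
    · right
      rw [← Subgroup.map_comap_eq_self_of_surjective (f := φ.toMonoidHom) φ.surjective K, h]

end minnormal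


section thmA

/-- A minimal normal subgroup normalizes every subnormal subgroup (finite groups). -/
theorem isMinNormal_le_normalizer_aux : ∀ (n : ℕ) (G : Type u) [Group G] [Finite G], Nat.card G = n →
    ∀ H M : Subgroup G, H.IsSubnormal → IsMinNormal M → M ≤ Subgroup.normalizer (H : Set G) := by
  intro n
  induction n using Nat.strong_induction_on with
  | _ n ih =>
  intro G _ _ hn H M hH hM
  by_cases hHtop : H = ⊤
  · rw [hHtop, Subgroup.normalizer_eq_top]; exact le_top
  obtain ⟨N, hNn, hHN, hNlt⟩ := hH.exists_normal_and_le_and_lt_top_of_ne hHtop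
  obtain ⟨hMn, hMne, hMmin⟩ := hM
  have hMN : (M ⊓ N).Normal := inferInstance
  rcases hMmin (M ⊓ N) hMN inf_le_left with h | h
  · -- M ∩ N = 1: M centralizes N
    have h1 : ⁅M, N⁆ = ⊥ := by
      rw [eq_bot_iff, ← h]; exact Subgroup.commutator_le_inf M N
    have h2 : M ≤ Subgroup.centralizer (N : Set G) := Subgroup.commutator_eq_bot_iff_le_centralizer.mp h1
    have h3 : Subgroup.centralizer (N : Set G) ≤ Subgroup.centralizer (H : Set G) :=
      Subgroup.centralizer_le hHN
    exact (h2.trans h3).trans (Subgroup.centralizer_le_normalizer _)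
  · -- M ≤ N
    have hMleN : M ≤ N := by rw [← h]; exact inf_le_right
    have hNc : Nat.card N < n := hn ▸ card_subgroup_lt_of_ne_top' hNlt.ne
    have hM'n : (M.subgroupOf N).Normal := inferInstance
    have hM'ne : M.subgroupOf N ≠ ⊥ := by
      intro h0
      apply hMne
      rw [Subgroup.subgroupOf_eq_bot, disjoint_iff, inf_eq_left.mpr hMleN] at h0
      exact h0
    obtain ⟨M₁, hM₁, hM₁le⟩ := exists_isMinNormal_le (M.subgroupOf N) hM'n hM'ne
    -- the normal closure of M₁ (in G) is M
    set T : Subgroup G := Subgroup.normalClosure ((M₁.map N.subtype : Subgroup G) : Set G) with hT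
    have hM₁M : M₁.map N.subtype ≤ M := by
      rintro x ⟨y, hy, rfl⟩
      exact Subgroup.mem_subgroupOf.mp (hM₁le hy)
    have hTM : T ≤ M := Subgroup.normalClosure_le_normal hM₁M
    have hTne : T ≠ ⊥ := by
      intro h0
      apply hM₁.2.1
      have h1 : M₁.map N.subtype ≤ T := Subgroup.le_normalClosure
      rw [h0, le_bot_iff, Subgroup.map_eq_bot_iff_of_injective _ N.subtype_injective] at h1
      exact h1
    have hTeq : T = M := (hMmin T inferInstance hTM).resolve_left hTne
    rw [← hTeq, hT]
    unfold Subgroup.normalClosure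
    rw [Subgroup.closure_le]
    intro x hx
    rw [Group.mem_conjugatesOfSet_iff] at hx
    obtain ⟨a, ha, hax⟩ := hx
    obtain ⟨g, rfl⟩ := isConj_iff.mp hax
    obtain ⟨a₁, ha₁, rfl⟩ := ha
    -- the conjugate of M₁ by g
    have hmin_g : IsMinNormal (M₁.map (MulAut.conjNormal g : MulAut N).toMonoidHom) :=
      hM₁.map_mulEquiv _
    have h5 := ih (Nat.card N) hNc N rfl (H.subgroupOf N) _ hH.subgroupOf hmin_g
    have h6 : (MulAut.conjNormal g : MulAut N) a₁ ∈ Subgroup.normalizer ((H.subgroupOf N : Subgroup N) : Set N) :=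
      h5 ⟨a₁, ha₁, rfl⟩
    have h7 := Subgroup.le_normalizer_map N.subtype (H := H.subgroupOf N) ⟨_, h6, rfl⟩
    rw [Subgroup.map_subgroupOf_eq_of_le hHN] at h7
    simpa [MulAut.conjNormal_apply] using h7

theorem IsMinNormal.le_normalizer {G : Type u} [Group G] [Finite G] {H M : Subgroup G}
    (hM : IsMinNormal M) (hH : H.IsSubnormal) : M ≤ Subgroup.normalizer (H : Set G) :=
  isMinNormal_le_normalizer_aux (Nat.card G) G rfl H M hH hM

end thmA


section join
open scoped Pointwise

/-- Wielandt: the join of two subnormal subgroups of a finite group is subnormal. -/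
theorem isSubnormal_sup_aux : ∀ (n : ℕ) (G : Type u) [Group G] [Finite G], Nat.card G = n →
    ∀ A B : Subgroup G, A.IsSubnormal → B.IsSubnormal → (A ⊔ B).IsSubnormal := by
  intro n
  induction n using Nat.strong_induction_on with
  | _ n ih =>
  intro G _ _ hn A B hA hB
  by_cases htriv : (⊤ : Subgroup G) = ⊥
  · have : A ⊔ B = ⊤ := by
      rw [eq_top_iff, htriv]; exact bot_le
    rw [this]; exact Subgroup.IsSubnormal.top
  obtain ⟨M, hM, -⟩ := exists_isMinNormal_le (⊤ : Subgroup G) inferInstance htriv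
  have hMn : M.Normal := hM.1
  have hcard : Nat.card (G ⧸ M) < n := by
    have h1 := Subgroup.card_eq_card_quotient_mul_card_subgroup M
    have h2 : 1 < Nat.card M := (Subgroup.one_lt_card_iff_ne_bot M).mpr hM.2.1
    have h3 : 0 < Nat.card (G ⧸ M) := Nat.card_pos
    rw [← hn, h1]
    nlinarith
  have h1 := ih _ hcard (G ⧸ M) rfl _ _ (hA.map (f := QuotientGroup.mk' M) (QuotientGroup.mk'_surjective M))
    (hB.map (f := QuotientGroup.mk' M) (QuotientGroup.mk'_surjective M))
  rw [← Subgroup.map_sup] at h1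
  have h2 := h1.comap (QuotientGroup.mk' M)
  rw [Subgroup.comap_map_eq, QuotientGroup.ker_mk'] at h2
  -- A ⊔ B is normal in (A ⊔ B) ⊔ M
  have h3 : M ≤ Subgroup.normalizer ((A ⊔ B : Subgroup G) : Set G) :=
    (le_inf (hM.le_normalizer hA) (hM.le_normalizer hB)).trans
      (Subgroup.normalizer_inf_normalizer_le_normalizer_sup A B)
  have h4 : (A ⊔ B) ⊔ M ≤ Subgroup.normalizer ((A ⊔ B : Subgroup G) : Set G) :=
    sup_le Subgroup.le_normalizer h3
  exact Subgroup.IsSubnormal.step _ _ le_sup_left h2
    ((Subgroup.normal_subgroupOf_iff_le_normalizer le_sup_left).mpr h4)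

theorem isSubnormal_sup {G : Type u} [Group G] [Finite G] {A B : Subgroup G} (hA : A.IsSubnormal)
    (hB : B.IsSubnormal) : (A ⊔ B).IsSubnormal :=
  isSubnormal_sup_aux (Nat.card G) G rfl A B hA hB

theorem isSubnormal_sSup {G : Type u} [Group G] [Finite G] (S : Set (Subgroup G))
    (hS : ∀ U ∈ S, U.IsSubnormal) : (sSup S).IsSubnormal := by
  classical
  have hfin : S.Finite := Set.toFinite S
  induction S, hfin using Set.Finite.induction_on with
  | empty => simp
  | insert ha hs ih =>
    rw [sSup_insert]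
    exact isSubnormal_sup (hS _ (Set.mem_insert _ _)) (ih (fun U hU => hS U (Set.mem_insert_of_mem _ hU)))

end join


section s0539
open scoped Pointwise

variable {G : Type u} [Group G]

theorem mem_normalizer_iff_conj_smul_eq {H : Subgroup G} {g : G} :
    g ∈ Subgroup.normalizer (H : Set G) ↔ MulAut.conj g • H = H := by
  constructor
  · intro hg
    ext x
    rw [Subgroup.mem_pointwise_smul_iff_inv_smul_mem]
    have hg' : g⁻¹ ∈ Subgroup.normalizer (H : Set G) := Subgroup.inv_mem _ hg
    have := (Subgroup.mem_normalizer_iff.mp hg' x)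
    simp only [inv_inv] at this
    rw [this]
    simp [MulAut.smul_def]
  · intro h
    rw [Subgroup.mem_normalizer_iff]
    intro x
    constructor
    · intro hx
      have : MulAut.conj g • x ∈ MulAut.conj g • H := Subgroup.smul_mem_pointwise_smul _ _ _ hx
      rw [h] at this
      simpa [MulAut.smul_def, MulAut.conj_apply] using this
    · intro hx
      rw [← h] at hx
      rw [Subgroup.mem_pointwise_smul_iff_inv_smul_mem] at hx
      simpa [MulAut.smul_def, MulAut.conj_apply, mul_assoc] using hx

theorem conj_smul_le_of_mem_normalizer {H : Subgroup G} {g : G} (hg : g ∈ Subgroup.normalizer (H : Set G)) :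
    MulAut.conj g • H = H := mem_normalizer_iff_conj_smul_eq.mp hg

theorem normal_or_exists_conj_aux {K : Subgroup G} (hK : K.IsSubnormal) :
    ∀ H : Subgroup G, H ≤ K → K ≤ Subgroup.normalizer (H : Set G) →
      H.Normal ∨ ∃ g : G, MulAut.conj g • H ≠ H ∧ MulAut.conj g • H ≤ Subgroup.normalizer (H : Set G) := by
  induction hK with
  | top =>
    intro H _ hH
    left
    exact Subgroup.normalizer_eq_top_iff.mp (top_le_iff.mp hH)
  | step K K' hle hK' hN ih =>
    intro H hHK hKH
    by_cases h : K' ≤ Subgroup.normalizer (H : Set G)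
    · exact ih H (hHK.trans hle) h
    · right
      rw [SetLike.not_le_iff_exists] at h
      obtain ⟨g, hgK', hg⟩ := h
      refine ⟨g, fun h' => hg (mem_normalizer_iff_conj_smul_eq.mpr h'), ?_⟩
      have hgK : g ∈ Subgroup.normalizer (K : Set G) :=
        (Subgroup.normal_subgroupOf_iff_le_normalizer hle).mp hN hgK'
      have h1 : MulAut.conj g • H ≤ MulAut.conj g • K := Subgroup.pointwise_smul_le_pointwise_smul_iff.mpr hHK
      rw [conj_smul_le_of_mem_normalizer hgK] at h1
      exact h1.trans hKH

/-- A subnormal subgroup that is not normal has a conjugate, different from it, inside its normalizer. -/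
theorem exists_conj_ne_le_normalizer {K : Subgroup G} (hK : K.IsSubnormal) (hn : ¬ K.Normal) :
    ∃ g : G, MulAut.conj g • K ≠ K ∧ MulAut.conj g • K ≤ Subgroup.normalizer (K : Set G) :=
  (normal_or_exists_conj_aux hK K le_rfl Subgroup.le_normalizer).resolve_left hn

theorem card_conj_smul (g : G) (K : Subgroup G) : Nat.card (MulAut.conj g • K : Subgroup G) = Nat.card K :=
  Nat.card_congr (Subgroup.equivSMul (MulAut.conj g) K).toEquiv.symm

/-- Let `S` be a conjugation-closed family of subnormal subgroups and `S₀ ⊂ S`; then some member of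
`S \ S₀` normalizes the join of `S₀`. -/
theorem exists_mem_diff_le_normalizer_sSup [Finite G] (S S₀ : Set (Subgroup G))
    (hS : ∀ U ∈ S, U.IsSubnormal) (hconj : ∀ U ∈ S, ∀ g : G, MulAut.conj g • U ∈ S) (h₀ : S₀ ⊂ S) :
    ∃ X ∈ S, X ∉ S₀ ∧ X ≤ Subgroup.normalizer ((sSup S₀ : Subgroup G) : Set G) := by
  have hKsn : (sSup S₀).IsSubnormal := isSubnormal_sSup S₀ (fun U hU => hS U (h₀.subset hU))
  by_cases hn : (sSup S₀).Normal
  · obtain ⟨X, hXS, hX₀⟩ := Set.exists_of_ssubset h₀
    refine ⟨X, hXS, hX₀, ?_⟩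
    rw [Subgroup.normalizer_eq_top_iff.mpr hn]; exact le_top
  · obtain ⟨g, hne, hle⟩ := exists_conj_ne_le_normalizer hKsn hn
    have hex : ∃ X ∈ S₀, ¬ MulAut.conj g • X ≤ sSup S₀ := by
      by_contra hcon
      simp only [not_exists, not_and, not_not] at hcon
      apply hne
      have h1 : MulAut.conj g • sSup S₀ ≤ sSup S₀ := by
        rw [Subgroup.pointwise_smul_subset_iff]
        apply sSup_le
        intro X hX
        rw [← Subgroup.pointwise_smul_subset_iff]
        exact hcon X hX
      exact Subgroup.eq_of_le_of_card_ge h1 (card_conj_smul g _).ge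
    obtain ⟨X, hX₀, hX⟩ := hex
    refine ⟨MulAut.conj g • X, hconj X (h₀.subset hX₀) g, fun h => hX (le_sSup h), ?_⟩
    exact (Subgroup.pointwise_smul_le_pointwise_smul_iff.mpr (le_sSup hX₀)).trans hle

end s0539

end Cfsg.Agent.Lib.Helper91
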