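import Mathlib
import Cfsg.Agent.Lib.Helper91.Wielandt

set_option autoImplicit false

namespace Cfsg.Agent.Lib.Helper91

universe u

section matsuyama
open scoped Pointwise

variable {G : Type u} [Group G]

/-- weak closure of `Z` in `P` with respect to `G` -/
def wcl (Z P : Subgroup G) : Subgroup G :=
  ⨆ g ∈ {g : G | MulAut.conj g • Z ≤ P}, MulAut.conj g • Z

theorem wcl_le_iff {Z P X : Subgroup G} :
    wcl Z P ≤ X ↔ ∀ g : G, MulAut.conj g • Z ≤ P → MulAut.conj g • Z ≤ X := iSup₂_le_iff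

theorem wcl_le (Z P : Subgroup G) : wcl Z P ≤ P := wcl_le_iff.mpr fun _ hg => hg

theorem le_wcl {Z P : Subgroup G} {g : G} (hg : MulAut.conj g • Z ≤ P) :
    MulAut.conj g • Z ≤ wcl Z P :=
  wcl_le_iff.mp le_rfl g hg

theorem wcl_mono (Z : Subgroup G) {P Q : Subgroup G} (h : P ≤ Q) : wcl Z P ≤ wcl Z Q :=
  wcl_le_iff.mpr fun _ hg => le_wcl (le_trans hg h)

theorem conj_mul_smul (a b : G) (Z : Subgroup G) :
    MulAut.conj (a * b) • Z = MulAut.conj a • MulAut.conj b • Z := by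
  rw [map_mul, mul_smul]

theorem mem_normalizer_of_conj_smul_le [Finite G] {X : Subgroup G} {y : G}
    (h : MulAut.conj y • X ≤ X) : y ∈ Subgroup.normalizer (X : Set G) := by
  rw [mem_normalizer_iff_conj_smul_eq]
  exact Subgroup.eq_of_le_of_card_ge h (card_conj_smul y X).ge

/-- normalizers grow in `p`-subgroups (stated inside `G`) -/
theorem lt_normalizer_inf_of_isPGroup [Finite G] {p : ℕ} [Fact p.Prime] {P Q : Subgroup G}
    (hP : IsPGroup p P) (hQ : Q < P) : Q < Subgroup.normalizer (Q : Set G) ⊓ P := by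
  have hnil : Group.IsNilpotent P := hP.isNilpotent
  have hnc : NormalizerCondition P := Group.normalizerCondition_of_isNilpotent
  have h1 : Q.subgroupOf P < ⊤ := by
    rw [lt_top_iff_ne_top]
    intro h
    rw [Subgroup.subgroupOf_eq_top] at h
    exact hQ.not_ge h
  have h2 := hnc _ h1
  rw [← Subgroup.subgroupOf_normalizer_eq hQ.le] at h2
  obtain ⟨x, hx1, hx2⟩ := SetLike.exists_of_lt h2
  refine lt_of_le_of_ne (le_inf Subgroup.le_normalizer hQ.le) ?_
  intro heq
  apply hx2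
  rw [Subgroup.mem_subgroupOf] at hx1 ⊢
  rw [heq]
  exact ⟨hx1, x.2⟩

theorem exists_conj_le_normalizer_not_le [Finite G] {p : ℕ} [Fact p.Prime] {Z S P : Subgroup G}
    (hP : IsPGroup p P) (hSP : S ≤ P) (hS : wcl Z S = S) (hne : wcl Z P ≠ S) :
    ∃ g : G, MulAut.conj g • Z ≤ P ∧ MulAut.conj g • Z ≤ Subgroup.normalizer (S : Set G) ∧
      ¬ MulAut.conj g • Z ≤ S := by
  by_contra hcon
  simp only [not_exists, not_and, not_not] at hcon
  set N : Subgroup G := Subgroup.normalizer (S : Set G) ⊓ P with hN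
  have hSN : S ≤ N := le_inf Subgroup.le_normalizer hSP
  have hNP : N ≤ P := inf_le_right
  have hkey : Subgroup.normalizer (N : Set G) ⊓ P ≤ N := by
    intro w hw
    obtain ⟨hw1, hw2⟩ := Subgroup.mem_inf.mp hw
    refine Subgroup.mem_inf.mpr ⟨?_, hw2⟩
    apply mem_normalizer_of_conj_smul_le
    have hwN : MulAut.conj w • N = N := mem_normalizer_iff_conj_smul_eq.mp hw1
    have hwP : MulAut.conj w • P = P := Subgroup.conj_smul_eq_self_of_mem hw2
    conv_lhs => rw [← hS]
    rw [Subgroup.pointwise_smul_subset_iff, wcl_le_iff]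
    intro g hg
    rw [← Subgroup.pointwise_smul_subset_iff, ← conj_mul_smul]
    apply hcon
    · rw [conj_mul_smul, ← hwP]
      exact Subgroup.pointwise_smul_le_pointwise_smul_iff.mpr (hg.trans hSP)
    · rw [conj_mul_smul]
      have h3 : MulAut.conj w • MulAut.conj g • Z ≤ MulAut.conj w • N :=
        Subgroup.pointwise_smul_le_pointwise_smul_iff.mpr (hg.trans hSN)
      rw [hwN] at h3
      exact h3.trans inf_le_left
  have hNeq : N = P := by
    by_contra hne'
    have hlt : N < P := lt_of_le_of_ne hNP hne'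
    exact (lt_normalizer_inf_of_isPGroup hP hlt).not_ge hkey
  have hPS : P ≤ Subgroup.normalizer (S : Set G) := hNeq ▸ (inf_le_left : N ≤ _)
  apply hne
  apply le_antisymm
  · rw [wcl_le_iff]
    intro g hg
    exact hcon g hg (hg.trans hPS)
  · conv_lhs => rw [← hS]
    exact wcl_mono Z hSP

/-- Matsuyama's lemma -/
theorem matsuyama [Finite G] (p : ℕ) [Fact p.Prime] (Z Y : Subgroup G)
    (h : ∀ g : G, IsPGroup p ↥(⨆ y ∈ Y, MulAut.conj (y * g) • Z)) :
    ∃ P : Sylow p G, Y ≤ Subgroup.normalizer ((wcl Z (P : Subgroup G) : Subgroup G) : Set G) := by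
  classical
  let 𝒮 : Set (Subgroup G) :=
    {S | IsPGroup p S ∧ Y ≤ Subgroup.normalizer (S : Set G) ∧ wcl Z S = S}
  have hne : 𝒮.Nonempty := by
    refine ⟨⊥, IsPGroup.of_bot, ?_, le_bot_iff.mp (wcl_le Z ⊥)⟩
    intro y _
    apply mem_normalizer_of_conj_smul_le
    simp
  obtain ⟨S, hSmem, hSmax⟩ := (Set.toFinite 𝒮).exists_maximal hne
  obtain ⟨hSp, hYS, hSw⟩ := hSmem
  obtain ⟨P, hSP⟩ := hSp.exists_le_sylow
  refine ⟨P, ?_⟩
  suffices hw : wcl Z (P : Subgroup G) = S by rw [hw]; exact hYS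
  by_contra hne'
  obtain ⟨g, hgP, hgN, hgS⟩ := exists_conj_le_normalizer_not_le P.isPGroup' hSP hSw hne'
  set T : Subgroup G := ⨆ y ∈ Y, MulAut.conj (y * g) • Z with hT
  have hTp : IsPGroup p T := h g
  have hTle : ∀ y ∈ Y, MulAut.conj (y * g) • Z ≤ T := fun y hy =>
    le_iSup₂ (f := fun y (_ : y ∈ Y) => MulAut.conj (y * g) • Z) y hy
  have hTN : T ≤ Subgroup.normalizer (S : Set G) := by
    refine iSup₂_le fun y hy => ?_
    rw [conj_mul_smul]
    exact Subgroup.conj_smul_le_of_le hgN ⟨y, hYS hy⟩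
  have hS'p : IsPGroup p (T ⊔ S : Subgroup G) := IsPGroup.to_sup_of_normal_right' hTp hSp hTN
  have hYT : ∀ y ∈ Y, MulAut.conj y • T ≤ T := by
    intro y hy
    rw [Subgroup.pointwise_smul_subset_iff]
    refine iSup₂_le fun y' hy' => ?_
    rw [← Subgroup.pointwise_smul_subset_iff, ← conj_mul_smul, ← mul_assoc]
    exact hTle (y * y') (Y.mul_mem hy hy')
  have hYS' : Y ≤ Subgroup.normalizer ((T ⊔ S : Subgroup G) : Set G) := by
    intro y hy
    apply mem_normalizer_of_conj_smul_le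
    rw [Subgroup.smul_sup]
    refine sup_le_sup (hYT y hy) ?_
    rw [mem_normalizer_iff_conj_smul_eq.mp (hYS hy)]
  have hS'w : wcl Z (T ⊔ S) = T ⊔ S := by
    refine le_antisymm (wcl_le _ _) (sup_le ?_ ?_)
    · exact iSup₂_le fun y hy => le_wcl ((hTle y hy).trans le_sup_left)
    · conv_lhs => rw [← hSw]
      exact wcl_mono Z le_sup_right
  have hle : T ⊔ S ≤ S := hSmax ⟨hS'p, hYS', hS'w⟩ le_sup_right
  apply hgS
  have := hTle 1 Y.one_mem
  rw [one_mul] at this
  exact this.trans (le_sup_left.trans hle)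

end matsuyama

end Cfsg.Agent.Lib.Helper91
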