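import Mathlib
import Cfsg.Agent.Lib.Helper91.Wielandt

set_option autoImplicit false

namespace Cfsg.Agent.Lib.Helper91

universe u

section s0540
open scoped Pointwise

variable {G : Type u} [Group G]

theorem map_subtype_conj_smul (V : Subgroup G) (v : V) (B' : Subgroup V) :
    (MulAut.conj v • B').map V.subtype = MulAut.conj (v : G) • (B'.map V.subtype) := by
  ext x
  constructor
  · rintro ⟨y, hy, rfl⟩
    rw [SetLike.mem_coe, Subgroup.mem_pointwise_smul_iff_inv_smul_mem] at hy
    rw [Subgroup.mem_pointwise_smul_iff_inv_smul_mem]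
    refine ⟨_, hy, ?_⟩
    simp [MulAut.smul_def]
  · intro hx
    rw [Subgroup.mem_pointwise_smul_iff_inv_smul_mem] at hx
    obtain ⟨y, hy, hyx⟩ := hx
    refine ⟨MulAut.conj v • y, Subgroup.smul_mem_pointwise_smul _ _ _ hy, ?_⟩
    have : (y : G) = (v : G)⁻¹ * x * v := by
      rw [Subgroup.coe_subtype] at hyx
      rw [hyx]; simp [MulAut.smul_def]
    simp [MulAut.smul_def, this, mul_assoc]

/-- relative version of `exists_mem_diff_le_normalizer_sSup` inside a subgroup `V` -/
theorem exists_mem_diff_le_normalizer_sSup_rel [Finite G] (V : Subgroup G) (S S₀ : Set (Subgroup G))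
    (hSV : ∀ B ∈ S, B ≤ V) (hS : ∀ B ∈ S, (B.subgroupOf V).IsSubnormal)
    (hconj : ∀ B ∈ S, ∀ v ∈ V, MulAut.conj v • B ∈ S) (h₀ : S₀ ⊂ S) :
    ∃ X ∈ S, X ∉ S₀ ∧ X ≤ Subgroup.normalizer ((sSup S₀ : Subgroup G) : Set G) := by
  let S' : Set (Subgroup V) := {B' | B'.map V.subtype ∈ S}
  let S₀' : Set (Subgroup V) := {B' | B'.map V.subtype ∈ S₀}
  have h1 : ∀ B' ∈ S', B'.IsSubnormal := by
    intro B' hB'
    have := hS _ hB'
    rwa [Subgroup.subgroupOf, Subgroup.comap_map_eq_self_of_injective V.subtype_injective] at this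
  have h2 : ∀ B' ∈ S', ∀ v : V, MulAut.conj v • B' ∈ S' := by
    intro B' hB' v
    show (MulAut.conj v • B').map V.subtype ∈ S
    rw [map_subtype_conj_smul]
    exact hconj _ hB' v v.2
  have h3 : S₀' ⊂ S' := by
    refine ⟨fun B' hB' => h₀.subset hB', ?_⟩
    obtain ⟨B, hBS, hB₀⟩ := Set.exists_of_ssubset h₀
    intro hsub
    apply hB₀
    have hBV := hSV B hBS
    have : B.subgroupOf V ∈ S' := by
      show (B.subgroupOf V).map V.subtype ∈ S
      rw [Subgroup.map_subgroupOf_eq_of_le hBV]; exact hBS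
    have := hsub this
    have h4 : (B.subgroupOf V).map V.subtype ∈ S₀ := this
    rwa [Subgroup.map_subgroupOf_eq_of_le hBV] at h4
  obtain ⟨X', hX'S, hX'₀, hX'⟩ := exists_mem_diff_le_normalizer_sSup S' S₀' h1 h2 h3
  refine ⟨X'.map V.subtype, hX'S, hX'₀, ?_⟩
  have h5 : (sSup S₀').map V.subtype = sSup S₀ := by
    apply le_antisymm
    · rw [Subgroup.map_le_iff_le_comap]
      apply sSup_le
      intro B' hB'
      rw [← Subgroup.map_le_iff_le_comap]
      exact le_sSup hB'
    · apply sSup_le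
      intro B hB
      have hBV := hSV B (h₀.subset hB)
      have : B.subgroupOf V ∈ S₀' := by
        show (B.subgroupOf V).map V.subtype ∈ S₀
        rw [Subgroup.map_subgroupOf_eq_of_le hBV]; exact hB
      have h6 := Subgroup.map_mono (f := V.subtype) (le_sSup this)
      rwa [Subgroup.map_subgroupOf_eq_of_le hBV] at h6
  rw [← h5]
  exact (Subgroup.map_mono hX').trans (Subgroup.le_normalizer_map _)

end s0540

end Cfsg.Agent.Lib.Helper91
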