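import Mathlib
import Cfsg.Agent.Lib.Helper91.Wielandt
import Cfsg.Agent.Lib.Helper91.Zipper0

set_option autoImplicit false

namespace Cfsg.Agent.Lib.Helper91

universe u

section zipper
open scoped Pointwise

variable {G : Type u} [Group G] [Finite G]

/-- The zipper-type uniqueness lemma. -/
theorem zipper_unique_maximal (A : Subgroup G) (U : Set (Subgroup G)) (hU : U.Nonempty)
    (S : Subgroup G → Set (Subgroup G))
    (hS : ∀ V B : Subgroup G, B ∈ S V ↔ (∃ g : G, B = MulAut.conj g • A) ∧ B ≤ V ∧ (B.subgroupOf V).IsSubnormal)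
    (h1 : ∀ V ∈ U, A ∈ S V) (h2 : ∀ V ∈ U, ∀ W ∈ U, ∀ B ∈ S W, B ≤ V → B ∈ S V)
    (h3 : ∀ V ∈ U, ∀ W ∈ U, ∃ X ∈ U, Subgroup.normalizer ((sSup (S V ∩ S W) : Subgroup G) : Set G) ≤ X) :
    ∃ M ∈ U, ∀ V ∈ U, V ≤ M := by
  classical
  have hUfin : U.Finite := Set.toFinite U
  -- every member of U lies below a maximal member
  have hexmax : ∀ V ∈ U, ∃ M ∈ U, V ≤ M ∧ ∀ W ∈ U, M ≤ W → W = M := by
    intro V hV
    obtain ⟨M, hVM, hM⟩ := hUfin.exists_le_maximal hV
    exact ⟨M, hM.1, hVM, fun W hW hMW => le_antisymm (hM.2 hW hMW) hMW⟩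
  -- S V is closed under conjugation by V
  have hSconj : ∀ V : Subgroup G, ∀ B ∈ S V, ∀ v ∈ V, MulAut.conj v • B ∈ S V := by
    intro V B hB v hv
    rw [hS] at hB ⊢
    obtain ⟨⟨g, rfl⟩, hBV, hsn⟩ := hB
    refine ⟨⟨v * g, by rw [map_mul, mul_smul]⟩, ?_, ?_⟩
    · have := Subgroup.pointwise_smul_le_pointwise_smul_iff (a := MulAut.conj v) |>.mpr hBV
      rwa [Subgroup.conj_smul_eq_self_of_mem hv] at this
    · have := Subgroup.conj_smul_subgroupOf hBV ⟨v, hv⟩
      rw [← this]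
      exact hsn.smul _
  have hSle : ∀ V : Subgroup G, ∀ B ∈ S V, B ≤ V := fun V B hB => ((hS V B).mp hB).2.1
  have hSsn : ∀ V : Subgroup G, ∀ B ∈ S V, (B.subgroupOf V).IsSubnormal := fun V B hB => ((hS V B).mp hB).2.2
  -- V normalizes the join of S V
  have hVnorm : ∀ V : Subgroup G, V ≤ Subgroup.normalizer ((sSup (S V) : Subgroup G) : Set G) := by
    intro V v hv
    rw [mem_normalizer_iff_conj_smul_eq]
    have hle : ∀ w ∈ V, MulAut.conj w • sSup (S V) ≤ sSup (S V) := by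
      intro w hw
      rw [Subgroup.pointwise_smul_subset_iff]
      apply sSup_le
      intro B hB
      rw [← Subgroup.pointwise_smul_subset_iff]
      exact le_sSup (hSconj V B hB w hw)
    exact Subgroup.eq_of_le_of_card_ge (hle v hv) (card_conj_smul v _).ge
  by_contra hno
  simp only [not_exists, not_and, not_forall] at hno
  -- the set of pairs of distinct maximal elements
  let IsMax : Subgroup G → Prop := fun V => V ∈ U ∧ ∀ W ∈ U, V ≤ W → W = V
  let P : Set (Subgroup G × Subgroup G) := {q | IsMax q.1 ∧ IsMax q.2 ∧ q.1 ≠ q.2}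
  have hPne : P.Nonempty := by
    obtain ⟨V₀, hV₀⟩ := hU
    obtain ⟨V₁, hV₁U, -, hV₁max⟩ := hexmax V₀ hV₀
    obtain ⟨V₂, hV₂U, hV₂⟩ := hno V₁ hV₁U
    obtain ⟨W, hWU, hV₂W, hWmax⟩ := hexmax V₂ hV₂U
    refine ⟨(V₁, W), ⟨hV₁U, hV₁max⟩, ⟨hWU, hWmax⟩, ?_⟩
    intro h
    apply hV₂
    have h' : V₁ = W := h
    rw [h']; exact hV₂W
  have hPfin : P.Finite := Set.toFinite P
  obtain ⟨⟨V, W⟩, hVW, hmaxf⟩ := Set.exists_max_image P (fun q => (S q.1 ∩ S q.2).ncard) hPfin hPne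
  -- the key claim
  have key : ∀ V W : Subgroup G, IsMax V → IsMax W →
      (∀ q ∈ P, (S q.1 ∩ S q.2).ncard ≤ (S V ∩ S W).ncard) →
      ∀ M : Subgroup G, IsMax M →
        Subgroup.normalizer ((sSup (S V ∩ S W) : Subgroup G) : Set G) ≤ M → M = V := by
    intro V W hV hW hmax M hM hN
    by_cases hSig : S V ∩ S W = S V
    · -- V normalizes the join
      have : V ≤ M := by
        rw [hSig] at hN
        exact (hVnorm V).trans hN
      exact hV.2 M hM.1 this
    · have hss : S V ∩ S W ⊂ S V := lt_of_le_of_ne Set.inter_subset_left hSig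
      obtain ⟨B, hBV, hBSig, hBN⟩ := exists_mem_diff_le_normalizer_sSup_rel V (S V) (S V ∩ S W)
        (hSle V) (hSsn V) (hSconj V) hss
      have hBM : B ∈ S M := h2 M hM.1 V hV.1 B hBV (hBN.trans hN)
      have hSigM : S V ∩ S W ⊆ S M := by
        intro C hC
        apply h2 M hM.1 V hV.1 C hC.1
        exact ((le_sSup hC).trans Subgroup.le_normalizer).trans hN
      by_contra hne
      have hq : ((V, M) : Subgroup G × Subgroup G) ∈ P := ⟨hV, hM, fun h => hne h.symm⟩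
      have h4 := hmax _ hq
      have h5 : S V ∩ S W ⊂ S V ∩ S M := by
        refine ⟨fun C hC => ⟨hC.1, hSigM hC⟩, ?_⟩
        intro hsub
        exact hBSig (hsub ⟨hBV, hBM⟩)
      have h6 := Set.ncard_lt_ncard h5 (Set.toFinite _)
      exact absurd h4 (not_le.mpr h6)
  obtain ⟨X, hXU, hX⟩ := h3 V hVW.1.1 W hVW.2.1.1
  obtain ⟨M, hMU, hXM, hMmax⟩ := hexmax X hXU
  have hMV : M = V := key V W hVW.1 hVW.2.1 hmaxf M ⟨hMU, hMmax⟩ (hX.trans hXM)
  have hMW : M = W := by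
    apply key W V hVW.2.1 hVW.1 _ M ⟨hMU, hMmax⟩
    · rw [Set.inter_comm]; exact hX.trans hXM
    · intro q hq
      rw [Set.inter_comm (S W) (S V)]
      exact hmaxf q hq
  exact hVW.2.2 (hMV.symm.trans hMW)

end zipper

end Cfsg.Agent.Lib.Helper91
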