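import Mathlib
import Cfsg.Agent.Lib.Helper91.Zipper

set_option autoImplicit false

namespace Cfsg.Agent.Lib.Helper91

universe u

section wielandtCriterion
open scoped Pointwise

/-- transport of subnormality along conjugation: if `A ≤ V` with `A` subnormal in `V`, then `g • A` is subnormal
in `g • V`. -/
theorem isSubnormal_subgroupOf_conj {G : Type u} [Group G] {A V : Subgroup G} (g : G)
    (h : (A.subgroupOf V).IsSubnormal) :
    ((MulAut.conj g • A).subgroupOf (MulAut.conj g • V)).IsSubnormal := by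
  -- the isomorphism V ≃* g • V
  let e : V ≃* (MulAut.conj g • V : Subgroup G) := Subgroup.equivSMul (MulAut.conj g) V
  have h1 := h.map (f := e.toMonoidHom) e.surjective
  have h2 : (A.subgroupOf V).map e.toMonoidHom = (MulAut.conj g • A).subgroupOf (MulAut.conj g • V) := by
    ext ⟨x, hx⟩
    rw [Subgroup.mem_subgroupOf]
    constructor
    · rintro ⟨y, hy, hyx⟩
      have : (e y : G) = x := congrArg Subtype.val hyx
      show x ∈ MulAut.conj g • A
      rw [← this]
      exact Subgroup.smul_mem_pointwise_smul _ _ _ (Subgroup.mem_subgroupOf.mp hy)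
    · intro hxA
      have hxA' : x ∈ MulAut.conj g • A := hxA
      rw [Subgroup.mem_pointwise_smul_iff_inv_smul_mem] at hxA'
      have hxV' : x ∈ MulAut.conj g • V := hx
      rw [Subgroup.mem_pointwise_smul_iff_inv_smul_mem] at hxV'
      refine ⟨⟨_, hxV'⟩, Subgroup.mem_subgroupOf.mpr hxA', ?_⟩
      apply Subtype.ext
      show MulAut.conj g • ((MulAut.conj g)⁻¹ • x) = x
      rw [smul_inv_smul]
  rwa [h2] at h1

/-- The Zipper Lemma (Wielandt): if `A` is subnormal in every proper subgroup containing it but not in `G`,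
then `A` lies in a unique maximal subgroup of `G`. Stated as: the proper subgroups containing `A` have a greatest
element. -/
theorem zipper_lemma {G : Type u} [Group G] [Finite G] (A : Subgroup G)
    (hprop : ∀ V : Subgroup G, A ≤ V → V ≠ ⊤ → (A.subgroupOf V).IsSubnormal)
    (hA : ¬ A.IsSubnormal) : ∃ M : Subgroup G, A ≤ M ∧ M ≠ ⊤ ∧ ∀ V : Subgroup G, A ≤ V → V ≠ ⊤ → V ≤ M := by
  have hAtop : A ≠ ⊤ := fun h => hA (h ▸ Subgroup.IsSubnormal.top)
  let U : Set (Subgroup G) := {V | A ≤ V ∧ V ≠ ⊤}
  let S : Subgroup G → Set (Subgroup G) := fun V =>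
    {B | (∃ g : G, B = MulAut.conj g • A) ∧ B ≤ V ∧ (B.subgroupOf V).IsSubnormal}
  have hmain := zipper_unique_maximal A U ⟨A, le_rfl, hAtop⟩ S (fun V B => Iff.rfl)
    (fun V hV => ⟨⟨1, by simp⟩, hV.1, hprop V hV.1 hV.2⟩)
    (by
      rintro V hV W _ B ⟨⟨g, rfl⟩, _, _⟩ hBV
      refine ⟨⟨g, rfl⟩, hBV, ?_⟩
      -- A ≤ g⁻¹ • V, proper
      have h1 : A ≤ MulAut.conj g⁻¹ • V := by
        rw [map_inv, ← Subgroup.pointwise_smul_subset_iff]; exact hBV
      have h2 : MulAut.conj g⁻¹ • V ≠ ⊤ := by
        intro h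
        apply hV.2
        have h3 : Nat.card (MulAut.conj g⁻¹ • V : Subgroup G) = Nat.card V := card_conj_smul g⁻¹ V
        rw [h, Subgroup.card_top] at h3
        exact (Subgroup.card_eq_iff_eq_top V).mp h3.symm
      have h3 := isSubnormal_subgroupOf_conj g (hprop _ h1 h2)
      rwa [map_inv, smul_inv_smul] at h3)
    (by
      intro V hV W hW
      set K : Subgroup G := sSup (S V ∩ S W) with hK
      refine ⟨Subgroup.normalizer (K : Set G), ⟨?_, ?_⟩, le_rfl⟩
      · have hAK : A ≤ K := le_sSup ⟨⟨⟨1, by simp⟩, hV.1, hprop V hV.1 hV.2⟩, ⟨⟨1, by simp⟩, hW.1, hprop W hW.1 hW.2⟩⟩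
        exact hAK.trans Subgroup.le_normalizer
      · intro hN
        have hKn : K.Normal := Subgroup.normalizer_eq_top_iff.mp hN
        have hAK : A ≤ K := le_sSup ⟨⟨⟨1, by simp⟩, hV.1, hprop V hV.1 hV.2⟩, ⟨⟨1, by simp⟩, hW.1, hprop W hW.1 hW.2⟩⟩
        have hKV : K ≤ V := sSup_le (fun B hB => hB.1.2.1)
        have hKtop : K ≠ ⊤ := fun h => hV.2 (top_le_iff.mp (h ▸ hKV))
        exact hA ((hprop K hAK hKtop).trans hAK hKn.isSubnormal))
  obtain ⟨M, hMU, hM⟩ := hmain
  exact ⟨M, hMU.1, hMU.2, fun V hAV hV => hM V ⟨hAV, hV⟩⟩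

/-- Wielandt's subnormality criterion. -/
theorem wielandt_criterion_aux : ∀ (n : ℕ) (G : Type u) [Group G] [Finite G], Nat.card G = n →
    ∀ A : Subgroup G, (∀ g : G, (A.subgroupOf (A ⊔ MulAut.conj g • A)).IsSubnormal) → A.IsSubnormal := by
  intro n
  induction n using Nat.strong_induction_on with
  | _ n ih =>
  intro G _ _ hn A h
  by_contra hA
  -- A is subnormal in every proper subgroup containing it
  have hprop : ∀ V : Subgroup G, A ≤ V → V ≠ ⊤ → (A.subgroupOf V).IsSubnormal := by
    intro V hAV hV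
    have hc : Nat.card V < n := hn ▸ card_subgroup_lt_of_ne_top' hV
    apply ih _ hc V rfl
    intro v
    -- transport the hypothesis to V
    have h1 := h (v : G)
    have h2 : A ⊔ MulAut.conj (v : G) • A ≤ V := by
      apply sup_le hAV
      have := Subgroup.pointwise_smul_le_pointwise_smul_iff (a := MulAut.conj (v : G)) |>.mpr hAV
      rwa [Subgroup.conj_smul_eq_self_of_mem v.2] at this
    -- the subgroup (A ⊔ v•A) of V
    have h3 : A.subgroupOf V ⊔ MulAut.conj v • A.subgroupOf V = (A ⊔ MulAut.conj (v : G) • A).subgroupOf V := by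
      rw [Subgroup.conj_smul_subgroupOf hAV v]
      have hvA : MulAut.conj (v : G) • A ≤ V := le_sup_right.trans h2
      exact (Subgroup.subgroupOf_sup hAV hvA).symm
    rw [h3]
    -- (A.subgroupOf V).subgroupOf ((A ⊔ vA).subgroupOf V) corresponds to A.subgroupOf (A ⊔ vA)
    let e : ((A ⊔ MulAut.conj (v : G) • A).subgroupOf V) ≃* (A ⊔ MulAut.conj (v : G) • A : Subgroup G) :=
      Subgroup.subgroupOfEquivOfLe h2
    have h4 := h1.map (f := e.symm.toMonoidHom) e.symm.surjective
    convert h4 using 1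
    ext ⟨⟨x, hxV⟩, hx⟩
    simp only [Subgroup.mem_subgroupOf, Subgroup.mem_map]
    constructor
    · intro hxA
      refine ⟨⟨x, Subgroup.mem_subgroupOf.mp hx⟩, hxA, ?_⟩
      apply e.injective
      simp only [MulEquiv.coe_toMonoidHom, MulEquiv.apply_symm_apply]
      rfl
    · rintro ⟨y, hy, hyx⟩
      have : e (e.symm y) = e ⟨⟨x, hxV⟩, hx⟩ := by rw [← hyx]; rfl
      rw [MulEquiv.apply_symm_apply] at this
      have h5 : (y : G) = x := congrArg Subtype.val this
      rw [← h5]; exact hy
  obtain ⟨M, hAM, hMtop, hM⟩ := zipper_lemma A hprop hA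
  -- all conjugates of A lie in M
  have hconj : ∀ g : G, MulAut.conj g • A ≤ M := by
    intro g
    by_cases hg : A ⊔ MulAut.conj g • A = ⊤
    · exfalso
      apply hA
      have h1 := h g
      rw [hg] at h1
      have := h1.map (f := (Subgroup.topEquiv : (⊤ : Subgroup G) ≃* G).toMonoidHom) Subgroup.topEquiv.surjective
      convert this using 1
      ext x
      simp only [Subgroup.mem_map, Subgroup.mem_subgroupOf]
      constructor
      · intro hx
        exact ⟨⟨x, Subgroup.mem_top x⟩, hx, rfl⟩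
      · rintro ⟨y, hy, rfl⟩
        exact hy
    · exact le_sup_right.trans (hM _ le_sup_left hg)
  -- the normal closure of A is proper
  have hNC : Subgroup.normalClosure (A : Set G) ≤ M := by
    unfold Subgroup.normalClosure
    rw [Subgroup.closure_le]
    intro x hx
    rw [Group.mem_conjugatesOfSet_iff] at hx
    obtain ⟨a, ha, hax⟩ := hx
    obtain ⟨g, rfl⟩ := isConj_iff.mp hax
    apply hconj g
    rw [Subgroup.mem_pointwise_smul_iff_inv_smul_mem]
    simpa [MulAut.smul_def, mul_assoc] using ha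
  have hNCtop : Subgroup.normalClosure (A : Set G) ≠ ⊤ := fun h => hMtop (top_le_iff.mp (h ▸ hNC))
  apply hA
  exact (hprop _ Subgroup.le_normalClosure hNCtop).trans Subgroup.le_normalClosure
    (Subgroup.normalClosure_normal.isSubnormal)

theorem wielandt_criterion {G : Type u} [Group G] [Finite G] (A : Subgroup G)
    (h : ∀ g : G, (A.subgroupOf (A ⊔ MulAut.conj g • A)).IsSubnormal) : A.IsSubnormal :=
  wielandt_criterion_aux (Nat.card G) G rfl A h

end wielandtCriterion

end Cfsg.Agent.Lib.Helper91
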