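import Mathlib
import Cfsg.Agent.Lib.Helper91.WielandtCriterion

set_option autoImplicit false

namespace Cfsg.Agent.Lib.Helper91

universe u

section baer
open scoped Pointwise

variable {G : Type u} [Group G]

/-- the largest `p`-subgroup of `H` normalized by `H`, as a subgroup of `G` -/
def relPCore (p : ℕ) (H : Subgroup G) : Subgroup G :=
  sSup {N : Subgroup G | N ≤ H ∧ H ≤ Subgroup.normalizer (N : Set G) ∧ IsPGroup p N}

theorem relPCore_le (p : ℕ) (H : Subgroup G) : relPCore p H ≤ H :=
  sSup_le (fun _ hN => hN.1)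

theorem isPGroup_relPCore (p : ℕ) (H : Subgroup G) : IsPGroup p (relPCore p H) := by
  have P : Sylow p H := Classical.arbitrary _
  have h1 : relPCore p H ≤ (P : Subgroup H).map H.subtype := by
    apply sSup_le
    rintro N ⟨hNH, hHN, hNp⟩
    have hn : (N.subgroupOf H).Normal := (Subgroup.normal_subgroupOf_iff_le_normalizer hNH).mpr hHN
    have hp : IsPGroup p (N.subgroupOf H) := hNp.comap_of_injective H.subtype H.subtype_injective
    have h2 : N.subgroupOf H ≤ P := hp.le_sylow_of_normal P
    have h3 := Subgroup.map_mono (f := H.subtype) h2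
    rwa [Subgroup.map_subgroupOf_eq_of_le hNH] at h3
  exact (P.isPGroup'.map H.subtype).to_le h1

theorem conj_smul_relPCore [Finite G] (p : ℕ) {H : Subgroup G} {g : G} (hg : g ∈ Subgroup.normalizer (H : Set G)) :
    MulAut.conj g • relPCore p H = relPCore p H := by
  have hle : ∀ g ∈ Subgroup.normalizer (H : Set G), MulAut.conj g • relPCore p H ≤ relPCore p H := by
    intro g hg
    rw [Subgroup.pointwise_smul_subset_iff]
    apply sSup_le
    rintro N ⟨hNH, hHN, hNp⟩
    rw [← Subgroup.pointwise_smul_subset_iff]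
    apply le_sSup
    refine ⟨?_, ?_, ?_⟩
    · have := Subgroup.pointwise_smul_le_pointwise_smul_iff (a := MulAut.conj g) |>.mpr hNH
      rwa [mem_normalizer_iff_conj_smul_eq.mp hg] at this
    · -- H = g • H ≤ g • N(N) ≤ N(g • N)
      intro h hh
      rw [mem_normalizer_iff_conj_smul_eq]
      have hh' : g⁻¹ * h * g ∈ H := by
        have hg' := Subgroup.inv_mem _ hg
        have := (Subgroup.mem_normalizer_iff.mp hg' h).mp hh
        simpa using this
      have h1 := mem_normalizer_iff_conj_smul_eq.mp (hHN hh')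
      have h2 : MulAut.conj h * MulAut.conj g = MulAut.conj g * MulAut.conj (g⁻¹ * h * g) := by
        rw [← map_mul, ← map_mul]; congr 1; group
      rw [← mul_smul, h2, mul_smul, h1]
    · exact IsPGroup.of_equiv hNp (Subgroup.equivSMul (MulAut.conj g) N)
  exact Subgroup.eq_of_le_of_card_ge (hle g hg) (card_conj_smul g _).ge

theorem relPCore_mono_of_normal [Finite G] (p : ℕ) {H K : Subgroup G} (hHK : H ≤ K)
    (hKH : K ≤ Subgroup.normalizer (H : Set G)) : relPCore p H ≤ relPCore p K := by
  apply le_sSup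
  refine ⟨(relPCore_le p H).trans hHK, ?_, isPGroup_relPCore p H⟩
  intro k hk
  rw [mem_normalizer_iff_conj_smul_eq]
  exact conj_smul_relPCore p (hKH hk)

theorem relPCore_le_top_of_isSubnormal [Finite G] (p : ℕ) {K : Subgroup G} (hK : K.IsSubnormal) :
    relPCore p K ≤ relPCore p ⊤ := by
  induction hK with
  | top => exact le_rfl
  | step H K hle _ hN ih =>
    exact (relPCore_mono_of_normal p hle ((Subgroup.normal_subgroupOf_iff_le_normalizer hle).mp hN)).trans ih

theorem relPCore_top_normal (p : ℕ) : (relPCore p (⊤ : Subgroup G)).Normal := by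
  rw [← Subgroup.normalizer_eq_top_iff, eq_top_iff]
  have : ∀ N ∈ {N : Subgroup G | N ≤ ⊤ ∧ ⊤ ≤ Subgroup.normalizer (N : Set G) ∧ IsPGroup p N},
      (⊤ : Subgroup G) ≤ Subgroup.normalizer (N : Set G) := fun N hN => hN.2.1
  unfold relPCore
  rw [sSup_eq_iSup]
  refine le_trans ?_ (Subgroup.iInf_normalizer_le_normalizer_iSup _)
  apply le_iInf
  intro N
  by_cases hN : N ∈ {N : Subgroup G | N ≤ ⊤ ∧ ⊤ ≤ Subgroup.normalizer (N : Set G) ∧ IsPGroup p N}
  · simp only [hN, iSup_pos]; exact this N hN
  · simp only [hN, iSup_neg, not_false_eq_true]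
    rw [Subgroup.normalizer_eq_top_iff.mpr Subgroup.normal_bot]
    -- normalizer of ⊥ is ⊤

/-- A subnormal `p`-subgroup of a finite group lies in a normal `p`-subgroup. -/
theorem exists_normal_isPGroup_ge_of_isSubnormal [Finite G] {p : ℕ} {A : Subgroup G} (hA : A.IsSubnormal)
    (hp : IsPGroup p A) : ∃ N : Subgroup G, N.Normal ∧ IsPGroup p N ∧ A ≤ N := by
  refine ⟨relPCore p ⊤, relPCore_top_normal p, isPGroup_relPCore p ⊤, ?_⟩
  have h1 : A ≤ relPCore p A := le_sSup ⟨le_rfl, Subgroup.le_normalizer, hp⟩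
  exact h1.trans (relPCore_le_top_of_isSubnormal p hA)

end baer

end Cfsg.Agent.Lib.Helper91
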