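import Mathlib
import Cfsg.Agent.Lib.Helper91.Baer0

set_option autoImplicit false

namespace Cfsg.Agent.Lib.Helper91

universe u

section baer2
open scoped Pointwise

variable {G : Type u} [Group G]

/-- every subgroup of a finite nilpotent group is subnormal -/
theorem isSubnormal_of_isNilpotent [Finite G] (hG : Group.IsNilpotent G) (H : Subgroup G) : H.IsSubnormal := by
  have hnc : NormalizerCondition G := Group.normalizerCondition_of_isNilpotent
  generalize hk : Nat.card G - Nat.card H = k
  induction k using Nat.strong_induction_on generalizing H with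
  | _ k ih =>
  by_cases hH : H = ⊤
  · rw [hH]; exact Subgroup.IsSubnormal.top
  · have hlt : H < Subgroup.normalizer (H : Set G) := hnc H (lt_top_iff_ne_top.mpr hH)
    have hc : Nat.card H < Nat.card (Subgroup.normalizer (H : Set G)) := by
      by_contra hcon
      exact hlt.ne (Subgroup.eq_of_le_of_card_ge hlt.le (not_lt.mp hcon))
    have hc2 : Nat.card (Subgroup.normalizer (H : Set G)) ≤ Nat.card G := Subgroup.card_le_card_group _
    have h1 := ih (Nat.card G - Nat.card (Subgroup.normalizer (H : Set G))) (by omega) _ rfl
    exact Subgroup.IsSubnormal.step _ _ hlt.le h1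
      ((Subgroup.normal_subgroupOf_iff_le_normalizer hlt.le).mpr le_rfl)

theorem map_conj_eq_smul (X : Subgroup G) (g : G) :
    X.map (MulAut.conj g).toMonoidHom = MulAut.conj g • X := rfl

/-- Baer–Suzuki -/
theorem baer_suzuki [Finite G] {p : ℕ} [Fact p.Prime] (X : Subgroup G)
    (h : ∀ g : G, IsPGroup p ↥(X ⊔ X.map (MulAut.conj g).toMonoidHom)) :
    ∃ N : Subgroup G, N.Normal ∧ IsPGroup p N ∧ X ≤ N := by
  have hXp : IsPGroup p X := (h 1).to_le le_sup_left
  have hsn : X.IsSubnormal := by
    apply wielandt_criterion
    intro g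
    have h1 := h g
    rw [map_conj_eq_smul] at h1
    exact isSubnormal_of_isNilpotent h1.isNilpotent _
  exact exists_normal_isPGroup_ge_of_isSubnormal hsn hXp

end baer2

end Cfsg.Agent.Lib.Helper91
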