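import Cfsg.Agent.Lib.Helper12.D3Defs
import Cfsg.Agent.Lib.Helper65.D4gCOMM

/-! # D3 hive (S2183, helper12): leaf D3-C2AB `conj_2ab` (helper91)

Conjugation of `W(s,0,0,c,d,e)` by `x_{2a+b}(ρ) = x_21(ρ) x_17(φρ) x_20(φ²ρ)`: the only non-commuting pairs are
`18+17 = 22`, `13+20 = 22`, `12+21 = 22`, which add `tr3 ρ s` to the `x_22`-coordinate. -/

set_option autoImplicit false

namespace Cfsg.Agent.Lib.Helper12.D3

open Cfsg Cfsg.Lie Cfsg.Agent.Lib.Helper36 Cfsg.Agent.Lib.Helper75.D4g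

variable (K : Type*) [Field K] (φ : K →+* K)

/-- root elements with empty commutator term list commute -/
theorem d3c2ab_cm (r s : ℕ)
    (h : r < chevD4.nroots ∧ s < chevD4.nroots ∧ s ≠ r ∧ s ≠ chevD4.neg r ∧ chevD4.commTerms r s = [])
    (t u : K) : Commute (xg K r t) (xg K s u) :=
  d4gcomm_nil (K := K) r s h.1 h.2.1 h.2.2.1 h.2.2.2.1 h.2.2.2.2 t u

/-- root elements of the same root commute -/
theorem d3c2ab_self (r : ℕ) (t u : K) : Commute (xg K r t) (xg K r u) := by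
  unfold Commute SemiconjBy xg
  rw [← xGL_add, ← xGL_add, add_comm]

/-- a root element `x_r`, `r ∈ {21,17,20,22,23}` commutes with `x_{2a+b}(c)` -/
theorem d3c2ab_cm_x2ab (r : ℕ) (hr : r = 21 ∨ r = 17 ∨ r = 20 ∨ r = 22 ∨ r = 23) (t c : K) :
    Commute (xg K r t) (x2ab K φ c) := by
  unfold x2ab
  rcases hr with rfl | rfl | rfl | rfl | rfl
  · exact ((d3c2ab_self K 21 _ _).mul_right (d3c2ab_cm K 21 17 (by decide +kernel) _ _)).mul_right
      (d3c2ab_cm K 21 20 (by decide +kernel) _ _)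
  · exact ((d3c2ab_cm K 17 21 (by decide +kernel) _ _).mul_right (d3c2ab_self K 17 _ _)).mul_right
      (d3c2ab_cm K 17 20 (by decide +kernel) _ _)
  · exact ((d3c2ab_cm K 20 21 (by decide +kernel) _ _).mul_right
      (d3c2ab_cm K 20 17 (by decide +kernel) _ _)).mul_right (d3c2ab_self K 20 _ _)
  · exact ((d3c2ab_cm K 22 21 (by decide +kernel) _ _).mul_right
      (d3c2ab_cm K 22 17 (by decide +kernel) _ _)).mul_right (d3c2ab_cm K 22 20 (by decide +kernel) _ _)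
  · exact ((d3c2ab_cm K 23 21 (by decide +kernel) _ _).mul_right
      (d3c2ab_cm K 23 17 (by decide +kernel) _ _)).mul_right (d3c2ab_cm K 23 20 (by decide +kernel) _ _)

/-- `x_{2a+b}(ρ)` commutes with `x_{2a+b}(c)` -/
theorem d3c2ab_x2ab_x2ab (ρ c : K) : Commute (x2ab K φ ρ) (x2ab K φ c) := by
  have h1 := d3c2ab_cm_x2ab K φ 21 (Or.inl rfl) ρ c
  have h2 := d3c2ab_cm_x2ab K φ 17 (Or.inr (Or.inl rfl)) (φ ρ) c
  have h3 := d3c2ab_cm_x2ab K φ 20 (Or.inr (Or.inr (Or.inl rfl))) (φ (φ ρ)) c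
  have : x2ab K φ ρ = xg K 21 ρ * xg K 17 (φ ρ) * xg K 20 (φ (φ ρ)) := rfl
  rw [this]
  exact (h1.mul_left h2).mul_left h3

/-- `x_{2a+b}(ρ)` commutes with `T(c,d,e)` -/
theorem d3c2ab_x2ab_T (ρ c d e : K) : Commute (x2ab K φ ρ) (T K φ c d e) := by
  unfold T
  exact ((d3c2ab_x2ab_x2ab K φ ρ c).mul_right (d3c2ab_cm_x2ab K φ 22 (by simp) d ρ).symm).mul_right
    (d3c2ab_cm_x2ab K φ 23 (by simp) e ρ).symm

/-- `V(0,0,c,d,e) = T(c,d,e)` -/
theorem d3c2ab_V0 (c d e : K) : V K φ 0 0 c d e = T K φ c d e := by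
  unfold V xab xg
  simp only [map_zero, xGL_zero, one_mul, mul_one]

/-- `x_22(z) T(c,d,e) = T(c,d+z,e)` -/
theorem d3c2ab_Z_T (z c d e : K) : xg K 22 z * T K φ c d e = T K φ c (d + z) e := by
  unfold T
  have h := d3c2ab_cm_x2ab K φ 22 (by simp) z c
  have h22 : xg K 22 z * xg K 22 d = xg K 22 (d + z) := by
    unfold xg
    rw [← xGL_add, add_comm]
  calc xg K 22 z * (x2ab K φ c * xg K 22 d * xg K 23 e)
      = (xg K 22 z * x2ab K φ c) * xg K 22 d * xg K 23 e := by group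
    _ = x2ab K φ c * (xg K 22 z * xg K 22 d) * xg K 23 e := by rw [h.eq]; group
    _ = x2ab K φ c * xg K 22 (d + z) * xg K 23 e := by rw [h22]

/-- `x_{2a+b}(ρ) x_a(s) = x_a(s) x_{2a+b}(ρ) x_22(tr3 ρ s)` -/
theorem d3c2ab_swap [CharP K 2] (ρ s : K) :
    x2ab K φ ρ * xa K φ s = xa K φ s * x2ab K φ ρ * xg K 22 (tr3 K φ ρ s) := by
  have hAP := d4gcomm_single (K := K) 18 17 22 (-1) (by decide +kernel) (by decide +kernel) (by decide)
    (by decide +kernel) (by decide +kernel) s (φ ρ)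
  have hBQ := d4gcomm_single (K := K) 13 20 22 1 (by decide +kernel) (by decide +kernel) (by decide)
    (by decide +kernel) (by decide +kernel) (φ s) (φ (φ ρ))
  have hCR := d4gcomm_single (K := K) 12 21 22 1 (by decide +kernel) (by decide +kernel) (by decide)
    (by decide +kernel) (by decide +kernel) (φ (φ s)) ρ
  have e1 : (((-1 : ℤ)) : K) * (-s) * φ ρ = s * φ ρ := by push_cast; ring
  have e2 : ((1 : ℤ) : K) * (-(φ s)) * φ (φ ρ) = φ s * φ (φ ρ) := by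
    push_cast; rw [CharTwo.neg_eq]; ring
  have e3 : ((1 : ℤ) : K) * (-(φ (φ s))) * ρ = φ (φ s) * ρ := by
    push_cast; rw [CharTwo.neg_eq]; ring
  rw [e1] at hAP
  rw [e2] at hBQ
  rw [e3] at hCR
  have h := d4gcomm_abs (xg K 17 (φ ρ)) (xg K 20 (φ (φ ρ))) (xg K 21 ρ) (xg K 18 s) (xg K 13 (φ s))
    (xg K 12 (φ (φ s))) (xg K 22 (s * φ ρ)) (xg K 22 (φ s * φ (φ ρ))) (xg K 22 (φ (φ s) * ρ)) hAP hBQ hCR
    (d3c2ab_cm K 17 13 (by decide +kernel) _ _).eq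
    (d3c2ab_cm K 17 12 (by decide +kernel) _ _).eq
    (d3c2ab_cm K 20 18 (by decide +kernel) _ _).eq
    (d3c2ab_cm K 20 12 (by decide +kernel) _ _).eq
    (d3c2ab_cm K 21 18 (by decide +kernel) _ _).eq
    (d3c2ab_cm K 21 13 (by decide +kernel) _ _).eq
    (d3c2ab_cm K 22 20 (by decide +kernel) _ _).eq
    (d3c2ab_cm K 22 21 (by decide +kernel) _ _).eq
    (d3c2ab_cm K 22 13 (by decide +kernel) _ _).eq
    (d3c2ab_cm K 22 12 (by decide +kernel) _ _).eq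
    (d3c2ab_cm K 22 21 (by decide +kernel) _ _).eq
    (d3c2ab_cm K 22 12 (by decide +kernel) _ _).eq
  have hz : xg K 22 (s * φ ρ) * xg K 22 (φ s * φ (φ ρ)) * xg K 22 (φ (φ s) * ρ) = xg K 22 (tr3 K φ ρ s) := by
    unfold xg
    rw [← xGL_add, ← xGL_add]
    congr 1
    unfold tr3
    ring
  rw [hz] at h
  have hperm : x2ab K φ ρ = xg K 17 (φ ρ) * xg K 20 (φ (φ ρ)) * xg K 21 ρ := by
    unfold x2ab
    have c1 := (d3c2ab_cm K 21 17 (by decide +kernel) ρ (φ ρ)).eq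
    have c2 := (d3c2ab_cm K 21 20 (by decide +kernel) ρ (φ (φ ρ))).eq
    calc xg K 21 ρ * xg K 17 (φ ρ) * xg K 20 (φ (φ ρ))
        = xg K 17 (φ ρ) * (xg K 21 ρ * xg K 20 (φ (φ ρ))) := by rw [c1]; group
      _ = xg K 17 (φ ρ) * xg K 20 (φ (φ ρ)) * xg K 21 ρ := by rw [c2]; group
  have hxa : xa K φ s = xg K 18 s * xg K 13 (φ s) * xg K 12 (φ (φ s)) := rfl
  rw [hxa, hperm]
  exact h

/-- D3-C2AB : conjugation by `x_{2a+b}(ρ)` -/
theorem conj_2ab [CharP K 2] (h3 : ∀ x : K, φ (φ (φ x)) = x) (ρ s c d e : K) :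
    x2ab K φ ρ * W K φ s 0 0 c d e * (x2ab K φ ρ)⁻¹ = W K φ s 0 0 c (d + tr3 K φ ρ s) e := by
  unfold W
  rw [d3c2ab_V0, d3c2ab_V0]
  have hs := d3c2ab_swap K φ ρ s
  have hc := d3c2ab_x2ab_T K φ ρ c (d + tr3 K φ ρ s) e
  calc x2ab K φ ρ * (xa K φ s * T K φ c d e) * (x2ab K φ ρ)⁻¹
      = (x2ab K φ ρ * xa K φ s) * T K φ c d e * (x2ab K φ ρ)⁻¹ := by group
    _ = xa K φ s * x2ab K φ ρ * (xg K 22 (tr3 K φ ρ s) * T K φ c d e) * (x2ab K φ ρ)⁻¹ := by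
        rw [hs]; group
    _ = xa K φ s * (x2ab K φ ρ * T K φ c (d + tr3 K φ ρ s) e) * (x2ab K φ ρ)⁻¹ := by
        rw [d3c2ab_Z_T]; group
    _ = xa K φ s * T K φ c (d + tr3 K φ ρ s) e := by
        rw [hc.eq]; group

end Cfsg.Agent.Lib.Helper12.D3
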