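import Cfsg.Agent.Lib.Helper47.BG11b

/-!
# Bender–Glauberman Theorem 11.7, Case 1 of the key step

A maximal subgroup `M` has no normal elementary abelian subgroup `B` of order `q ^ 2` with `q ∉ σ(M)`
which is a maximal elementary abelian subgroup of `G` (when `M_σ ≠ 1`): otherwise Theorems 7.4 and
7.5 give `N_G(S) ≤ M` for a Sylow `q`-subgroup `S` of `M`, i.e. `q ∈ σ(M)`.
-/

set_option autoImplicit false

namespace Cfsg.Agent.Lib.Helper91.BG117

open Subgroup Cfsg Cfsg.Agent.Lib.Helper33 Cfsg.Agent.Lib.Helper24 Cfsg.Agent.Lib.Helper32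
open Cfsg.Agent.Lib.Helper24.BG Cfsg.Agent.Lib.Helper23 Cfsg.Agent.Lib.Helper63
open Cfsg.Agent.Lib.Helper47.BG11

universe u

variable {G : Type u} [Group G] [Finite G]

/-- the normalizer of a nontrivial proper subgroup normalized by a maximal subgroup `M` is `M` -/
theorem normalizer_eq_of_coatom (hG : IsMinSimpleOddOrder G) {M B : Subgroup G} (hM : IsCoatom M)
    (hBM : B ≤ M) (hB1 : B ≠ ⊥) (hBn : M ≤ normalizer (B : Set G)) :
    normalizer (B : Set G) = M := by
  haveI : IsSimpleGroup G := hG.2.1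
  rcases hM.le_iff.mp hBn with h | h
  · exfalso
    have hn : B.Normal := normalizer_eq_top_iff.mp h
    rcases hn.eq_bot_or_eq_top with h1 | h1
    · exact hB1 h1
    · exact hM.1 (top_le_iff.mp (h1 ▸ hBM))
  · exact h

/-- **Case 1** of the key step of B&G Theorem 11.7. -/
theorem case1 (hG : IsMinSimpleOddOrder G) (h10 : Stmt1410 G) {M : Subgroup G} (hM : IsCoatom M)
    (hσ : SigmaHallIn M) (hMσ : sigmaCore M ≠ ⊥) {q : ℕ} [hq : Fact q.Prime] (hqσ : q ∉ sigma M)
    {B : Subgroup G} (hBM : B ≤ M) (hBn : M ≤ normalizer (B : Set G))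
    (hBe : IsElementaryAbelian q B) (hBc : Nat.card B = q ^ 2)
    (hmax : ∀ B' : Subgroup G, IsElementaryAbelian q B' → B ≤ B' → B' = B) : False := by
  have hBp : IsPGroup q B := BG10.isPGroup_of_elemAb hBe
  have hB1 : B ≠ ⊥ := by
    intro h
    rw [h, card_bot] at hBc
    have := hq.out.one_lt
    nlinarith
  have hNB : normalizer (B : Set G) = M := normalizer_eq_of_coatom hG hM hBM hB1 hBn
  have hCB : centralizer (B : Set G) ≤ M := (centralizer_le_normalizer _).trans hNB.le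
  have hqM : q ∣ Nat.card M := by
    have h1 : Nat.card B ∣ Nat.card M := Subgroup.card_dvd_of_le hBM
    rw [hBc] at h1
    exact dvd_trans (dvd_pow_self q (by norm_num)) h1
  have hqG : q ∣ Nat.card G := dvd_trans hqM (Subgroup.card_subgroup_dvd_card M)
  have hTH : TransitivityHypothesis B := by
    refine Cfsg.Agent.S1396.result hG q hqG B hBp hBe.1 (Or.inl ⟨?_, fun H hH => h10 q H hH⟩)
    intro x hx
    exact ⟨fun hxp => mem_of_maximal hBe hmax hx hxp, fun hxB => hBe.2 x hxB⟩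
  -- a prime `r` dividing `|M_σ|`
  have hcard : Nat.card (sigmaCore M) ≠ 1 := fun h => hMσ (Subgroup.card_eq_one.mp h)
  obtain ⟨r, hr, hrD⟩ := Nat.exists_prime_and_dvd hcard
  haveI : Fact r.Prime := ⟨hr⟩
  have hrσ : r ∈ sigma M := mem_sigma_of_dvd_card_le (le_refl _) hr hrD
  have hrq : r ≠ q := fun h => hqσ (h ▸ hrσ)
  have hrB : ¬ r ∣ Nat.card B := by
    rw [hBc]
    intro h
    exact hrq ((Nat.prime_dvd_prime_iff_eq hr hq.out).mp (hr.dvd_of_dvd_pow h))
  -- `q ∤ |M_σ|`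
  have hqMσ : ¬ q ∣ Nat.card (sigmaCore M) := fun h =>
    hqσ (mem_sigma_of_dvd_card_le (le_refl _) hq.out h)
  -- `B` centralizes `M_σ`
  have hdisj : sigmaCore M ⊓ B = ⊥ := by
    apply (Subgroup.disjoint_of_coprime_natCard _).eq_bot
    rw [hBc]
    exact Nat.Coprime.pow_right 2 (((Nat.Prime.coprime_iff_not_dvd hq.out).mpr hqMσ).symm)
  have hcent : sigmaCore M ≤ centralizer (B : Set G) := by
    intro x hx
    rw [mem_centralizer_iff]
    intro b hb
    have hxM : x ∈ M := sigmaCore_le M hx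
    have h1 : x * b * x⁻¹ * b⁻¹ ∈ B := by
      have := (mem_normalizer_iff.mp (hBn hxM) b).mp hb
      exact mul_mem this (inv_mem hb)
    have h2 : x * b * x⁻¹ * b⁻¹ ∈ sigmaCore M := by
      have hbn : b ∈ normalizer ((sigmaCore M : Subgroup G) : Set G) :=
        BG.le_normalizer_sigmaCore M (hBM hb)
      have h3 : b * x⁻¹ * b⁻¹ ∈ sigmaCore M := (mem_normalizer_iff.mp hbn x⁻¹).mp (inv_mem hx)
      have h4 := mul_mem hx h3
      have e1 : x * (b * x⁻¹ * b⁻¹) = x * b * x⁻¹ * b⁻¹ := by group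
      rwa [e1] at h4
    have h5 : x * b * x⁻¹ * b⁻¹ ∈ sigmaCore M ⊓ B := ⟨h2, h1⟩
    rw [hdisj, mem_bot] at h5
    have h6 : x * b * x⁻¹ = b := mul_inv_eq_one.mp h5
    have h7 : x * b = b * x := mul_inv_eq_iff_eq_mul.mp h6
    exact h7.symm
  have hrC : r ∣ Nat.card (centralizer (B : Set G)) :=
    dvd_trans hrD (Subgroup.card_dvd_of_le hcent)
  have hBcent : B ≤ centralizer (B : Set G) := by
    intro a ha
    rw [mem_centralizer_iff]
    intro b hb
    exact congrArg Subtype.val (hBe.1.is_comm.comm ⟨b, hb⟩ ⟨a, ha⟩)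
  have hZ : ¬ RankLE 1 ↥(B ⊓ centralizer (B : Set G)) := by
    rw [inf_of_le_left hBcent]
    refine BG10.not_rankLE_one_of_elemAb hBe le_rfl ?_
    rw [hBc]
    have := hq.out.one_lt
    nlinarith
  have htr := transitivity_74 hG hTH hZ hr hrB hrC
  -- a Sylow `q`-subgroup `P` of `M` containing `B`
  have hB' : IsPGroup q (B.subgroupOf M) := hBp.comap_subtype
  obtain ⟨P₀, hP₀⟩ := hB'.exists_le_sylow
  obtain ⟨hPM, hPp, hPi⟩ := sylow_map_facts M P₀
  set P := (P₀ : Subgroup ↥M).map M.subtype with hPdef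
  have hBP : B ≤ P := by
    intro a ha
    exact ⟨⟨a, hBM ha⟩, hP₀ (by rw [mem_subgroupOf]; exact ha), rfl⟩
  have hNP : ¬ normalizer (P : Set G) ≤ M := fun h => hqσ ⟨hq.out, hqM, P₀, h⟩
  have hPtop : P ≠ ⊤ := fun h => hM.1 (top_le_iff.mp (h ▸ hPM))
  have hPπ : ∀ s : ℕ, s.Prime → s ∣ Nat.card P → s ∣ Nat.card B := by
    intro s hs hsd
    obtain ⟨n, hn⟩ := IsPGroup.iff_card.mp hPp
    rw [hn] at hsd
    have : s = q := (Nat.prime_dvd_prime_iff_eq hs hq.out).mp (hs.dvd_of_dvd_pow hsd)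
    rw [this, hBc]
    exact dvd_pow_self q (by norm_num)
  have hsn : (B.subgroupOf P).IsSubnormal :=
    Cfsg.Agent.Lib.Helper91.isSubnormal_of_isNilpotent hPp.isNilpotent _
  obtain ⟨-, -, -, h75⟩ := Cfsg.Agent.S1395.result hG B hTH r hr hrB P hPtop hPπ hBP hsn
    (fun Q₁ h₁ Q₂ h₂ => htr Q₁ h₁ Q₂ h₂)
  -- a `P`-invariant Sylow `r`-subgroup of `M_σ`
  have hPσ : P ≤ normalizer ((sigmaCore M : Subgroup G) : Set G) :=
    hPM.trans (BG.le_normalizer_sigmaCore M)
  have hcop : (Nat.card P).Coprime (Nat.card (sigmaCore M)) := by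
    obtain ⟨n, hn⟩ := IsPGroup.iff_card.mp hPp
    rw [hn]
    exact Nat.Coprime.pow_left n ((Nat.Prime.coprime_iff_not_dvd hq.out).mpr hqMσ)
  haveI : Group.IsSolvable ↥P := isSolvable_of_ne_top hG hPtop
  obtain ⟨S, hS⟩ := exists_invariant_sylow (p := r) P (sigmaCore M) hPσ hcop (Or.inl inferInstance)
  obtain ⟨hQp, hQσ, hQi⟩ := sylow_sigmaCore_facts hσ hrσ S
  set Q := (S : Subgroup ↥(sigmaCore M)).map (sigmaCore M).subtype with hQ
  have hQM : Q ≤ M := hQσ.trans (sigmaCore_le M)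
  have hNQ : normalizer (Q : Set G) ≤ M :=
    normalizer_le_of_sigma hrσ hQM hQp
      (fun h => hQi (dvd_trans h (Subgroup.relIndex_dvd_index_of_le hQM)))
  have h := (h75 Q (mem_maxInv_of_sylow hQp hQi hS)).2
  apply hNP
  rw [h]
  refine sup_le ?_ (inf_le_right.trans hNQ)
  exact (piCoreOf_le _ _).trans ((Subgroup.centralizer_le hBP).trans hCB)

end Cfsg.Agent.Lib.Helper91.BG117
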