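import Cfsg.Agent.Lib.Helper2.G2iRel

/-!
# G2i mini-hive (S2177, owner helper2) — leaf G2I-K8 `kill8` (helper91).
`x_8(s) T(0,d,e)` (`s ≠ 0`) is `U`-conjugate to `x_8(s)`: conjugate by `x_7(σ)`, `s σ² = d`, then by `x_9(ρ)`,
`s ρ = e + s² σ`.
-/

set_option autoImplicit false

namespace Cfsg.Agent.Lib.Helper2.G2i

open Cfsg Cfsg.Lie Cfsg.Agent.Lib.Helper36 Cfsg.Agent.Lib.Helper20.G2c

variable (F : Type*) [Field F]

/-- squaring is onto in a finite field of characteristic 2 -/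
theorem k8_exists_sqrt [Fintype F] [CharP F 2] (a : F) : ∃ σ : F, σ ^ 2 = a := by
  have hinj : Function.Injective (fun x : F => x ^ 2) := by
    intro x y hxy
    have h : (x - y) ^ 2 = 0 := by
      rw [sub_pow_char x y]
      exact sub_eq_zero.mpr hxy
    exact sub_eq_zero.mp (pow_eq_zero_iff (by norm_num) |>.mp h)
  exact Finite.injective_iff_surjective.mp hinj a

/-- `x_11(a) x_10(b) = T(0,b,a)` -/
theorem k8_T_of_11_10 (a b : F) : xg F 11 a * xg F 10 b = T F 0 b a := by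
  unfold T
  rw [ufact_zero, one_mul, (comm10_11 F b a).eq]

/-- conjugation of `x_8(s) T(0,d,e)` by `x_7(σ)` -/
theorem k8_conj7 [CharP F 2] (s d e σ : F) :
    xg F 7 σ * (xg F 8 s * T F 0 d e) * (xg F 7 σ)⁻¹ =
      xg F 8 s * T F 0 (s * σ ^ 2 + d) (s ^ 2 * σ + e) := by
  rw [xg_inv]
  calc xg F 7 σ * (xg F 8 s * T F 0 d e) * xg F 7 σ
      = (xg F 7 σ * xg F 8 s) * T F 0 d e * xg F 7 σ := by simp only [mul_assoc]
    _ = (xg F 8 s * xg F 7 σ * (xg F 11 (s ^ 2 * σ) * xg F 10 (s * σ ^ 2))) * T F 0 d e * xg F 7 σ := by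
        rw [rel87]
    _ = xg F 8 s * xg F 7 σ * (T F 0 (s * σ ^ 2) (s ^ 2 * σ) * T F 0 d e) * xg F 7 σ := by
        rw [k8_T_of_11_10]; simp only [mul_assoc]
    _ = xg F 8 s * xg F 7 σ * (T F 0 (s * σ ^ 2 + d) (s ^ 2 * σ + e) * xg F 7 σ) := by
        rw [ufact_T_mul, add_zero]; simp only [mul_assoc]
    _ = xg F 8 s * xg F 7 σ * (xg F 7 σ * T F 0 (s * σ ^ 2 + d) (s ^ 2 * σ + e)) := by
        rw [T_x7, mul_zero, add_zero]
    _ = xg F 8 s * (xg F 7 σ * xg F 7 σ) * T F 0 (s * σ ^ 2 + d) (s ^ 2 * σ + e) := by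
        simp only [mul_assoc]
    _ = xg F 8 s * T F 0 (s * σ ^ 2 + d) (s ^ 2 * σ + e) := by
        rw [xg_mul_self, mul_one]

/-- conjugation of `x_8(s) T(0,0,e)` by `x_9(ρ)` -/
theorem k8_conj9 [CharP F 2] (s e ρ : F) :
    xg F 9 ρ * (xg F 8 s * T F 0 0 e) * (xg F 9 ρ)⁻¹ = xg F 8 s * T F 0 0 (s * ρ + e) := by
  rw [xg_inv]
  have h9 : xg F 9 ρ * xg F 11 (s * ρ) = T F ρ 0 (s * ρ) := by
    unfold T
    rw [ufact_zero, mul_one]
  calc xg F 9 ρ * (xg F 8 s * T F 0 0 e) * xg F 9 ρ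
      = (xg F 9 ρ * xg F 8 s) * T F 0 0 e * xg F 9 ρ := by simp only [mul_assoc]
    _ = (xg F 8 s * xg F 9 ρ * xg F 11 (s * ρ)) * T F 0 0 e * xg F 9 ρ := by rw [rel89]
    _ = xg F 8 s * ((xg F 9 ρ * xg F 11 (s * ρ)) * T F 0 0 e * xg F 9 ρ) := by simp only [mul_assoc]
    _ = xg F 8 s * (T F ρ 0 (s * ρ) * T F 0 0 e * T F ρ 0 0) := by rw [h9, ufact_T9]
    _ = xg F 8 s * T F 0 0 (s * ρ + e) := by
        rw [ufact_T_mul, ufact_T_mul, add_zero, add_zero, add_zero, add_zero,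
          CharTwo.add_self_eq_zero]

/-- G2I-K8 -/
theorem kill8 [Fintype F] [CharP F 2] (s d e : F) (hs : s ≠ 0) :
    ∃ h ∈ chevG2.posUnipotent F, h * (xg F 8 s * T F 0 d e) * h⁻¹ = xg F 8 s := by
  obtain ⟨σ, hσ⟩ := k8_exists_sqrt F (d / s)
  have hσ' : s * σ ^ 2 + d = 0 := by
    rw [hσ, mul_div_cancel₀ _ hs]
    exact CharTwo.add_self_eq_zero d
  refine ⟨xg F 9 ((s ^ 2 * σ + e) / s) * xg F 7 σ, ?_, ?_⟩
  · exact mul_mem (xGL_mem_pos chevG2 hG2 F 9 (by decide) _) (xGL_mem_pos chevG2 hG2 F 7 (by decide) _)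
  · have h1 := k8_conj7 F s d e σ
    rw [hσ'] at h1
    have h2 := k8_conj9 F s (s ^ 2 * σ + e) ((s ^ 2 * σ + e) / s)
    rw [mul_div_cancel₀ _ hs, CharTwo.add_self_eq_zero, T_zero3, mul_one] at h2
    calc xg F 9 ((s ^ 2 * σ + e) / s) * xg F 7 σ * (xg F 8 s * T F 0 d e) *
          (xg F 9 ((s ^ 2 * σ + e) / s) * xg F 7 σ)⁻¹
        = xg F 9 ((s ^ 2 * σ + e) / s) * (xg F 7 σ * (xg F 8 s * T F 0 d e) * (xg F 7 σ)⁻¹) *
          (xg F 9 ((s ^ 2 * σ + e) / s))⁻¹ := by rw [mul_inv_rev]; simp only [mul_assoc]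
      _ = xg F 8 s := by rw [h1, h2]

end Cfsg.Agent.Lib.Helper2.G2i
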