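import Cfsg.Agent.Lib.Helper2.G2oDefs

/-! # G2o hive (S4278, architect helper2): leaf G2O-W0S `w0s` (helper91)

Reusable (same namespace): `w0s_comp` (composition of `Acts`), `w0s_congr`, `w0s_acts_n` / `w0s_acts_ninv`
(`n_{simple i}(1)^{±1}` acts through `reflectRoot i`), `w0s_acts_h` (`h_r(e)` acts through `id`). -/

set_option autoImplicit false

namespace Cfsg.Agent.Lib.Helper2.G2o

open Cfsg Cfsg.Lie Cfsg.Agent.Lib.Helper36 Cfsg.Agent.Lib.Helper20.G2c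

variable (F : Type*) [Field F]

theorem w0s_comp (a b : GL chevG2.Idx F) (π ρ : ℕ → ℕ)
    (hρ : ∀ r < chevG2.nroots, ρ r < chevG2.nroots)
    (ha : Acts F a π) (hb : Acts F b ρ) : Acts F (a * b) (π ∘ ρ) := by
  intro r hr
  obtain ⟨c, hc, hbc⟩ := hb r hr
  obtain ⟨c', hc', hac⟩ := ha (ρ r) (hρ r hr)
  refine ⟨c' * c, mul_ne_zero hc' hc, fun t => ?_⟩
  have e : a * b * xg F r t * (a * b)⁻¹ = a * (b * xg F r t * b⁻¹) * a⁻¹ := by group
  rw [e, hbc, hac, Function.comp_apply, mul_assoc]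

theorem w0s_congr (n : GL chevG2.Idx F) (π ρ : ℕ → ℕ) (h : ∀ r < chevG2.nroots, π r = ρ r)
    (hn : Acts F n π) : Acts F n ρ := by
  intro r hr
  obtain ⟨c, hc, hbc⟩ := hn r hr
  exact ⟨c, hc, fun t => by rw [hbc t, h r hr]⟩

theorem w0s_eta : ∀ i < 2, ∀ r < 12, nEta chevG2 i r = 1 ∨ nEta chevG2 i r = -1 := by decide +kernel

theorem w0s_refl_lt : ∀ i < 2, ∀ r < 12, chevG2.reflectRoot i r < 12 := by decide

theorem w0s_refl_refl : ∀ i < 2, ∀ r < 12, chevG2.reflectRoot i (chevG2.reflectRoot i r) = r := by decide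

theorem w0s_acts_n (i : ℕ) (hi : i < 2) :
    Acts F (nGL chevG2 hG2 F (chevG2.simple i) 1) (chevG2.reflectRoot i) := by
  intro r hr
  have hr' : r < 12 := hr
  have heta := w0s_eta i hi r hr'
  refine ⟨((nEta chevG2 i r : ℤ) : F), ?_, fun t => ?_⟩
  · rcases heta with h | h <;> rw [h] <;> simp
  · have h := xGL_reflect chevG2 hG2 F i r hi hr (((nEta chevG2 i r : ℤ) : F) * t)
    have e : ((nEta chevG2 i r : ℤ) : F) * (((nEta chevG2 i r : ℤ) : F) * t) = t := by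
      rcases heta with h' | h' <;> rw [h'] <;> simp
    rw [e] at h
    exact h.symm

theorem w0s_acts_ninv (i : ℕ) (hi : i < 2) :
    Acts F (nGL chevG2 hG2 F (chevG2.simple i) 1)⁻¹ (chevG2.reflectRoot i) := by
  intro r hr
  have hr' : r < 12 := hr
  have hr'lt : chevG2.reflectRoot i r < 12 := w0s_refl_lt i hi r hr'
  have heta := w0s_eta i hi _ hr'lt
  refine ⟨((nEta chevG2 i (chevG2.reflectRoot i r) : ℤ) : F), ?_, fun t => ?_⟩
  · rcases heta with h | h <;> rw [h] <;> simp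
  · have h := xGL_reflect chevG2 hG2 F i (chevG2.reflectRoot i r) hi hr'lt t
    rw [w0s_refl_refl i hi r hr'] at h
    show (nGL chevG2 hG2 F (chevG2.simple i) 1)⁻¹ * xGL chevG2 hG2 F r t *
      (nGL chevG2 hG2 F (chevG2.simple i) 1)⁻¹⁻¹ = _
    rw [h]
    group

theorem w0s_acts_h (r : ℕ) (hr : r < chevG2.nroots) (e : F) (he : e ≠ 0) :
    Acts F (hGL chevG2 hG2 F r e) id := by
  intro s hs
  exact ⟨e ^ (gc chevG2 r s), zpow_ne_zero _ he, fun t => hGL_conj_xGL chevG2 hG2 F r s hr hs e he t⟩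

theorem w0s_neg_lt : ∀ r < 12, chevG2.neg r < 12 := by decide

theorem w0s_table : ∀ r < 12,
    chevG2.reflectRoot 0 (chevG2.reflectRoot 1 (chevG2.reflectRoot 0 (chevG2.neg
      (chevG2.reflectRoot 1 (chevG2.reflectRoot 0 r))))) = chevG2.reflectRoot 1 r := by decide

theorem w0s_simple : chevG2.simple 0 = 7 ∧ chevG2.simple 1 = 6 := by decide

/-- G2O-W0S -/
theorem w0s (n : GL chevG2.Idx F) (h : Acts F n chevG2.neg) (e : F) (he : e ≠ 0) :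
    ∃ m ∈ chevG2.monomialSubgroup F,
      Acts F (m * (hGL chevG2 hG2 F 7 e * nGL chevG2 hG2 F 7 1 * n) * m⁻¹) (chevG2.reflectRoot 1) := by
  have hn7 : Acts F (nGL chevG2 hG2 F 7 1) (chevG2.reflectRoot 0) := by
    have := w0s_acts_n F 0 (by norm_num); rwa [w0s_simple.1] at this
  have hn6 : Acts F (nGL chevG2 hG2 F 6 1) (chevG2.reflectRoot 1) := by
    have := w0s_acts_n F 1 (by norm_num); rwa [w0s_simple.2] at this
  have hn7i : Acts F (nGL chevG2 hG2 F 7 1)⁻¹ (chevG2.reflectRoot 0) := by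
    have := w0s_acts_ninv F 0 (by norm_num); rwa [w0s_simple.1] at this
  have hn6i : Acts F (nGL chevG2 hG2 F 6 1)⁻¹ (chevG2.reflectRoot 1) := by
    have := w0s_acts_ninv F 1 (by norm_num); rwa [w0s_simple.2] at this
  have hh : Acts F (hGL chevG2 hG2 F 7 e) id := w0s_acts_h F 7 (by decide) e he
  have l0 : ∀ r < chevG2.nroots, chevG2.reflectRoot 0 r < chevG2.nroots := w0s_refl_lt 0 (by norm_num)
  have l1 : ∀ r < chevG2.nroots, chevG2.reflectRoot 1 r < chevG2.nroots := w0s_refl_lt 1 (by norm_num)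
  have ln : ∀ r < chevG2.nroots, chevG2.neg r < chevG2.nroots := w0s_neg_lt
  -- n'' = h n_7 n
  have h1 : Acts F (nGL chevG2 hG2 F 7 1 * n) (chevG2.reflectRoot 0 ∘ chevG2.neg) :=
    w0s_comp F _ _ _ _ ln hn7 h
  have h2 : Acts F (hGL chevG2 hG2 F 7 e * (nGL chevG2 hG2 F 7 1 * n))
      (id ∘ (chevG2.reflectRoot 0 ∘ chevG2.neg)) :=
    w0s_comp F _ _ _ _ (fun r hr => l0 _ (ln r hr)) hh h1
  -- m⁻¹ = n_6⁻¹ n_7⁻¹
  have h3 : Acts F ((nGL chevG2 hG2 F 6 1)⁻¹ * (nGL chevG2 hG2 F 7 1)⁻¹)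
      (chevG2.reflectRoot 1 ∘ chevG2.reflectRoot 0) := w0s_comp F _ _ _ _ l0 hn6i hn7i
  have h4 : Acts F (hGL chevG2 hG2 F 7 e * (nGL chevG2 hG2 F 7 1 * n) *
      ((nGL chevG2 hG2 F 6 1)⁻¹ * (nGL chevG2 hG2 F 7 1)⁻¹))
      ((id ∘ (chevG2.reflectRoot 0 ∘ chevG2.neg)) ∘ (chevG2.reflectRoot 1 ∘ chevG2.reflectRoot 0)) :=
    w0s_comp F _ _ _ _ (fun r hr => l1 _ (l0 r hr)) h2 h3
  have h5 : Acts F (nGL chevG2 hG2 F 7 1 * nGL chevG2 hG2 F 6 1)
      (chevG2.reflectRoot 0 ∘ chevG2.reflectRoot 1) := w0s_comp F _ _ _ _ l1 hn7 hn6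
  have h6 := w0s_comp F _ _ _ _
    (fun r hr => l0 _ (ln _ (l1 _ (l0 r hr)))) h5 h4
  refine ⟨nGL chevG2 hG2 F 7 1 * nGL chevG2 hG2 F 6 1,
    mul_mem (nGL_mem_mono chevG2 hG2 F 7 (by decide)) (nGL_mem_mono chevG2 hG2 F 6 (by decide)), ?_⟩
  have e1 : nGL chevG2 hG2 F 7 1 * nGL chevG2 hG2 F 6 1 *
      (hGL chevG2 hG2 F 7 e * nGL chevG2 hG2 F 7 1 * n) * (nGL chevG2 hG2 F 7 1 * nGL chevG2 hG2 F 6 1)⁻¹ =
      nGL chevG2 hG2 F 7 1 * nGL chevG2 hG2 F 6 1 * (hGL chevG2 hG2 F 7 e * (nGL chevG2 hG2 F 7 1 * n) *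
      ((nGL chevG2 hG2 F 6 1)⁻¹ * (nGL chevG2 hG2 F 7 1)⁻¹)) := by group
  rw [e1]
  refine w0s_congr F _ _ _ (fun r hr => ?_) h6
  simp only [Function.comp_apply]
  exact w0s_table r hr

end Cfsg.Agent.Lib.Helper2.G2o
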