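import Mathlib
import Cfsg.Agent.Lib.Helper20.SuGrp

set_option autoImplicit false
set_option linter.style.haveILetI false
set_option linter.unusedSimpArgs false
set_option linter.unusedSectionVars false
set_option linter.unusedVariables false

/-!
# SU-I: the rank one torus of `SU_3` is generated by Eichler elements
-/

namespace Cfsg.Agent.Lib.Helper20.SuF

open Matrix Subgroup Cfsg.Agent.Lib.Helper20.PslF

section i_aux

variable {n : ℕ} (K : Type*) [Field K]

/-- the selection matrix of `s : Fin 3 → Fin n` -/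
def i_S (s : Fin 3 → Fin n) : Matrix (Fin n) (Fin 3) K :=
  Matrix.of fun x i => if x = s i then 1 else 0

theorem i_S_apply (s : Fin 3 → Fin n) (x : Fin n) (i : Fin 3) :
    i_S K s x i = if x = s i then 1 else 0 := rfl

theorem i_StS {s : Fin 3 → Fin n} (hs : Function.Injective s) :
    (i_S K s)ᵀ * i_S K s = 1 := by
  ext i j
  rw [Matrix.mul_apply]
  simp only [Matrix.transpose_apply, i_S_apply]
  rw [Finset.sum_eq_single (s i)]
  · rw [if_pos rfl, one_mul]
    by_cases h : i = j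
    · subst h
      rw [if_pos rfl, Matrix.one_apply_eq]
    · rw [if_neg (fun h2 => h (hs h2)), Matrix.one_apply_ne h]
  · intro x _ hx
    rw [if_neg hx, zero_mul]
  · intro h
    exact absurd (Finset.mem_univ _) h

/-- the block embedding attached to `s` -/
def i_emb (s : Fin 3 → Fin n) (M : Matrix (Fin 3) (Fin 3) K) : Matrix (Fin n) (Fin n) K :=
  1 + i_S K s * (M - 1) * (i_S K s)ᵀ

theorem i_emb_mul {s : Fin 3 → Fin n} (hs : Function.Injective s)
    (M N : Matrix (Fin 3) (Fin 3) K) : i_emb K s M * i_emb K s N = i_emb K s (M * N) := by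
  unfold i_emb
  have e : (M * N - 1) = (M - 1) + (N - 1) + (M - 1) * (N - 1) := by
    simp only [mul_sub, sub_mul, mul_one, one_mul]
    abel
  have key : i_S K s * (M - 1) * (i_S K s)ᵀ * (i_S K s * (N - 1) * (i_S K s)ᵀ) =
      i_S K s * ((M - 1) * (N - 1)) * (i_S K s)ᵀ := by
    calc i_S K s * (M - 1) * (i_S K s)ᵀ * (i_S K s * (N - 1) * (i_S K s)ᵀ)
        = i_S K s * (M - 1) * ((i_S K s)ᵀ * i_S K s) * (N - 1) * (i_S K s)ᵀ := by
          simp only [Matrix.mul_assoc]
      _ = i_S K s * ((M - 1) * (N - 1)) * (i_S K s)ᵀ := by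
          rw [i_StS K hs, Matrix.mul_one]
          simp only [Matrix.mul_assoc]
  rw [e]
  have e2 : i_S K s * ((M - 1) + (N - 1) + (M - 1) * (N - 1)) * (i_S K s)ᵀ =
      i_S K s * (M - 1) * (i_S K s)ᵀ + i_S K s * (N - 1) * (i_S K s)ᵀ +
        i_S K s * ((M - 1) * (N - 1)) * (i_S K s)ᵀ := by
    rw [Matrix.mul_add, Matrix.mul_add, Matrix.add_mul, Matrix.add_mul]
  rw [e2, ← key]
  generalize i_S K s * (M - 1) * (i_S K s)ᵀ = A
  generalize i_S K s * (N - 1) * (i_S K s)ᵀ = B
  rw [mul_add, add_mul, add_mul, one_mul, mul_one, one_mul]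
  abel

theorem i_S_mulVec (s : Fin 3 → Fin n) (α : Fin 3 → K) (x : Fin n) :
    (i_S K s *ᵥ α) x = ∑ i, if x = s i then α i else 0 := by
  rw [Matrix.mulVec, dotProduct]
  refine Finset.sum_congr rfl (fun i _ => ?_)
  rw [i_S_apply]
  split_ifs <;> simp

theorem i_S_eb (s : Fin 3 → Fin n) (i : Fin 3) :
    i_S K s *ᵥ (eb i) = eb (s i) := by
  funext x
  rw [i_S_mulVec, Finset.sum_eq_single i]
  · rw [eb_same, eb_apply]
  · intro j _ hj
    rw [eb_ne hj]
    simp
  · intro h
    exact absurd (Finset.mem_univ _) h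

variable {K}
variable (F : Inv K)

theorem i_Rm {s : Fin 3 → Fin n} (hrev : ∀ i, Fin.rev (s i) = s (Fin.rev i))
    (α β : Fin 3 → K) :
    Rm F (i_S K s *ᵥ α) (i_S K s *ᵥ β) = i_S K s * Rm F α β * (i_S K s)ᵀ := by
  have hrev' : ∀ (y : Fin n) (j : Fin 3), Fin.rev y = s j ↔ y = s (Fin.rev j) := by
    intro y j
    constructor
    · intro h
      rw [← Fin.rev_rev y, h, hrev]
    · intro h
      rw [h, hrev, Fin.rev_rev]
  ext x y
  rw [Rm_apply, i_S_mulVec, i_S_mulVec, Matrix.mul_apply, map_sum, Finset.sum_mul_sum]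
  rw [Finset.sum_comm]
  rw [← Equiv.sum_comp (Fin.revPerm : Equiv.Perm (Fin 3))]
  refine Finset.sum_congr rfl (fun j _ => ?_)
  rw [Matrix.transpose_apply, i_S_apply, Matrix.mul_apply, Finset.sum_mul]
  refine Finset.sum_congr rfl (fun i _ => ?_)
  rw [i_S_apply, Rm_apply, Fin.revPerm_apply]
  by_cases hx : x = s i
  · by_cases hy : y = s j
    · have : Fin.rev y = s (Fin.rev j) := by rw [hy, hrev]
      rw [if_pos hx, if_pos hy, if_pos hx, if_pos this]
      ring
    · have : ¬ Fin.rev y = s (Fin.rev j) := by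
        intro h
        rw [hrev', Fin.rev_rev] at h
        exact hy h
      rw [if_neg hy, if_neg this, map_zero, mul_zero, mul_zero]
  · rw [if_neg hx, if_neg hx, zero_mul, zero_mul, zero_mul]

theorem i_Sm {s : Fin 3 → Fin n} (hrev : ∀ i, Fin.rev (s i) = s (Fin.rev i))
    (u w : Fin 3 → K) (c : K) :
    Sm F (i_S K s *ᵥ u) (i_S K s *ᵥ w) c = i_emb K s (Sm F u w c) := by
  unfold Sm i_emb
  rw [i_Rm F hrev, i_Rm F hrev, i_Rm F hrev]
  have e : (1 + Rm F w u - Rm F u w + c • Rm F u u - 1 : Matrix (Fin 3) (Fin 3) K) =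
      Rm F w u - Rm F u w + c • Rm F u u := by abel
  rw [e, Matrix.mul_add, Matrix.mul_sub, Matrix.add_mul, Matrix.sub_mul, Matrix.mul_smul,
    Matrix.smul_mul]
  abel

theorem i_diag {s : Fin 3 → Fin n} (hs : Function.Injective s) (δ : Fin 3 → K) :
    i_emb K s (Matrix.diagonal δ) = Matrix.diagonal (fun x => if x = s 0 then δ 0 else
      if x = s 1 then δ 1 else if x = s 2 then δ 2 else 1) := by
  have h01 : s 0 ≠ s 1 := fun h => absurd (hs h) (by decide)
  have h02 : s 0 ≠ s 2 := fun h => absurd (hs h) (by decide)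
  have h12 : s 1 ≠ s 2 := fun h => absurd (hs h) (by decide)
  ext x y
  unfold i_emb
  rw [Matrix.add_apply, Matrix.mul_apply]
  simp only [Matrix.mul_apply, Matrix.transpose_apply, i_S_apply, Fin.sum_univ_three,
    Matrix.sub_apply, Matrix.diagonal_apply, Matrix.one_apply]
  by_cases hxy : x = y
  · subst hxy
    by_cases h0 : x = s 0
    · subst h0
      simp [h01, h02, h12, h01.symm, h02.symm, h12.symm]
    · by_cases h1 : x = s 1
      · subst h1
        simp [h01, h02, h12, h01.symm, h02.symm, h12.symm]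
      · by_cases h2 : x = s 2
        · subst h2
          simp [h01, h02, h12, h01.symm, h02.symm, h12.symm]
        · simp [h0, h1, h2]
  · by_cases h0 : x = s 0
    · subst h0
      have : ¬ y = s 0 := fun h => hxy h.symm
      simp [h01, h02, h12, h01.symm, h02.symm, h12.symm, hxy, this]
    · by_cases h1 : x = s 1
      · subst h1
        have : ¬ y = s 1 := fun h => hxy h.symm
        simp [h01, h02, h12, h01.symm, h02.symm, h12.symm, hxy, this]
      · by_cases h2 : x = s 2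
        · subst h2
          have : ¬ y = s 2 := fun h => hxy h.symm
          simp [h01, h02, h12, h01.symm, h02.symm, h12.symm, hxy, this]
        · simp [h0, h1, h2, hxy]

/-- the upper root matrix -/
def i_X (b bb c : K) : Matrix (Fin 3) (Fin 3) K := !![1, -bb, c; 0, 1, b; 0, 0, 1]

/-- the lower root matrix -/
def i_Y (b bb c : K) : Matrix (Fin 3) (Fin 3) K := !![1, 0, 0; b, 1, 0; c, -bb, 1]

theorem i_Sm_X (b c : K) :
    Sm F (eb (0 : Fin 3)) (b • eb (1 : Fin 3)) c = i_X b (F.sg b) c := by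
  have r0 : Fin.rev (0 : Fin 3) = 2 := by decide
  have r1 : Fin.rev (1 : Fin 3) = 1 := by decide
  have r2 : Fin.rev (2 : Fin 3) = 0 := by decide
  ext i j
  fin_cases i <;> fin_cases j <;>
    simp [Sm_apply, eb_apply, i_X, r0, r1, r2]

theorem i_Sm_Y (b c : K) :
    Sm F (eb (2 : Fin 3)) (b • eb (1 : Fin 3)) c = i_Y b (F.sg b) c := by
  have r0 : Fin.rev (0 : Fin 3) = 2 := by decide
  have r1 : Fin.rev (1 : Fin 3) = 1 := by decide
  have r2 : Fin.rev (2 : Fin 3) = 0 := by decide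
  ext i j
  fin_cases i <;> fin_cases j <;>
    simp [Sm_apply, eb_apply, i_Y, r0, r1, r2]

theorem i_N3 {b bb c cc : K} (hc : c ≠ 0) (hcc : cc ≠ 0) (h : c + cc + b * bb = 0) :
    i_X b bb c * i_Y (-b / cc) (-bb / c) (1 / cc) * i_X (b * c / cc) (bb * cc / c) c =
      !![0, 0, c; 0, -cc / c, 0; 1 / cc, 0, 0] := by
  unfold i_X i_Y
  ext i j
  fin_cases i <;> fin_cases j <;>
    simp [Matrix.mul_apply, Fin.sum_univ_three] <;> field_simp <;>
    first
      | ring1
      | linear_combination h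
      | linear_combination (-bb) * h
      | linear_combination c * h
      | linear_combination b * h

/-- the monomial matrix -/
def i_A (c cc : K) : Matrix (Fin 3) (Fin 3) K := !![0, 0, c; 0, -cc / c, 0; 1 / cc, 0, 0]

theorem i_exists_b (c : K) : ∃ b : K, c + F.sg c + b * F.sg b = 0 := by
  by_cases h : c + F.sg c = 0
  · exact ⟨0, by rw [zero_mul, add_zero, h]⟩
  · have hfix : F.sg (-(c + F.sg c)) = -(c + F.sg c) := by
      rw [map_neg, map_add, F.invol, add_comm]
    obtain ⟨b, hb⟩ := F.nm_surj (-(c + F.sg c)) (neg_ne_zero.mpr h) hfix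
    exact ⟨b, by rw [hb]; ring⟩

theorem i_n_eq {s : Fin 3 → Fin n} (hs : Function.Injective s)
    (hrev : ∀ i, Fin.rev (s i) = s (Fin.rev i)) {b c : K} (hc : c ≠ 0)
    (h : c + F.sg c + b * F.sg b = 0) :
    Sm F (eb (s 0)) (b • eb (s 1)) c * Sm F (eb (s 2)) ((-b / F.sg c) • eb (s 1)) (1 / F.sg c) *
      Sm F (eb (s 0)) ((b * c / F.sg c) • eb (s 1)) c = i_emb K s (i_A c (F.sg c)) := by
  have hcc : F.sg c ≠ 0 := F.sg_ne_zero hc
  rw [← i_S_eb K s 0, ← i_S_eb K s 1, ← i_S_eb K s 2, ← Matrix.mulVec_smul, ← Matrix.mulVec_smul,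
    ← Matrix.mulVec_smul, i_Sm F hrev, i_Sm F hrev, i_Sm F hrev, i_emb_mul K hs, i_emb_mul K hs,
    i_Sm_X, i_Sm_Y, i_Sm_X]
  have e1 : F.sg (-b / F.sg c) = -F.sg b / c := by
    rw [map_div₀, map_neg, F.invol]
  have e2 : F.sg (b * c / F.sg c) = F.sg b * F.sg c / c := by
    rw [map_div₀, map_mul, F.invol]
  rw [e1, e2, i_N3 hc hcc h]
  rfl

theorem i_diag_mul (t c cc tt : K) (ht : t ≠ 0) (htt : tt ≠ 0) (hc : c ≠ 0) (hcc : cc ≠ 0) :
    Matrix.diagonal ![t, tt / t, tt⁻¹] * i_A c cc = i_A (t * c) (tt * cc) := by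
  unfold i_A
  ext i j
  fin_cases i <;> fin_cases j <;> simp [Matrix.diagonal_mul] <;> field_simp

end i_aux

variable {n : ℕ} {K : Type*} [Field K] [Fintype K] (F : Inv K)

theorem su3_torus {a mu : Fin n} (hmu : Fin.rev mu = mu) (ha : a ≠ mu) (t : K) (ht : t ≠ 0)
    (d : SLn n K)
    (hd : mt d = Matrix.diagonal (fun x => if x = a then t else if x = mu then F.sg t / t else
      if x = Fin.rev a then (F.sg t)⁻¹ else 1)) :
    d ∈ closure {g : SLn n K | ∃ (e : Fin n) (b c : K) (h1 : hf F (eb e) (eb e) = 0)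
      (h2 : hf F (b • (eb mu : Fin n → K)) (eb e) = 0), (e = a ∨ e = Fin.rev a) ∧
        c + F.sg c + b * F.sg b = 0 ∧ g = Sg F (eb e) (b • eb mu) c h1 h2} := by
  set T : Set (SLn n K) := {g : SLn n K | ∃ (e : Fin n) (b c : K) (h1 : hf F (eb e) (eb e) = 0)
      (h2 : hf F (b • (eb mu : Fin n → K)) (eb e) = 0), (e = a ∨ e = Fin.rev a) ∧
        c + F.sg c + b * F.sg b = 0 ∧ g = Sg F (eb e) (b • eb mu) c h1 h2} with hT
  -- the three indices
  have ha' : Fin.rev a ≠ mu := by
    intro h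
    apply ha
    rw [← Fin.rev_rev a, h, hmu]
  have haa : Fin.rev a ≠ a := by
    intro h
    apply ha
    have h1 : (n : ℕ) - ((a : ℕ) + 1) = (a : ℕ) := by
      have := congrArg Fin.val h
      rwa [Fin.val_rev] at this
    have h2 : (n : ℕ) - ((mu : ℕ) + 1) = (mu : ℕ) := by
      have := congrArg Fin.val hmu
      rwa [Fin.val_rev] at this
    have h3 := a.isLt
    have h4 := mu.isLt
    apply Fin.ext
    omega
  set s : Fin 3 → Fin n := ![a, mu, Fin.rev a] with hs_def
  have hs : Function.Injective s := by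
    intro i j hij
    fin_cases i <;> fin_cases j <;> simp [hs_def] at hij ⊢ <;>
      first
        | exact absurd hij ha
        | exact absurd hij.symm ha
        | exact absurd hij ha'
        | exact absurd hij.symm ha'
        | exact absurd hij haa
        | exact absurd hij.symm haa
  have hrev : ∀ i, Fin.rev (s i) = s (Fin.rev i) := by
    intro i
    have r0 : Fin.rev (0 : Fin 3) = 2 := by decide
    have r1 : Fin.rev (1 : Fin 3) = 1 := by decide
    have r2 : Fin.rev (2 : Fin 3) = 0 := by decide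
    fin_cases i
    · show Fin.rev (s 0) = s (Fin.rev 0)
      rw [r0]; rfl
    · show Fin.rev (s 1) = s (Fin.rev 1)
      rw [r1]; exact hmu
    · show Fin.rev (s 2) = s (Fin.rev 2)
      rw [r2]; exact Fin.rev_rev a
  -- generators
  have hh1a : hf F (eb a : Fin n → K) (eb a) = 0 := by
    rw [hf_eb_eb, if_neg (fun h => haa h.symm)]
  have hh1a' : hf F (eb (Fin.rev a) : Fin n → K) (eb (Fin.rev a)) = 0 := by
    rw [hf_eb_eb, Fin.rev_rev, if_neg haa]
  have hh2a : ∀ b : K, hf F (b • (eb mu : Fin n → K)) (eb a) = 0 := by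
    intro b
    rw [hf_smul_left, hf_eb_eb, if_neg (fun h => ha' h.symm), mul_zero]
  have hh2a' : ∀ b : K, hf F (b • (eb mu : Fin n → K)) (eb (Fin.rev a)) = 0 := by
    intro b
    rw [hf_smul_left, hf_eb_eb, Fin.rev_rev, if_neg (fun h => ha h.symm), mul_zero]
  -- the monomial elements
  have hmono : ∀ (b c : K), c ≠ 0 → c + F.sg c + b * F.sg b = 0 →
      ∃ g ∈ closure T, mt g = i_emb K s (i_A c (F.sg c)) := by
    intro b c hc h
    have hcc : F.sg c ≠ 0 := F.sg_ne_zero hc
    refine ⟨Sg F (eb a) (b • eb mu) c hh1a (hh2a b) *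
      Sg F (eb (Fin.rev a)) ((-b / F.sg c) • eb mu) (1 / F.sg c) hh1a' (hh2a' _) *
      Sg F (eb a) ((b * c / F.sg c) • eb mu) c hh1a (hh2a _), ?_, ?_⟩
    · refine mul_mem (mul_mem (subset_closure ?_) (subset_closure ?_)) (subset_closure ?_)
      · exact ⟨a, b, c, hh1a, hh2a b, Or.inl rfl, h, rfl⟩
      · refine ⟨Fin.rev a, -b / F.sg c, 1 / F.sg c, hh1a', hh2a' _, Or.inr rfl, ?_, rfl⟩
        rw [map_div₀, map_div₀, map_neg, map_one, F.invol]
        field_simp
        linear_combination h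
      · refine ⟨a, b * c / F.sg c, c, hh1a, hh2a _, Or.inl rfl, ?_, rfl⟩
        rw [map_div₀, map_mul, F.invol]
        field_simp
        linear_combination h
    · rw [mt_mul, mt_mul, mt_Sg, mt_Sg, mt_Sg]
      exact i_n_eq F hs hrev hc h
  obtain ⟨b0, hb0⟩ := i_exists_b F (1 : K)
  obtain ⟨b1, hb1⟩ := i_exists_b F (t * 1)
  obtain ⟨g0, hg0, e0⟩ := hmono b0 1 one_ne_zero hb0
  obtain ⟨g1, hg1, e1⟩ := hmono b1 (t * 1) (mul_ne_zero ht one_ne_zero) hb1
  have hdd : mt d = i_emb K s (Matrix.diagonal ![t, F.sg t / t, (F.sg t)⁻¹]) := by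
    rw [hd, i_diag hs]
    rfl
  have key : d * g0 = g1 := by
    apply mt_ext
    rw [mt_mul, hdd, e0, e1, i_emb_mul K hs, map_mul,
      i_diag_mul t 1 (F.sg 1) (F.sg t) ht (F.sg_ne_zero ht) one_ne_zero (F.sg_ne_zero one_ne_zero)]
  have : d = g1 * g0⁻¹ := by
    rw [← key, mul_inv_cancel_right]
  rw [this]
  exact mul_mem hg1 (inv_mem hg0)

end Cfsg.Agent.Lib.Helper20.SuF
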