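import Mathlib
import Cfsg.Prelude.Def_Solvable
import Cfsg.Prelude.Def_Transfer
import Cfsg.Prelude.Def_OddOrderLocal

/-!
# BG Theorem 15.2: the abstract configuration of Case B (`M_σ` not nilpotent)

`M` is a finite solvable group of odd order, `H` (= `M_σ`) a normal Hall subgroup with complement
`K` (= a Hall `κ(M)`-subgroup) acting "primely" on `H` with `C_H(K)` of prime order `q`,
`[H, K] = H`, `H` not nilpotent, and `Q = O_q(M)`.
-/

set_option autoImplicit false

namespace Cfsg.Agent.Lib.Helper91.BG152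

open Subgroup

universe u

/-- the abstract configuration of BG 15.2, Case B -/
structure CfgB {M : Type u} [Group M] (H K Q : Subgroup M) (q : ℕ) : Prop where
  odd : Odd (Nat.card M)
  solv : Group.IsSolvable M
  sup : H ⊔ K = ⊤
  cop : (Nat.card H).Coprime (Nat.card K)
  K1 : K ≠ ⊥
  pa : ∀ k ∈ K, k ≠ 1 → H ⊓ centralizer ({k} : Set M) = H ⊓ centralizer (K : Set M)
  qp : q.Prime
  cKs : Nat.card ↥(H ⊓ centralizer (K : Set M)) = q
  comm : ⁅H, K⁆ = H
  nn : ¬ Group.IsNilpotent H
  pQ : IsPGroup q Q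
  maxQ : ∀ N : Subgroup M, N.Normal → IsPGroup q N → N ≤ Q

end Cfsg.Agent.Lib.Helper91.BG152
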