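import Mathlib
import Cfsg.Statements.S1299
import Cfsg.Agent.S1861
import Cfsg.Agent.Lib.Helper31.GenRank
import Cfsg.Agent.Lib.Helper22.KbDefs2
import Cfsg.Agent.Lib.Helper80.KbGEN

/-!
# Kb hive (S1299, owner helper22). LEAF KB-HG `kb_theta_le` (helper91).
-/

set_option autoImplicit false

namespace Cfsg.Agent.Lib.Helper22.Kb

open Subgroup Cfsg
open scoped commutatorElement

variable {G : Type*} [Group G]

variable {p k : ℕ} {A : Subgroup G}

/-- core of KB-HG with KB-GEN and KB-D2 as hypotheses. -/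
theorem kbhg_core [Finite G] [Fact p.Prime] (hk : 1 ≤ k)
    (hA : Cfsg.IsElementaryAbelian p A) (hAk : p ^ (k + 2) ≤ Nat.card ↥A) {a : G} (haA : a ∈ A)
    (hGEN : ∀ {X D : Subgroup G}, A ≤ normalizer (X : Set G) → ¬ p ∣ Nat.card X → D ≤ A → D ≠ A →
      X ≤ centralizer (D : Set G) →
      X ≤ ⨆ F ∈ {F : Subgroup G | D ≤ F ∧ F ≤ A ∧ p * Nat.card F = Nat.card A},
        X ⊓ centralizer (F : Set G))
    (hD2 : ∀ {E E' : Subgroup G}, E ≤ A → p ^ k ≤ Nat.card E → E' ≤ A →
      signalizerDelta p E ⊓ centralizer (E' : Set G) ≤ signalizerDelta p E') :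
    kbTheta p k A a ≤ ⨆ F ∈ kbHyp p A a, signalizerDelta p F := by
  classical
  have hp : p.Prime := Fact.out
  have hcomm := Cfsg.Agent.S1861.comm_of_elemAb hA
  unfold kbTheta
  refine iSup_le fun D₀ => ?_
  obtain ⟨D₀, hD₀A, hD₀c⟩ := D₀
  simp only
  set X : Subgroup G := signalizerDelta p D₀ ⊓ centralizer {a} with hX
  -- `A` normalizes `X`
  have hAX : A ≤ normalizer (X : Set G) := by
    intro x hx
    have h1 : x ∈ normalizer (signalizerDelta p D₀ : Set G) :=
      Cfsg.Agent.S1861.delta_normalizer D₀ x (fun b hb => hcomm x hx b (hD₀A hb))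
    have h2 : x ∈ normalizer (centralizer ({a} : Set G) : Set G) := by
      apply le_normalizer
      rw [mem_centralizer_iff]
      intro y hy
      rw [Set.mem_singleton_iff] at hy
      subst hy
      exact hcomm y haA x hx
    rw [mem_normalizer_iff] at h1 h2 ⊢
    intro y
    rw [hX, mem_inf, mem_inf, h1 y, h2 y]
  -- `X` is a `p'`-group
  have hD₀ne : ∃ d ∈ D₀, d ≠ 1 := by
    by_contra hcon
    push Not at hcon
    have hbot : D₀ = ⊥ := (Subgroup.eq_bot_iff_forall D₀).mpr hcon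
    rw [hbot, Subgroup.card_bot] at hD₀c
    have h2 : 2 ≤ p := hp.two_le
    have h3 : p ^ 1 ≤ p ^ k := Nat.pow_le_pow_right hp.pos hk
    rw [pow_one] at h3
    omega
  obtain ⟨d, hd, hd1⟩ := hD₀ne
  have hXp : ¬ p ∣ Nat.card X := by
    intro hdvd
    have h1 : Nat.card X ∣ Nat.card (Cfsg.centralizerPPrimeCore p d) :=
      Subgroup.card_dvd_of_le (inf_le_left.trans (Cfsg.Agent.S1861.delta_le_cppc D₀ hd hd1))
    exact Cfsg.Agent.S1861.cppc_card d (hdvd.trans h1)
  -- `D = zpowers a`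
  have hDA : zpowers a ≤ A := zpowers_le.mpr haA
  have hDne : zpowers a ≠ A := by
    intro h
    have h1 : Nat.card (zpowers a) ≤ p := by
      rw [Nat.card_zpowers]
      exact Nat.le_of_dvd hp.pos (orderOf_dvd_of_pow_eq_one (hA.2 a haA))
    rw [h] at h1
    have h2 : p ^ 1 < p ^ (k + 2) := Nat.pow_lt_pow_right hp.one_lt (by omega)
    rw [pow_one] at h2
    omega
  have hDX : X ≤ centralizer ((zpowers a : Subgroup G) : Set G) := by
    rw [Subgroup.le_centralizer_iff]
    refine zpowers_le.mpr ?_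
    rw [mem_centralizer_iff]
    intro x hx
    have hxa : x ∈ centralizer ({a} : Set G) := hx.2
    exact (mem_centralizer_iff.mp hxa a rfl).symm
  refine (hGEN hAX hXp hDA hDne hDX).trans (iSup₂_le fun F hF => ?_)
  obtain ⟨hDF, hFA, hFc⟩ := hF
  have haF : a ∈ F := hDF (mem_zpowers a)
  have h1 : X ⊓ centralizer (F : Set G) ≤ signalizerDelta p F :=
    (inf_le_inf_right _ inf_le_left).trans (hD2 hD₀A (le_of_eq hD₀c.symm) hFA)
  exact h1.trans (le_iSup₂_of_le F ⟨hFA, haF, hFc⟩ le_rfl)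

/-- own copy of KB-D2 (`k`-balance), so that this leaf does not wait. -/
theorem kbhg_d2 [Finite G] [Fact p.Prime] (hbal : Cfsg.IsKBalanced p k G)
    (hA : Cfsg.IsElementaryAbelian p A) {E E' : Subgroup G} (hE : E ≤ A) (hEk : p ^ k ≤ Nat.card E)
    (hE' : E' ≤ A) :
    signalizerDelta p E ⊓ centralizer (E' : Set G) ≤ signalizerDelta p E' := by
  classical
  have hp : p.Prime := Fact.out
  have hcomm := Cfsg.Agent.S1861.comm_of_elemAb hA
  have hEpg : IsPGroup p E := by
    intro x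
    refine ⟨1, ?_⟩
    rw [pow_one]
    exact Subtype.ext (by simpa using hA.2 (x : G) (hE x.2))
  obtain ⟨n, hn⟩ := IsPGroup.iff_card.mp hEpg
  have hkn : k ≤ n := by
    rw [hn] at hEk
    exact (Nat.pow_le_pow_iff_right hp.one_lt).mp hEk
  have hdvd : p ^ k ∣ Nat.card E := by
    rw [hn]; exact pow_dvd_pow p hkn
  obtain ⟨K, hK⟩ := Sylow.exists_subgroup_card_pow_prime p hdvd
  have hE₀E : K.map E.subtype ≤ E := map_subtype_le K
  have hE₀c : Nat.card (K.map E.subtype) = p ^ k := by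
    rw [Subgroup.card_map_of_injective (Subgroup.subtype_injective _)]; exact hK
  have hanti : signalizerDelta p E ≤ signalizerDelta p (K.map E.subtype) := by
    unfold Cfsg.signalizerDelta
    refine le_iInf fun x => ?_
    exact iInf_le (fun a : {a : G // a ∈ E ∧ a ≠ 1} => Cfsg.centralizerPPrimeCore p (a : G))
      ⟨x.1, hE₀E x.2.1, x.2.2⟩
  have hgoal : ∀ e' : {a : G // a ∈ E' ∧ a ≠ 1},
      signalizerDelta p E ⊓ centralizer (E' : Set G) ≤ Cfsg.centralizerPPrimeCore p (e' : G) := by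
    rintro ⟨e', he', he'1⟩
    have hord : orderOf e' = p := orderOf_eq_prime (hA.2 e' (hE' he')) he'1
    have h1 := hbal (K.map E.subtype) (Cfsg.Agent.S1861.elemAb_of_le hA (hE₀E.trans hE)) hE₀c e' hord
      (fun x hx => hcomm x (hE (hE₀E hx)) e' (hE' he'))
    have hcent : centralizer (E' : Set G) ≤ centralizer ({e'} : Set G) :=
      centralizer_le (Set.singleton_subset_iff.mpr he')
    exact (inf_le_inf hanti hcent).trans h1
  unfold Cfsg.signalizerDelta at hgoal ⊢
  exact le_iInf hgoal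

/-- LEAF KB-HG (`hgen`). [generator `X = Δ(D₀) ⊓ C(a)`; KB-GEN with `D = zpowers a`; `X ⊓ C(F) ≤ Δ(F)` by KB-D2] -/
theorem kb_theta_le [Finite G] [Fact p.Prime] (hk : 1 ≤ k) (hbal : Cfsg.IsKBalanced p k G)
    (hA : Cfsg.IsElementaryAbelian p A) (hAk : p ^ (k + 2) ≤ Nat.card ↥A) {a : G} (haA : a ∈ A)
    (ha1 : a ≠ 1) : kbTheta p k A a ≤ ⨆ F ∈ kbHyp p A a, signalizerDelta p F :=
  kbhg_core hk hA hAk haA
    (fun hAX hXp hDA hDne hDX => kb_gen_over hA hAX hXp hDA hDne hDX)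
    (fun hE hEk hE' => kbhg_d2 hbal hA hE hEk hE')

end Cfsg.Agent.Lib.Helper22.Kb
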