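import Mathlib

/-!
G2z mini-hive (S4279, helper37): leaf G2Z-TWO `two_ne_zero_of_odd` (helper91).
A finite field of odd cardinality has `2 ≠ 0`.
-/

set_option autoImplicit false

namespace Cfsg.Agent.Lib.Helper37.G2z

variable (F : Type*) [Field F]

/-- G2Z-TWO -/
theorem two_ne_zero_of_odd [Fintype F] (hodd : Odd (Fintype.card F)) : (2 : F) ≠ 0 := by
  intro h2
  have hchar : ringChar F = 2 := by
    have hdvd : ringChar F ∣ 2 := by
      have : ((2 : ℕ) : F) = 0 := by exact_mod_cast h2
      exact (ringChar.spec F 2).1 this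
    have hprime : (ringChar F).Prime := CharP.char_is_prime F (ringChar F)
    exact (Nat.prime_dvd_prime_iff_eq hprime Nat.prime_two).1 hdvd
  have heven : Even (Fintype.card F) := by
    have h := (FiniteField.even_card_iff_char_two (F := F)).1 hchar
    exact Nat.even_iff.2 h
  exact (Nat.not_even_iff_odd.2 hodd) heven

end Cfsg.Agent.Lib.Helper37.G2z
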