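import Cfsg.Agent.Lib.Helper41.PsDefs

/-! # Ps hive (S4321, helper41): leaf PS2 `ps_common` (helper91) -/

set_option autoImplicit false

namespace Cfsg.Agent.Lib.Helper41.Ps

open Subgroup
open Cfsg.Agent.Lib.Helper22.Cg

universe u

/-- two distinct primes dividing `n` have their product dividing `n` -/
theorem ps2_mul_dvd {a b n : ℕ} (ha : a.Prime) (hb : b.Prime) (hab : a ≠ b) (h1 : a ∣ n)
    (h2 : b ∣ n) : a * b ∣ n :=
  ((Nat.coprime_primes ha hb).2 hab).mul_dvd_of_dvd_of_dvd h1 h2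

/-- PS2. a common prime of the two class sizes gives the goal. -/
theorem ps_common {G : Type u} [Group G] (p r s t : ℕ) (a e : G)
    (ha : p ∣ orderOf a) (he : p ∣ orderOf e) (hr : r.Prime) (hs : s.Prime) (ht : t.Prime)
    (hra : r ∣ cs a) (hta : t ∣ cs a) (hte : t ∣ cs e) (hse : s ∣ cs e) (hrs : r ≠ s) :
    Goal G p r s := by
  by_cases htr : t = r
  · subst htr
    exact Or.inl ⟨e, he, ps2_mul_dvd ht hs hrs hte hse⟩
  by_cases hts : t = s
  · subst hts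
    exact Or.inl ⟨a, ha, ps2_mul_dvd hr ht hrs hra hta⟩
  exact Or.inr (Or.inl ⟨t, ⟨ht, a, ha, hta⟩, htr, hts,
    ⟨a, ha, ps2_mul_dvd hr ht (Ne.symm htr) hra hta⟩, ⟨e, he, ps2_mul_dvd ht hs hts hte hse⟩⟩)

end Cfsg.Agent.Lib.Helper41.Ps
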