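import Mathlib
import Cfsg.Prelude.Def_Balance
import Cfsg.Agent.Lib.Helper91.Components

/-! # MC hive (S1305, helper18): leaf MC-ODICH `dich` (helper91)

A component `K` of `C_X(a)` and a subnormal subgroup `S` of `X`: `K ≤ S` or `K` centralizes `C_S(a)`. -/

set_option autoImplicit false

open Cfsg

namespace Cfsg.Agent.Lib.Helper18.Mc

open Subgroup
open scoped commutatorElement

/-- MC-ODICH.  A component `K` of `C_X(a)` and a subnormal subgroup `S` of `X`: `K ≤ S` or `K` centralizes `C_S(a)`.
(`(S ⊓ C).subgroupOf C` is subnormal in `C`; Helper91 `component_le_or_commutator_eq_bot`.) -/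
theorem dich {X : Type*} [Group X] [Finite X] (a : X) (K S : Subgroup X) (hKa : K ≤ centralizer ({a} : Set X))
    (hK : IsComponent (K.subgroupOf (centralizer ({a} : Set X)))) (hS : S.IsSubnormal) :
    K ≤ S ∨ ∀ k ∈ K, ∀ s ∈ S ⊓ centralizer ({a} : Set X), k * s = s * k := by
  have hS' : (S.subgroupOf (centralizer ({a} : Set X))).IsSubnormal := hS.subgroupOf
  rcases Cfsg.Agent.Lib.Helper91.component_le_or_commutator_eq_bot hK hS' with h | h
  · left
    intro k hk
    have : (⟨k, hKa hk⟩ : ↥(centralizer ({a} : Set X))) ∈ S.subgroupOf (centralizer ({a} : Set X)) :=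
      h (mem_subgroupOf.2 hk)
    exact mem_subgroupOf.1 this
  · right
    intro k hk s hs
    have h1 : ⁅(⟨k, hKa hk⟩ : ↥(centralizer ({a} : Set X))), (⟨s, hs.2⟩ : ↥(centralizer ({a} : Set X)))⁆ ∈
        ⁅K.subgroupOf (centralizer ({a} : Set X)), S.subgroupOf (centralizer ({a} : Set X))⁆ :=
      Subgroup.commutator_mem_commutator (mem_subgroupOf.2 hk) (mem_subgroupOf.2 hs.1)
    rw [h, Subgroup.mem_bot] at h1
    have h2 := congrArg Subtype.val h1
    rw [commutatorElement_def] at h2
    simp only [Subgroup.coe_mul, Subgroup.coe_inv, Subgroup.coe_one] at h2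
    calc k * s = (k * s * k⁻¹ * s⁻¹) * (s * k) := by group
      _ = s * k := by rw [h2, one_mul]

end Cfsg.Agent.Lib.Helper18.Mc
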