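import Mathlib
import Cfsg.Agent.Lib.Helper91.Baer

set_option autoImplicit false

namespace Cfsg.Agent.Lib.Helper91

universe u

section s0200
open scoped Pointwise

variable {G : Type u} [Group G]

theorem isPGroup_two_closure_pair {t s : G} (ht : t ^ 2 = 1) (hs : s ^ 2 = 1) {k : ℕ}
    (hu : orderOf (t * s) = 2 ^ k) :
    IsPGroup 2 ↥(Subgroup.zpowers t ⊔ Subgroup.zpowers s) := by
  have htinv : t⁻¹ = t := by
    rw [inv_eq_iff_mul_eq_one, ← pow_two]; exact ht
  have hsinv : s⁻¹ = s := by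
    rw [inv_eq_iff_mul_eq_one, ← pow_two]; exact hs
  have h1 : IsPGroup 2 (Subgroup.zpowers t) := by
    rw [IsPGroup.iff_orderOf]
    rintro ⟨x, hx⟩
    obtain ⟨j, rfl⟩ := Subgroup.mem_zpowers_iff.mp hx
    have : (⟨t ^ j, hx⟩ : Subgroup.zpowers t) ^ 2 = 1 := by
      apply Subtype.ext
      show (t ^ j) ^ 2 = 1
      rw [← zpow_natCast, ← zpow_mul, mul_comm, zpow_mul, zpow_natCast, ht, one_zpow]
    have hd := orderOf_dvd_of_pow_eq_one this
    rcases (Nat.dvd_prime Nat.prime_two).mp hd with h | h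
    · exact ⟨0, by rw [h]; rfl⟩
    · exact ⟨1, by rw [h]; rfl⟩
  have h2 : IsPGroup 2 (Subgroup.zpowers (t * s)) := by
    apply IsPGroup.of_card (n := k)
    rw [Nat.card_zpowers, hu]
  have h3 : Subgroup.zpowers t ≤ Subgroup.normalizer ((Subgroup.zpowers (t * s) : Subgroup G) : Set G) := by
    rw [Subgroup.zpowers_le, mem_normalizer_iff_conj_smul_eq]
    have : MulAut.conj t • Subgroup.zpowers (t * s) = (Subgroup.zpowers (t * s)).map (MulAut.conj t).toMonoidHom := rfl
    rw [this, MonoidHom.map_zpowers]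
    have h4 : (MulAut.conj t).toMonoidHom (t * s) = (t * s)⁻¹ := by
      show t * (t * s) * t⁻¹ = (t * s)⁻¹
      rw [mul_inv_rev, hsinv, htinv]
      calc t * (t * s) * t = (t * t) * s * t := by group
        _ = s * t := by rw [← pow_two, ht, one_mul]
    rw [h4, Subgroup.zpowers_inv]
  have h5 := IsPGroup.to_sup_of_normal_right' h1 h2 h3
  refine h5.to_le (sup_le le_sup_left ?_)
  rw [Subgroup.zpowers_le]
  have hmem : t⁻¹ * (t * s) ∈ Subgroup.zpowers t ⊔ Subgroup.zpowers (t * s) :=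
    Subgroup.mul_mem _ (Subgroup.inv_mem _ (le_sup_left (a := Subgroup.zpowers t) (Subgroup.mem_zpowers t)))
      (le_sup_right (a := Subgroup.zpowers t) (Subgroup.mem_zpowers (t * s)))
  have : t⁻¹ * (t * s) = s := by group
  rwa [this] at hmem

/-- An involution outside all normal 2-subgroups inverts a nontrivial element of odd order. -/
theorem exists_inverted_odd_of_not_mem_normal_two_group [Finite G] (t : G) (ht : orderOf t = 2)
    (hO : ∀ N : Subgroup G, N.Normal → IsPGroup 2 N → t ∉ N) :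
    ∃ h : G, h ≠ 1 ∧ Odd (orderOf h) ∧ t * h * t⁻¹ = h⁻¹ := by
  have : Fact (Nat.Prime 2) := ⟨Nat.prime_two⟩
  have ht2 : t ^ 2 = 1 := by rw [← ht]; exact pow_orderOf_eq_one t
  have htinv : t⁻¹ = t := by
    rw [inv_eq_iff_mul_eq_one, ← pow_two]; exact ht2
  -- some conjugate s of t with ⟨t, s⟩ not a 2-group
  have hex : ∃ g : G, ¬ IsPGroup 2 ↥(Subgroup.zpowers t ⊔ (Subgroup.zpowers t).map (MulAut.conj g).toMonoidHom) := by
    by_contra hcon
    simp only [not_exists, not_not] at hcon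
    obtain ⟨N, hNn, hN2, hXN⟩ := baer_suzuki (p := 2) (Subgroup.zpowers t) hcon
    exact hO N hNn hN2 (hXN (Subgroup.mem_zpowers t))
  obtain ⟨g, hg⟩ := hex
  rw [MonoidHom.map_zpowers] at hg
  set s : G := (MulAut.conj g).toMonoidHom t with hs
  have hs2 : s ^ 2 = 1 := by
    rw [hs, ← map_pow, ht2, map_one]
  have hsinv : s⁻¹ = s := by
    rw [inv_eq_iff_mul_eq_one, ← pow_two]; exact hs2
  set u : G := t * s with hu
  have hn : ∀ k : ℕ, orderOf u ≠ 2 ^ k := fun k hk => hg (isPGroup_two_closure_pair ht2 hs2 hk)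
  have hpos : 0 < orderOf u := orderOf_pos u
  obtain ⟨k, m, hm, hkm⟩ := Nat.exists_eq_two_pow_mul_odd hpos.ne'
  have hm1 : m ≠ 1 := by
    intro h1
    rw [h1, mul_one] at hkm
    exact hn k hkm
  have hinv : t * u * t⁻¹ = u⁻¹ := by
    rw [hu, mul_inv_rev, hsinv, htinv]
    calc t * (t * s) * t = (t * t) * s * t := by group
      _ = s * t := by rw [← pow_two, ht2, one_mul]
  refine ⟨u ^ (2 ^ k), ?_, ?_, ?_⟩
  · intro h1
    have hd : orderOf u ∣ 2 ^ k := orderOf_dvd_of_pow_eq_one h1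
    rw [hkm] at hd
    have : m ∣ 2 ^ k := (Dvd.intro_left _ rfl).trans hd
    have hcop : Nat.Coprime m (2 ^ k) := (Nat.Coprime.pow_right k (Nat.Coprime.symm (Nat.coprime_two_left.mpr hm)))
    exact hm1 (Nat.Coprime.eq_one_of_dvd hcop this)
  · have : orderOf (u ^ (2 ^ k)) = m := by
      rw [orderOf_pow' u (pow_ne_zero k two_ne_zero), hkm]
      rw [Nat.gcd_eq_right (Dvd.intro _ rfl)]
      exact Nat.mul_div_cancel_left m (pow_pos two_pos k)
    rw [this]; exact hm
  · have : t * u ^ (2 ^ k) * t⁻¹ = (t * u * t⁻¹) ^ (2 ^ k) := by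
      rw [conj_pow]
    rw [this, hinv, inv_pow]

end s0200

end Cfsg.Agent.Lib.Helper91
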