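import Mathlib
import Cfsg.Agent.Lib.Helper6.Nc.Defs
import Cfsg.Agent.Lib.Helper6.Nc.Leaves

/-! # Nc hive (S3894, owner helper6): case assembly NC-CASE2A `nc_case2A` (helper91) -/

set_option autoImplicit false

namespace Cfsg.Agent.Lib.Helper6.Nc

open Matrix

variable {F : Type*} [Field F]

/-- NC-CASE2A (`n = 2`, some unit has non-2-power order). -/
theorem nc_case2A (Gh : Subgroup (GL (Fin 2) F))
    (hSL : (Matrix.SpecialLinearGroup.toGL :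
      Matrix.SpecialLinearGroup (Fin 2) F →* GL (Fin 2) F).range ≤ Gh)
    (AA : Finset (Subgroup (GL (Fin 2) F))) (h : MinNilCover Gh AA)
    (a : Fˣ) (ha : ∀ k : ℕ, a ^ (2 ^ k) ≠ 1) : False := by
  have huG : uUg F ∈ Gh := hSL ⟨uU F, rfl⟩
  have hlG : uLg F ∈ Gh := hSL ⟨uL F, rfl⟩
  have hsG : sDg a ∈ Gh := hSL ⟨sD a, rfl⟩
  obtain ⟨A₁, hA₁, hu₁⟩ := h.cover.covers _ huG
  obtain ⟨A', hA', hs'⟩ := h.cover.covers _ hsG
  have ha2 : a ^ 2 ≠ 1 := by simpa using ha 1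
  -- `A₁ ≤ lineStab e₀`
  have h₁M : A₁ ≤ lineStab ![(1 : F), 0] :=
    nc_nfp A₁ (lineStab ![(1 : F), 0]) (h.nilp A₁ hA₁) (uUg F) hu₁ uUg_mem
      (fun g _ hconj => uUg_unique g hconj)
  -- `A' ≤ diagSub`
  have h'D : A' ≤ diagSub F :=
    nc_nfp2 A' (diagSub F) (h.nilp A' hA') (sDg a) hs' (sDg_mem_diag a)
      (fun g _ hconj hgD => sDg_conj a ha2 g hconj hgD)
      (fun k hk => ha k (sDg_pow a (2 ^ k) hk))
  have h₂M : A' ≤ lineStab ![(1 : F), 0] := h'D.trans inf_le_left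
  have hne : A₁ ≠ A' := by
    intro heq
    have h1 : uUg F ∈ diagSub F := h'D (heq ▸ hu₁)
    exact uUg_not_mem_e1 (inf_le_right (a := lineStab ![(1 : F), 0]) h1)
  have hM : ¬ Gh ≤ lineStab ![(1 : F), 0] := fun hle => uLg_not_mem_e0 (hle hlG)
  exact nc_merge h A₁ A' (lineStab ![(1 : F), 0]) hA₁ hA' hne (center_le_lineStab _) hM h₁M h₂M

end Cfsg.Agent.Lib.Helper6.Nc
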