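import Mathlib
import Cfsg.Agent.Lib.Helper91.BaerInv
import Cfsg.Agent.Lib.Helper22.Fitting

set_option autoImplicit false

namespace Cfsg.Agent.Lib.Helper91

universe u

section fourgroup

variable {G : Type u} [Group G]

theorem eq_one_of_sq_eq_one_of_odd {x : G} (hodd : Odd (orderOf x)) (h2 : x ^ 2 = 1) : x = 1 := by
  have hd := orderOf_dvd_of_pow_eq_one h2
  rcases (Nat.dvd_prime Nat.prime_two).mp hd with h | h
  · exact orderOf_eq_one_iff.mp h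
  · rw [h] at hodd
    exact absurd hodd (by decide)

theorem exists_pow_sq_eq_of_odd {x : G} (hodd : Odd (orderOf x)) : ∃ k : ℕ, (x ^ 2) ^ k = x := by
  obtain ⟨m, hm⟩ := hodd
  refine ⟨m + 1, ?_⟩
  rw [← pow_mul]
  have : 2 * (m + 1) = orderOf x + 1 := by omega
  rw [this, pow_succ, pow_orderOf_eq_one, one_mul]

theorem odd_orderOf_sq {x : G} (hodd : Odd (orderOf x)) : Odd (orderOf (x ^ 2)) := by
  have hd : orderOf (x ^ 2) ∣ orderOf x := orderOf_pow_dvd 2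
  exact Odd.of_dvd_nat hodd hd

theorem sq_ne_one_of_odd {x : G} (hodd : Odd (orderOf x)) (hx : x ≠ 1) : x ^ 2 ≠ 1 :=
  fun h => hx (eq_one_of_sq_eq_one_of_odd hodd h)

/-- If `γ` inverts `w` of odd order then `γ * w` is conjugate to `γ`. -/
theorem exists_conj_eq_mul_of_inverts {γ w : G} (hodd : Odd (orderOf w))
    (hinv : γ * w * γ⁻¹ = w⁻¹) : ∃ g : G, g * γ * g⁻¹ = γ * w := by
  obtain ⟨k, hk⟩ := exists_pow_sq_eq_of_odd hodd
  refine ⟨(w ^ k)⁻¹, ?_⟩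
  have h1 : γ * w ^ k * γ⁻¹ = (w ^ k)⁻¹ := by
    rw [← conj_pow, hinv, inv_pow]
  have h2 : γ * w ^ k = (w ^ k)⁻¹ * γ := by
    rw [← h1]; group
  have h3 : γ * w = w⁻¹ * γ := by
    rw [← hinv]; group
  rw [inv_inv, mul_assoc, h2, ← mul_assoc, ← mul_inv_rev, ← pow_add, ← two_mul, pow_mul, hk, h3]

/-- If `τ` inverts `x ^ 2` and `x` has odd order then `τ` inverts `x`. -/
theorem inverts_of_inverts_sq {τ x : G} (hodd : Odd (orderOf x))
    (hinv : τ * x ^ 2 * τ⁻¹ = (x ^ 2)⁻¹) : τ * x * τ⁻¹ = x⁻¹ := by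
  obtain ⟨k, hk⟩ := exists_pow_sq_eq_of_odd hodd
  have h1 : τ * (x ^ 2) ^ k * τ⁻¹ = ((x ^ 2) ^ k)⁻¹ := by
    rw [← conj_pow, hinv, inv_pow]
  rwa [hk] at h1

/-- If `u` of odd order inverts `W` then `W ^ 2 = 1`. -/
theorem sq_eq_one_of_odd_inverts {u W : G} (hodd : Odd (orderOf u))
    (hinv : u * W * u⁻¹ = W⁻¹) : W ^ 2 = 1 := by
  obtain ⟨k, hk⟩ := exists_pow_sq_eq_of_odd hodd
  have h1 : Commute (u ^ 2) W := by
    show u ^ 2 * W = W * u ^ 2
    have h2 : u * W = W⁻¹ * u := by rw [← hinv]; group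
    have h3 : u * W⁻¹ = W * u := by
      have h6 : u * W⁻¹ * u⁻¹ = (u * W * u⁻¹)⁻¹ := by group
      rw [hinv, inv_inv] at h6
      calc u * W⁻¹ = (u * W⁻¹ * u⁻¹) * u := by group
        _ = W * u := by rw [h6]
    calc u ^ 2 * W = u * (u * W) := by rw [pow_two, mul_assoc]
      _ = u * (W⁻¹ * u) := by rw [h2]
      _ = (u * W⁻¹) * u := by rw [mul_assoc]
      _ = W * u * u := by rw [h3]
      _ = W * u ^ 2 := by rw [pow_two, mul_assoc]
  have h4 : Commute u W := by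
    have := h1.pow_left k
    rwa [hk] at this
  have h5 : u * W * u⁻¹ = W := by
    rw [h4.eq]; group
  rw [h5] at hinv
  rw [pow_two]
  nth_rewrite 1 [hinv]
  exact inv_mul_cancel W

section klein

variable (A : Subgroup G)

theorem kleinFour_mul_self (hA : IsKleinFour ↥A) {x : G} (hx : x ∈ A) : x * x = 1 := by
  have := IsKleinFour.mul_self (⟨x, hx⟩ : A)
  exact congrArg Subtype.val this

theorem kleinFour_comm (hA : IsKleinFour ↥A) {x y : G} (hx : x ∈ A) (hy : y ∈ A) :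
    x * y = y * x := by
  have := (IsKleinFour.isMulCommutative (G := A)).is_comm.comm ⟨x, hx⟩ ⟨y, hy⟩
  exact congrArg Subtype.val this

theorem kleinFour_eq_mul (hA : IsKleinFour ↥A) {x y z : G} (hx : x ∈ A) (hy : y ∈ A) (hz : z ∈ A)
    (hx1 : x ≠ 1) (hy1 : y ≠ 1) (hxy : x ≠ y) (hz1 : z ≠ 1) (hzx : z ≠ x) (hzy : z ≠ y) :
    z = x * y := by
  have := IsKleinFour.eq_mul_of_ne_all (G := A) (x := ⟨x, hx⟩) (y := ⟨y, hy⟩) (z := ⟨z, hz⟩)
    (fun h => hx1 (congrArg Subtype.val h)) (fun h => hy1 (congrArg Subtype.val h))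
    (fun h => hxy (congrArg Subtype.val h)) (fun h => hz1 (congrArg Subtype.val h))
    (fun h => hzx (congrArg Subtype.val h)) (fun h => hzy (congrArg Subtype.val h))
  exact congrArg Subtype.val this

theorem kleinFour_exists_ne_one (hA : IsKleinFour ↥A) : ∃ a ∈ A, a ≠ 1 := by
  by_contra hcon
  push Not at hcon
  have hbot : A = ⊥ := (Subgroup.eq_bot_iff_forall A).mpr hcon
  have hc : Nat.card A = 4 := IsKleinFour.card_four
  rw [hbot, Subgroup.card_bot] at hc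
  omega

theorem inv_eq_self_of_mul_self {x : G} (hx : x * x = 1) : x⁻¹ = x :=
  inv_eq_of_mul_eq_one_left hx

theorem fourGroup_step1 [Finite G] (hA : IsKleinFour ↥A)
    (h : ∀ a ∈ A, a ≠ 1 → ∀ g : G, A ⊓ Subgroup.centralizer ({g * a * g⁻¹} : Set G) ≠ ⊥)
    (hbot : A ⊓ Cfsg.pCore 2 G = ⊥) (x : G) (hx : x ∈ A) (hx1 : x ≠ 1) :
    ∃ (w κ : G), w ≠ 1 ∧ Odd (orderOf w) ∧ κ ∈ A ∧ κ ≠ 1 ∧ κ ≠ x ∧ κ * w = w * κ ∧
      ∀ z ∈ A, z ≠ 1 → z ≠ κ → z * w * z⁻¹ = w⁻¹ := by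
  have hx2 : x * x = 1 := kleinFour_mul_self A hA hx
  have hord : orderOf x = 2 := orderOf_eq_prime (by rw [pow_two]; exact hx2) hx1
  have hO : ∀ N : Subgroup G, N.Normal → IsPGroup 2 N → x ∉ N := by
    intro N hN hN2 hxN
    have : x ∈ A ⊓ Cfsg.pCore 2 G := ⟨hx, Helper22.le_pCore' hN hN2 hxN⟩
    rw [hbot] at this
    exact hx1 (Subgroup.mem_bot.mp this)
  obtain ⟨w, hw1, hwodd, hinv⟩ := exists_inverted_odd_of_not_mem_normal_two_group x hord hO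
  obtain ⟨g, hg⟩ := exists_conj_eq_mul_of_inverts hwodd hinv
  have hne := h x hx hx1 g
  rw [hg] at hne
  obtain ⟨⟨κ, hκmem⟩, hκ1⟩ := (Subgroup.ne_bot_iff_exists_ne_one).mp hne
  have hκ1' : κ ≠ 1 := fun h => hκ1 (Subtype.ext h)
  have hκA : κ ∈ A := hκmem.1
  have hκc : κ * (x * w) = x * w * κ := Subgroup.mem_centralizer_singleton_iff.mp hκmem.2
  have hκx : κ * x = x * κ := kleinFour_comm A hA hκA hx
  have hκw : κ * w = w * κ := by
    apply mul_left_cancel (a := x)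
    rw [← mul_assoc, ← hκx, mul_assoc, hκc, mul_assoc]
  have hne_x : κ ≠ x := by
    intro hκeq
    rw [hκeq] at hκw
    have h1 : x * w * x⁻¹ = w := by rw [hκw]; group
    rw [h1] at hinv
    have h2 : w ^ 2 = 1 := by
      rw [pow_two]
      nth_rewrite 1 [hinv]
      exact inv_mul_cancel w
    exact hw1 (eq_one_of_sq_eq_one_of_odd hwodd h2)
  refine ⟨w, κ, hw1, hwodd, hκA, hκ1', hne_x, hκw, ?_⟩
  intro z hz hz1 hzκ
  by_cases hzx : z = x
  · rw [hzx]; exact hinv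
  · have hzeq : z = x * κ := kleinFour_eq_mul A hA hx hκA hz hx1 hκ1' (Ne.symm hne_x) hz1 hzx hzκ
    rw [hzeq]
    calc x * κ * w * (x * κ)⁻¹ = x * (κ * w) * κ⁻¹ * x⁻¹ := by group
      _ = x * (w * κ) * κ⁻¹ * x⁻¹ := by rw [hκw]
      _ = x * w * x⁻¹ := by group
      _ = w⁻¹ := hinv

theorem fourGroup_meets_two_core [Finite G] (hA : IsKleinFour ↥A)
    (h : ∀ a ∈ A, a ≠ 1 → ∀ g : G, A ⊓ Subgroup.centralizer ({g * a * g⁻¹} : Set G) ≠ ⊥) :
    A ⊓ Cfsg.pCore 2 G ≠ ⊥ := by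
  intro hbot
  obtain ⟨a, ha, ha1⟩ := kleinFour_exists_ne_one A hA
  obtain ⟨u, β, hu1, huodd, hβ, hβ1, -, hβu, hAu⟩ := fourGroup_step1 A hA h hbot a ha ha1
  obtain ⟨v, α, hv1, hvodd, hα, hα1, hαβ, hαv, hAv⟩ := fourGroup_step1 A hA h hbot β hβ hβ1
  obtain ⟨γ, hγdef⟩ : ∃ γ : G, γ = α * β := ⟨_, rfl⟩
  have hγ : γ ∈ A := by rw [hγdef]; exact A.mul_mem hα hβ
  have hαα : α * α = 1 := kleinFour_mul_self A hA hα
  have hββ : β * β = 1 := kleinFour_mul_self A hA hβ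
  have hγγ : γ * γ = 1 := kleinFour_mul_self A hA hγ
  have hγ1 : γ ≠ 1 := by
    intro h1
    rw [hγdef] at h1
    have : α = β⁻¹ := eq_inv_of_mul_eq_one_left h1
    rw [inv_eq_self_of_mul_self hββ] at this
    exact hαβ this
  have hγα : γ ≠ α := by
    intro h1
    rw [hγdef] at h1
    exact hβ1 (mul_eq_left.mp h1)
  have hγβ : γ ≠ β := by
    intro h1
    rw [hγdef] at h1
    exact hα1 (mul_eq_right.mp h1)
  have hαu : α * u * α⁻¹ = u⁻¹ := hAu α hα hα1 hαβ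
  have hγu : γ * u * γ⁻¹ = u⁻¹ := hAu γ hγ hγ1 hγβ
  have hβv : β * v * β⁻¹ = v⁻¹ := hAv β hβ hβ1 (Ne.symm hαβ)
  have hγv : γ * v * γ⁻¹ = v⁻¹ := hAv γ hγ hγ1 hγα
  have hβu' : β * u * β⁻¹ = u := by rw [hβu]; group
  have hαγ : α * γ * α⁻¹ = γ := by rw [kleinFour_comm A hA hα hγ]; group
  have hβγ : β * γ * β⁻¹ = γ := by rw [kleinFour_comm A hA hβ hγ]; group
  have key : ∀ V : G, V ≠ 1 → Odd (orderOf V) → α * V = V * α → β * V * β⁻¹ = V⁻¹ →
      γ * V * γ⁻¹ = V⁻¹ → (V * u * V) ^ 2 = 1 := by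
    intro V hV1 hVodd hαV hβV hγV
    obtain ⟨g, hg⟩ := exists_conj_eq_mul_of_inverts huodd hγu
    have hγV' : γ⁻¹ * V⁻¹ * γ = V := by
      rw [← hγV]; group
    have hconj : (V⁻¹ * g) * γ * (V⁻¹ * g)⁻¹ = γ * V * u * V := by
      calc (V⁻¹ * g) * γ * (V⁻¹ * g)⁻¹ = V⁻¹ * (g * γ * g⁻¹) * V := by group
        _ = V⁻¹ * (γ * u) * V := by rw [hg]
        _ = γ * (γ⁻¹ * V⁻¹ * γ) * u * V := by group
        _ = γ * V * u * V := by rw [hγV']
    have hne := h γ hγ hγ1 (V⁻¹ * g)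
    rw [hconj] at hne
    obtain ⟨⟨y, hymem⟩, hy1⟩ := (Subgroup.ne_bot_iff_exists_ne_one).mp hne
    have hy1' : y ≠ 1 := fun h => hy1 (Subtype.ext h)
    have hyA : y ∈ A := hymem.1
    have hyc : y * (γ * V * u * V) = γ * V * u * V * y :=
      Subgroup.mem_centralizer_singleton_iff.mp hymem.2
    have hyc' : (y * γ * y⁻¹) * (y * V * y⁻¹) * (y * u * y⁻¹) * (y * V * y⁻¹) = γ * V * u * V := by
      calc (y * γ * y⁻¹) * (y * V * y⁻¹) * (y * u * y⁻¹) * (y * V * y⁻¹)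
          = y * (γ * V * u * V) * y⁻¹ := by group
        _ = γ * V * u * V * y * y⁻¹ := by rw [hyc]
        _ = γ * V * u * V := by group
    have hαV' : α * V * α⁻¹ = V := by rw [hαV]; group
    by_cases hyα : y = α
    · exfalso
      rw [hyα, hαγ, hαV', hαu] at hyc'
      have h1 := mul_left_cancel (mul_right_cancel hyc')
      have h2 : u ^ 2 = 1 := by
        rw [pow_two]
        nth_rewrite 1 [← h1]
        exact inv_mul_cancel u
      exact hu1 (eq_one_of_sq_eq_one_of_odd huodd h2)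
    by_cases hyβ : y = β
    · exfalso
      rw [hyβ, hβγ, hβV, hβu'] at hyc'
      simp only [mul_assoc] at hyc'
      have e := mul_left_cancel hyc'
      simp only [← mul_assoc] at e
      have h1 : u * V ^ 2 * u⁻¹ = (V ^ 2)⁻¹ := by
        calc u * V ^ 2 * u⁻¹ = V⁻¹ * (V * u * V) * V * u⁻¹ := by rw [pow_two]; group
          _ = V⁻¹ * (V⁻¹ * u * V⁻¹) * V * u⁻¹ := by rw [e]
          _ = (V ^ 2)⁻¹ := by rw [pow_two]; group
      have h2 := sq_eq_one_of_odd_inverts huodd h1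
      have h3 := eq_one_of_sq_eq_one_of_odd (odd_orderOf_sq hVodd) h2
      exact hV1 (eq_one_of_sq_eq_one_of_odd hVodd h3)
    · have hyγ : y = γ := by
        rw [hγdef]
        exact kleinFour_eq_mul A hA hα hβ hyA hα1 hβ1 hαβ hy1' hyα hyβ
      have hγγ' : γ * γ * γ⁻¹ = γ := by group
      rw [hyγ, hγγ', hγV, hγu] at hyc'
      simp only [mul_assoc] at hyc'
      have e := mul_left_cancel hyc'
      simp only [← mul_assoc] at e
      rw [pow_two]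
      nth_rewrite 1 [← e]
      group
  have hτ := key v hv1 hvodd hαv hβv hγv
  have hτ2 := key (v ^ 2) (sq_ne_one_of_odd hvodd hv1) (odd_orderOf_sq hvodd)
    ((Commute.pow_right (show Commute α v from hαv) 2).eq)
    (by rw [← conj_pow, hβv, inv_pow]) (by rw [← conj_pow, hγv, inv_pow])
  obtain ⟨τ, hτdef⟩ : ∃ τ : G, τ = v * u * v := ⟨_, rfl⟩
  rw [← hτdef] at hτ
  have hττ : τ * τ = 1 := by rw [← pow_two]; exact hτ
  have hτinv : τ⁻¹ = τ := inv_eq_self_of_mul_self hττ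
  have h1 : v ^ 2 * u * v ^ 2 = v * τ * v := by rw [hτdef, pow_two]; group
  rw [h1, pow_two] at hτ2
  have h2 : τ * v ^ 2 * τ⁻¹ = (v ^ 2)⁻¹ := by
    rw [hτinv]
    calc τ * v ^ 2 * τ = v⁻¹ * (v * τ * v * (v * τ * v)) * v⁻¹ := by rw [pow_two]; group
      _ = v⁻¹ * 1 * v⁻¹ := by rw [hτ2]
      _ = (v ^ 2)⁻¹ := by rw [pow_two]; group
  have hτv : τ * v * τ⁻¹ = v⁻¹ := inverts_of_inverts_sq hvodd h2
  have hτv' : τ * v⁻¹ * τ⁻¹ = v := by
    have : τ * v⁻¹ * τ⁻¹ = (τ * v * τ⁻¹)⁻¹ := by group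
    rw [this, hτv, inv_inv]
  have huτ : u = τ := by
    calc u = v⁻¹ * (v * u * v) * v⁻¹ := by group
      _ = v⁻¹ * τ * v⁻¹ := by rw [hτdef]
      _ = v⁻¹ * (τ * v⁻¹ * τ⁻¹) * τ := by group
      _ = τ := by rw [hτv']; group
  rw [← huτ] at hτ
  exact hu1 (eq_one_of_sq_eq_one_of_odd huodd hτ)

end klein

end fourgroup

end Cfsg.Agent.Lib.Helper91
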