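import Mathlib
import Cfsg.Prelude.Def_RootSubgroups
import Cfsg.Agent.Lib.Helper91.FourGroup

set_option autoImplicit false

namespace Cfsg.Agent.Lib.Helper91

open Cfsg

universe u

section rootinv

variable {G : Type u} [Group G]

/-! ### element computations -/

theorem orderOf_mul_comm' (a b : G) : orderOf (a * b) = orderOf (b * a) := by
  have h : SemiconjBy b (a * b) (b * a) := by
    show b * (a * b) = b * a * b
    group
  exact h.orderOf_eq

/-- `e` an involution, `u` of odd order; `e u⁻¹ e u` and `e u e u` cannot both be involutions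
(or trivial) unless `u = 1`. -/
theorem eq_one_of_double_four {e u : G} (he : e * e = 1) (hodd : Odd (orderOf u))
    (h1 : (e * u⁻¹ * e * u) ^ 2 = 1) (h2 : (e * u * e * u) ^ 2 = 1) : u = 1 := by
  have hei : e⁻¹ = e := inv_eq_of_mul_eq_one_left he
  -- `e` commutes with `u⁻¹ e u`
  have hc1 : Commute e (u⁻¹ * e * u) := by
    have h3 : (e * (u⁻¹ * e * u)) * (e * (u⁻¹ * e * u)) = 1 := by
      rw [← pow_two]
      have : e * (u⁻¹ * e * u) = e * u⁻¹ * e * u := by group
      rw [this]; exact h1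
    have h4 : (u⁻¹ * e * u) * (u⁻¹ * e * u) = 1 := by
      calc (u⁻¹ * e * u) * (u⁻¹ * e * u) = u⁻¹ * (e * e) * u := by group
        _ = 1 := by rw [he]; group
    show e * (u⁻¹ * e * u) = (u⁻¹ * e * u) * e
    calc e * (u⁻¹ * e * u) = ((u⁻¹ * e * u) * (u⁻¹ * e * u)) * (e * (u⁻¹ * e * u)) * (e * e) := by
          rw [h4, he, one_mul, mul_one]
      _ = (u⁻¹ * e * u) * ((e * (u⁻¹ * e * u)) * (e * (u⁻¹ * e * u)))⁻¹ * e := by
          rw [h3, inv_one, mul_one]
          have h5 : (u⁻¹ * e * u) * (u⁻¹ * e * u) * (e * (u⁻¹ * e * u)) * (e * e) =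
              (u⁻¹ * e * u) * ((u⁻¹ * e * u) * e * (u⁻¹ * e * u) * e) * e := by group
          rw [h5]
          have h6 : (u⁻¹ * e * u) * e * (u⁻¹ * e * u) * e = 1 := by
            have : (u⁻¹ * e * u) * e * (u⁻¹ * e * u) * e =
                e⁻¹ * ((e * (u⁻¹ * e * u)) * (e * (u⁻¹ * e * u))) * e := by group
            rw [this, h3]; group
          rw [h6, mul_one]
      _ = (u⁻¹ * e * u) * e := by rw [h3, inv_one, mul_one]
  -- `e` commutes with `u e u⁻¹`
  have hc2 : Commute e (u * e * u⁻¹) := by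
    show e * (u * e * u⁻¹) = (u * e * u⁻¹) * e
    have h3 := hc1.eq
    calc e * (u * e * u⁻¹) = u * ((u⁻¹ * e * u) * e) * u⁻¹ := by group
      _ = u * (e * (u⁻¹ * e * u)) * u⁻¹ := by rw [h3]
      _ = (u * e * u⁻¹) * e := by group
  obtain ⟨y, hy⟩ : ∃ y : G, y = e * (u * e * u⁻¹) := ⟨_, rfl⟩
  have hyy : y * y = 1 := by
    rw [hy]
    calc e * (u * e * u⁻¹) * (e * (u * e * u⁻¹)) = e * ((u * e * u⁻¹) * e) * (u * e * u⁻¹) := by group
      _ = e * (e * (u * e * u⁻¹)) * (u * e * u⁻¹) := by rw [hc2.eq]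
      _ = (e * e) * u * (e * e) * u⁻¹ := by group
      _ = 1 := by rw [he]; group
  have hyi : y⁻¹ = y := inv_eq_of_mul_eq_one_left hyy
  have hz' : e * u * e * u = y * u ^ 2 := by rw [hy, pow_two]; group
  -- `y` inverts `u ^ 2`
  have hinv2 : y * u ^ 2 * y⁻¹ = (u ^ 2)⁻¹ := by
    rw [hz', pow_two] at h2
    rw [hyi]
    calc y * u ^ 2 * y = (y * u ^ 2 * (y * u ^ 2)) * (u ^ 2)⁻¹ := by group
      _ = (u ^ 2)⁻¹ := by rw [h2, one_mul]
  have hinv : y * u * y⁻¹ = u⁻¹ := inverts_of_inverts_sq hodd hinv2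
  -- `e u⁻¹ e u = u⁻¹ y u = y u²`
  have hA : e * u⁻¹ * e * u = y * u ^ 2 := by
    calc e * u⁻¹ * e * u = u⁻¹ * ((u * e * u⁻¹) * e) * u := by group
      _ = u⁻¹ * (e * (u * e * u⁻¹)) * u := by rw [hc2.eq]
      _ = u⁻¹ * y * u := by rw [hy]
      _ = (y * u * y⁻¹) * y * u := by rw [hinv]
      _ = y * u ^ 2 := by rw [pow_two]; group
  have h3 : e * u⁻¹ * e * u = e * u * e * u := by rw [hA, hz']
  have h4 : u⁻¹ = u := by
    have h5 : e * u⁻¹ * (e * u) = e * u * (e * u) := by
      simpa [mul_assoc] using h3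
    exact mul_left_cancel (mul_right_cancel h5)
  have h5 : u ^ 2 = 1 := by
    rw [pow_two]
    nth_rewrite 1 [← h4]
    exact inv_mul_cancel u
  exact eq_one_of_sq_eq_one_of_odd hodd h5

/-- an involution `c` commuting with `u ≠ 1` of odd order: `c u` has order `2·odd`, so it is
neither an involution, nor of odd order, nor of order 4 -/
theorem bad_order_of_commute {c u : G} (hcc : c * c = 1) (hc1 : c ≠ 1) (hodd : Odd (orderOf u))
    (hu1 : u ≠ 1) (hcu : Commute c u) :
    (c * u) ^ 2 ≠ 1 ∧ ¬ Odd (orderOf (c * u)) ∧ orderOf (c * u) ≠ 4 := by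
  have hc2 : c ^ 2 = 1 := by rw [pow_two]; exact hcc
  refine ⟨?_, ?_, ?_⟩
  · intro h
    rw [hcu.mul_pow, hc2, one_mul] at h
    exact hu1 (eq_one_of_sq_eq_one_of_odd hodd h)
  · intro hm
    obtain ⟨k, hk⟩ := hm
    have h1 : (c * u) ^ (2 * k + 1) = 1 := by rw [← hk]; exact pow_orderOf_eq_one _
    rw [hcu.mul_pow] at h1
    have h2 : c ^ (2 * k + 1) = c := by rw [pow_succ, pow_mul, hc2, one_pow, one_mul]
    rw [h2] at h1
    -- c = (u^(2k+1))⁻¹
    have h3 : c = (u ^ (2 * k + 1))⁻¹ := eq_inv_of_mul_eq_one_left h1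
    obtain ⟨n, hn⟩ := hodd
    have h4 : c ^ (2 * n + 1) = 1 := by
      rw [h3, inv_pow, ← pow_mul, mul_comm, pow_mul, ← hn, pow_orderOf_eq_one, one_pow, inv_one]
    have h5 : c ^ (2 * n + 1) = c := by rw [pow_succ, pow_mul, hc2, one_pow, one_mul]
    rw [h5] at h4
    exact hc1 h4
  · intro h4
    have h1 : (c * u) ^ 4 = 1 := by rw [← h4]; exact pow_orderOf_eq_one _
    rw [hcu.mul_pow] at h1
    have h2 : c ^ 4 = 1 := by
      have : c ^ 4 = (c ^ 2) ^ 2 := by rw [← pow_mul]
      rw [this, hc2, one_pow]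
    rw [h2, one_mul] at h1
    have h3 : (u ^ 2) ^ 2 = 1 := by rw [← pow_mul]; exact h1
    have h5 := eq_one_of_sq_eq_one_of_odd (odd_orderOf_sq hodd) h3
    exact hu1 (eq_one_of_sq_eq_one_of_odd hodd h5)

/-! ### sets of root involutions -/

variable {D : Set G}

theorem RI_mul_self (hD : IsRootInvolutionSet D) {d : G} (hd : d ∈ D) : d * d = 1 := by
  have h := hD.orderOf_eq d hd
  rw [← pow_two, ← h]
  exact pow_orderOf_eq_one d

theorem RI_inv (hD : IsRootInvolutionSet D) {d : G} (hd : d ∈ D) : d⁻¹ = d :=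
  inv_eq_of_mul_eq_one_left (RI_mul_self hD hd)

theorem RI_ne_one (hD : IsRootInvolutionSet D) {d : G} (hd : d ∈ D) : d ≠ 1 := by
  intro h
  have h2 := hD.orderOf_eq d hd
  rw [h, orderOf_one] at h2
  omega

/-- the key lemma: if `e` commutes with `a`, `e a ∈ D` and `x` is a neighbour of `a` in the
odd graph then `e` or `e a` is a neighbour of `x`. -/
theorem RI_key (hD : IsRootInvolutionSet D) {a e x : G} (ha : a ∈ D) (he : e ∈ D) (hx : x ∈ D)
    (hea : e * a = a * e) (hf : e * a ∈ D) (hxa : x ≠ a)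
    (hodd : Odd (orderOf (a * x))) :
    Odd (orderOf (e * x)) ∨ Odd (orderOf (e * a * x)) := by
  have haa := RI_mul_self hD ha
  have hee := RI_mul_self hD he
  have hxx := RI_mul_self hD hx
  have hff := RI_mul_self hD hf
  obtain ⟨u, hu⟩ : ∃ u : G, u = a * x := ⟨_, rfl⟩
  have hxu : x = a * u := by rw [hu, ← mul_assoc, haa, one_mul]
  have hu1 : u ≠ 1 := by
    intro h
    rw [hu] at h
    have : x = a⁻¹ := eq_inv_of_mul_eq_one_right h
    rw [RI_inv hD ha] at this
    exact hxa this
  have hoddu : Odd (orderOf u) := by rw [hu]; exact hodd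
  have hinv : a * u * a⁻¹ = u⁻¹ := by
    rw [hu, RI_inv hD ha, mul_inv_rev, RI_inv hD ha, RI_inv hD hx]
    calc a * (a * x) * a = (a * a) * x * a := by group
      _ = x * a := by rw [haa, one_mul]
  have hua : u * a = a * u⁻¹ := by
    calc u * a = (a * a) * u * a := by rw [haa, one_mul]
      _ = a * (a * u * a⁻¹) * (a * a) := by group
      _ = a * u⁻¹ := by rw [hinv, haa, mul_one]
  have hfa : e * a * a = e := by rw [mul_assoc, haa, mul_one]
  have hfx : e * a * x = e * u := by rw [hxu, ← mul_assoc, hfa]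
  have hfcomm : (e * a) * a = a * (e * a) := by rw [hfa, ← mul_assoc, ← hea, hfa]
  have hf1 : e * a ≠ 1 := RI_ne_one hD hf
  have he1 : e ≠ 1 := RI_ne_one hD he
  rcases hD.pair e he x hx with h1 | h1 | ⟨h1, -⟩
  · -- `e` commutes with `x`
    exfalso
    have hcu : Commute e u := by
      show e * u = u * e
      rw [hu]
      calc e * (a * x) = (e * a) * x := by group
        _ = (a * e) * x := by rw [hea]
        _ = a * (e * x) := by group
        _ = a * (x * e) := by rw [h1]
        _ = a * x * e := by group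
    obtain ⟨b1, b2, b3⟩ := bad_order_of_commute hee he1 hoddu hu1 hcu
    rw [← hfx] at b1 b2 b3
    rcases hD.pair (e * a) hf x hx with h2 | h2 | ⟨h2, -⟩
    · apply b1
      rw [pow_two]
      calc e * a * x * (e * a * x) = (e * a) * (x * (e * a)) * x := by group
        _ = (e * a) * ((e * a) * x) * x := by rw [h2]
        _ = ((e * a) * (e * a)) * (x * x) := by group
        _ = 1 := by rw [hff, hxx, one_mul]
    · exact b2 h2
    · exact b3 h2
  · exact Or.inl h1
  · rcases hD.pair (e * a) hf x hx with h2 | h2 | ⟨h2, -⟩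
    · -- `f = e a` commutes with `x`
      exfalso
      have hcu : Commute (e * a) u := by
        show (e * a) * u = u * (e * a)
        rw [hu]
        calc (e * a) * (a * x) = ((e * a) * a) * x := by group
          _ = (a * (e * a)) * x := by rw [hfcomm]
          _ = a * ((e * a) * x) := by group
          _ = a * (x * (e * a)) := by rw [h2]
          _ = a * x * (e * a) := by group
      obtain ⟨-, -, b3⟩ := bad_order_of_commute hff hf1 hoddu hu1 hcu
      apply b3
      have : e * a * u = e * x := by rw [hxu]; group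
      rw [this]; exact h1
    · exact Or.inr h2
    · exfalso
      apply hu1
      apply eq_one_of_double_four hee hoddu
      · have hsq : e * u⁻¹ * e * u = (e * x) ^ 2 := by
          rw [pow_two, hxu]
          symm
          calc e * (a * u) * (e * (a * u)) = (e * a) * u * (e * a) * u := by group
            _ = (a * e) * u * (a * e) * u := by rw [hea]
            _ = a * e * (u * a) * e * u := by group
            _ = a * e * (a * u⁻¹) * e * u := by rw [hua]
            _ = a * (e * a) * u⁻¹ * e * u := by group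
            _ = a * (a * e) * u⁻¹ * e * u := by rw [hea]
            _ = (a * a) * e * u⁻¹ * e * u := by group
            _ = e * u⁻¹ * e * u := by rw [haa, one_mul]
        have h4 : (e * x) ^ 4 = 1 := by rw [← h1]; exact pow_orderOf_eq_one _
        rw [hsq, ← pow_mul]
        exact h4
      · have hsq : e * u * e * u = (e * a * x) ^ 2 := by
          rw [hfx, pow_two]; group
        have h4 : (e * a * x) ^ 4 = 1 := by rw [← h2]; exact pow_orderOf_eq_one _
        rw [hsq, ← pow_mul]
        exact h4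

/-! ### the odd graph -/

theorem oddAdj_symm {a b : G} (h : OddAdj D a b) : OddAdj D b a :=
  ⟨h.2.1, h.1, h.2.2.1.symm, by rw [orderOf_mul_comm']; exact h.2.2.2⟩

theorem oddAdj_rtg_symm {a b : G} (h : Relation.ReflTransGen (OddAdj D) a b) :
    Relation.ReflTransGen (OddAdj D) b a := by
  induction h with
  | refl => exact Relation.ReflTransGen.refl
  | tail _ hbc ih => exact Relation.ReflTransGen.head (oddAdj_symm hbc) ih

theorem oddComponent_eq_of_mem {a b c : G} (ha : c ∈ elemComponentOf (OddAdj D) D a)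
    (hb : c ∈ elemComponentOf (OddAdj D) D b) :
    elemComponentOf (OddAdj D) D a = elemComponentOf (OddAdj D) D b := by
  have hab : Relation.ReflTransGen (OddAdj D) a b := ha.2.trans (oddAdj_rtg_symm hb.2)
  ext x
  constructor
  · rintro ⟨hx, h⟩
    exact ⟨hx, (oddAdj_rtg_symm hab).trans h⟩
  · rintro ⟨hx, h⟩
    exact ⟨hx, hab.trans h⟩

theorem isolated_iff {w : G} : IsIsolatedElem (OddAdj D) D w ↔
    w ∈ D ∧ ∀ b ∈ D, b ≠ w → ¬ Odd (orderOf (w * b)) := by
  constructor
  · rintro ⟨hw, h⟩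
    refine ⟨hw, fun b hb hbw hodd => (h b).1 ⟨hw, hb, hbw.symm, hodd⟩⟩
  · rintro ⟨hw, h⟩
    refine ⟨hw, fun b => ⟨?_, ?_⟩⟩
    · rintro ⟨-, hb, hne, hodd⟩
      exact h b hb hne.symm hodd
    · rintro ⟨hb, -, hne, hodd⟩
      rw [orderOf_mul_comm'] at hodd
      exact h b hb hne hodd

theorem exists_oddAdj_of_component {a : G}
    (h : ∃ a' ∈ elemComponentOf (OddAdj D) D a, a' ≠ a) : ∃ x, OddAdj D a x := by
  obtain ⟨a', ⟨-, hrt⟩, hne⟩ := h
  rcases Relation.ReflTransGen.cases_head hrt with h1 | ⟨c, hc, -⟩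
  · exact absurd h1.symm hne
  · exact ⟨c, hc⟩

theorem isolated_conj (hD : IsRootInvolutionSet D) {w : G} (hw : IsIsolatedElem (OddAdj D) D w)
    (g : G) : IsIsolatedElem (OddAdj D) D (g * w * g⁻¹) := by
  rw [isolated_iff] at hw ⊢
  refine ⟨hD.conj_mem w hw.1 g, ?_⟩
  intro b hb hne hodd
  have hb' : g⁻¹ * b * g ∈ D := by
    have := hD.conj_mem b hb g⁻¹
    rwa [inv_inv] at this
  have hne' : g⁻¹ * b * g ≠ w := by
    intro h
    apply hne
    rw [← h]; group
  apply hw.2 _ hb' hne'
  have hsc : SemiconjBy g (w * (g⁻¹ * b * g)) (g * w * g⁻¹ * b) := by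
    show g * (w * (g⁻¹ * b * g)) = g * w * g⁻¹ * b * g
    group
  rw [hsc.orderOf_eq]
  exact hodd

theorem isolated_mem_pCore [Finite G] (hD : IsRootInvolutionSet D) {w : G}
    (hw : IsIsolatedElem (OddAdj D) D w) : w ∈ Cfsg.pCore 2 G := by
  have hfact : Fact (Nat.Prime 2) := ⟨Nat.prime_two⟩
  have hwD : w ∈ D := hw.1
  have hww := RI_mul_self hD hwD
  have key : ∀ g : G, IsPGroup 2
      ↥(Subgroup.zpowers w ⊔ (Subgroup.zpowers w).map (MulAut.conj g).toMonoidHom) := by
    intro g
    rw [MonoidHom.map_zpowers]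
    have hs : (MulAut.conj g).toMonoidHom w = g * w * g⁻¹ := by simp
    rw [hs]
    have hsD : g * w * g⁻¹ ∈ D := hD.conj_mem w hwD g
    have hss := RI_mul_self hD hsD
    have ht2 : w ^ 2 = 1 := by rw [pow_two]; exact hww
    have hs2 : (g * w * g⁻¹) ^ 2 = 1 := by rw [pow_two]; exact hss
    rcases hD.pair w hwD _ hsD with h1 | h1 | ⟨h1, -⟩
    · have h2 : (w * (g * w * g⁻¹)) ^ 2 = 1 := by
        rw [(show Commute w (g * w * g⁻¹) from h1).mul_pow, ht2, hs2, one_mul]
      have hd := orderOf_dvd_of_pow_eq_one h2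
      rcases (Nat.dvd_prime Nat.prime_two).mp hd with h | h
      · exact isPGroup_two_closure_pair ht2 hs2 (k := 0) (by rw [h]; rfl)
      · exact isPGroup_two_closure_pair ht2 hs2 (k := 1) (by rw [h]; rfl)
    · have heq : g * w * g⁻¹ = w := by
        by_contra hne
        exact (isolated_iff.mp hw).2 _ hsD hne h1
      apply isPGroup_two_closure_pair ht2 hs2 (k := 0)
      rw [heq, hww, orderOf_one]; rfl
    · exact isPGroup_two_closure_pair ht2 hs2 (k := 2) (by rw [h1]; rfl)
  obtain ⟨N, hNn, hNp, hle⟩ := baer_suzuki (p := 2) (Subgroup.zpowers w) key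
  exact Helper22.le_pCore' hNn hNp (hle (Subgroup.mem_zpowers w))

/-- a member of `D` lying in `O_2(G)` is isolated -/
theorem isolated_of_mem_pCore [Finite G] (hD : IsRootInvolutionSet D) {d : G} (hd : d ∈ D)
    (hQ : d ∈ Cfsg.pCore 2 G) : IsIsolatedElem (OddAdj D) D d := by
  have hfact : Fact (Nat.Prime 2) := ⟨Nat.prime_two⟩
  rw [isolated_iff]
  refine ⟨hd, ?_⟩
  intro b hb hne hodd
  have hdd := RI_mul_self hD hd
  have hbb := RI_mul_self hD hb
  have hinv : d * (d * b) * d⁻¹ = (d * b)⁻¹ := by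
    rw [RI_inv hD hd, mul_inv_rev, RI_inv hD hd, RI_inv hD hb]
    calc d * (d * b) * d = (d * d) * b * d := by group
      _ = b * d := by rw [hdd, one_mul]
  obtain ⟨g, hg⟩ := exists_conj_eq_mul_of_inverts hodd hinv
  have hdb : d * (d * b) = b := by rw [← mul_assoc, hdd, one_mul]
  rw [hdb] at hg
  have hn := Helper22.pCore_normal' 2 G
  have hbQ : b ∈ Cfsg.pCore 2 G := by
    rw [← hg]; exact hn.conj_mem d hQ g
  have htQ : d * b ∈ Cfsg.pCore 2 G := Subgroup.mul_mem _ hQ hbQ
  obtain ⟨k, hk⟩ := (Helper22.pCore_isPGroup' 2 G) ⟨d * b, htQ⟩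
  have hk' : (d * b) ^ 2 ^ k = 1 := congrArg Subtype.val hk
  have hdvd := orderOf_dvd_of_pow_eq_one hk'
  have hcop : Nat.Coprime (orderOf (d * b)) (2 ^ k) :=
    Nat.Coprime.pow_right k (Nat.coprime_two_right.mpr hodd)
  have h1 : orderOf (d * b) = 1 := Nat.Coprime.eq_one_of_dvd hcop hdvd
  have h2 : d * b = 1 := orderOf_eq_one_iff.mp h1
  have h3 : b = d⁻¹ := eq_inv_of_mul_eq_one_right h2
  rw [RI_inv hD hd] at h3
  exact hne h3

/-- part (6): product partners of a non-isolated `a` lie in its component or are isolated -/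
theorem productPartners_subset (hD : IsRootInvolutionSet D) {a : G} (ha : a ∈ D)
    (hcomp : ∃ a' ∈ elemComponentOf (OddAdj D) D a, a' ≠ a) :
    productPartners D a ⊆
      elemComponentOf (OddAdj D) D a ∪ {w | IsIsolatedElem (OddAdj D) D w} := by
  rintro e ⟨⟨he, hea, hne⟩, hf⟩
  obtain ⟨x, hax⟩ := exists_oddAdj_of_component hcomp
  have hx : x ∈ D := hax.2.1
  have hxa : x ≠ a := hax.2.2.1.symm
  have haa := RI_mul_self hD ha
  have hee := RI_mul_self hD he
  -- an element commuting with `a` is not a neighbour of... helper: neighbours of `a` do not commute with `a`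
  have hnc : ∀ {p q : G}, p ∈ D → q ∈ D → q ≠ p → Odd (orderOf (p * q)) → p * q ≠ q * p := by
    intro p q hp hq hqp hodd hc
    have hpp := RI_mul_self hD hp
    have hqq := RI_mul_self hD hq
    have h2 : (p * q) ^ 2 = 1 := by
      rw [(show Commute p q from hc).mul_pow, pow_two, pow_two, hpp, hqq, one_mul]
    have h3 := eq_one_of_sq_eq_one_of_odd hodd h2
    have h4 : q = p⁻¹ := eq_inv_of_mul_eq_one_right h3
    rw [RI_inv hD hp] at h4
    exact hqp h4
  by_cases hiso : IsIsolatedElem (OddAdj D) D e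
  · exact Or.inr hiso
  left
  refine ⟨he, ?_⟩
  have hstep1 : Relation.ReflTransGen (OddAdj D) a x := Relation.ReflTransGen.single hax
  rcases RI_key hD ha he hx hea hf hxa hax.2.2.2 with h1 | h1
  · -- `e` adjacent to `x`
    have hxe : x ≠ e := by
      intro h
      rw [← h] at hea
      exact hnc ha hx hxa hax.2.2.2 hea.symm
    have : OddAdj D x e := ⟨hx, he, hxe, by rw [orderOf_mul_comm']; exact h1⟩
    exact hstep1.tail this
  · -- `f = e a` adjacent to `x`
    have hfa : (e * a) * a = a * (e * a) := by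
      rw [mul_assoc, haa, mul_one, ← mul_assoc, ← hea, mul_assoc, haa, mul_one]
    have hxf : x ≠ e * a := by
      intro h
      rw [← h] at hfa
      exact hnc ha hx hxa hax.2.2.2 hfa.symm
    have hadj : OddAdj D x (e * a) := ⟨hx, hf, hxf, by rw [orderOf_mul_comm']; exact h1⟩
    have hstep2 : Relation.ReflTransGen (OddAdj D) a (e * a) := hstep1.tail hadj
    -- `e` is not isolated: take a neighbour `y` of `e`
    have hex : ∃ y, OddAdj D e y := by
      by_contra hcon
      push Not at hcon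
      apply hiso
      refine ⟨he, fun b => ⟨hcon b, fun h => hcon b (oddAdj_symm h)⟩⟩
    obtain ⟨y, hey⟩ := hex
    have hy : y ∈ D := hey.2.1
    have hye : y ≠ e := hey.2.2.1.symm
    have hae : a * e = e * a := hea.symm
    have hf' : a * e ∈ D := by rw [hae]; exact hf
    rcases RI_key hD he ha hy hae hf' hye hey.2.2.2 with h2 | h2
    · -- `a` adjacent to `y`
      have hya : y ≠ a := by
        intro h
        rw [h] at hey
        exact hnc he ha hne.symm hey.2.2.2 hea
      have h3 : OddAdj D a y := ⟨ha, hy, hya.symm, h2⟩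
      exact (Relation.ReflTransGen.single h3).tail (oddAdj_symm hey)
    · -- `f` adjacent to `y`
      rw [hae] at h2
      have hfe : (e * a) * e = e * (e * a) := by
        calc (e * a) * e = (a * e) * e := by rw [hea]
          _ = a * (e * e) := by group
          _ = (e * e) * a := by rw [hee, mul_one, one_mul]
          _ = e * (e * a) := by group
      have hyf : y ≠ e * a := by
        intro h
        rw [← h] at hfe
        exact hnc he hy hye hey.2.2.2 hfe.symm
      have h3 : OddAdj D (e * a) y := ⟨hf, hy, hyf.symm, h2⟩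
      exact (hstep2.tail h3).tail (oddAdj_symm hey)

/-- the full statement on isolated vertices of the odd graph -/
theorem rootInvolution_isolated_main [Finite G] (hD : IsRootInvolutionSet D) :
    (∀ w ∈ {w | Cfsg.IsIsolatedElem (Cfsg.OddAdj D) D w}, ∀ g : G, g * w * g⁻¹ ∈ {w | Cfsg.IsIsolatedElem (Cfsg.OddAdj D) D w}) ∧
    (Subgroup.closure {w | Cfsg.IsIsolatedElem (Cfsg.OddAdj D) D w}).Normal ∧
    IsPGroup 2 ↥(Subgroup.closure {w | Cfsg.IsIsolatedElem (Cfsg.OddAdj D) D w}) ∧
    (Subgroup.closure {w | Cfsg.IsIsolatedElem (Cfsg.OddAdj D) D w} : Set G) ∩ D = {w | Cfsg.IsIsolatedElem (Cfsg.OddAdj D) D w} ∧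
    (∀ a ∈ D, ∀ b ∈ D, (∃ a' ∈ Cfsg.elemComponentOf (Cfsg.OddAdj D) D a, a' ≠ a) →
      (∃ b' ∈ Cfsg.elemComponentOf (Cfsg.OddAdj D) D b, b' ≠ b) →
      Cfsg.elemComponentOf (Cfsg.OddAdj D) D a ≠ Cfsg.elemComponentOf (Cfsg.OddAdj D) D b →
        a * b * a⁻¹ * b⁻¹ ∈ Subgroup.closure {w | Cfsg.IsIsolatedElem (Cfsg.OddAdj D) D w}) ∧
    (∀ a ∈ D, (∃ a' ∈ Cfsg.elemComponentOf (Cfsg.OddAdj D) D a, a' ≠ a) →
      Cfsg.productPartners D a ⊆ Cfsg.elemComponentOf (Cfsg.OddAdj D) D a ∪ {w | Cfsg.IsIsolatedElem (Cfsg.OddAdj D) D w}) := by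
  have hfact : Fact (Nat.Prime 2) := ⟨Nat.prime_two⟩
  have h1 : ∀ w ∈ {w | Cfsg.IsIsolatedElem (Cfsg.OddAdj D) D w}, ∀ g : G,
      g * w * g⁻¹ ∈ {w | Cfsg.IsIsolatedElem (Cfsg.OddAdj D) D w} :=
    fun w hw g => isolated_conj hD hw g
  have hle : Subgroup.closure {w | Cfsg.IsIsolatedElem (Cfsg.OddAdj D) D w} ≤ Cfsg.pCore 2 G := by
    rw [Subgroup.closure_le]
    intro w hw
    exact isolated_mem_pCore hD hw
  have h6 := fun a ha hc => productPartners_subset hD (a := a) ha hc
  refine ⟨h1, ?_, ?_, ?_, ?_, h6⟩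
  · -- normal
    refine ⟨fun n hn g => ?_⟩
    have hmap : (Subgroup.closure {w | Cfsg.IsIsolatedElem (Cfsg.OddAdj D) D w}).map
        (MulAut.conj g).toMonoidHom ≤ Subgroup.closure {w | Cfsg.IsIsolatedElem (Cfsg.OddAdj D) D w} := by
      rw [MonoidHom.map_closure]
      apply Subgroup.closure_mono
      rintro _ ⟨w, hw, rfl⟩
      have : (MulAut.conj g).toMonoidHom w = g * w * g⁻¹ := by simp
      rw [this]
      exact h1 w hw g
    apply hmap
    exact ⟨n, hn, by simp⟩
  · exact (Helper22.pCore_isPGroup' 2 G).to_le hle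
  · ext d
    constructor
    · rintro ⟨hdW, hdD⟩
      exact isolated_of_mem_pCore hD hdD (hle hdW)
    · intro hd
      exact ⟨Subgroup.subset_closure hd, hd.1⟩
  · intro a ha b hb hca hcb hne
    have haa := RI_mul_self hD ha
    have hbb := RI_mul_self hD hb
    rw [RI_inv hD ha, RI_inv hD hb]
    rcases hD.pair a ha b hb with h | h | ⟨h, hc⟩
    · have : a * b * a * b = 1 := by
        calc a * b * a * b = a * (b * a) * b := by group
          _ = a * (a * b) * b := by rw [h]
          _ = (a * a) * (b * b) := by group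
          _ = 1 := by rw [haa, hbb, one_mul]
      rw [this]; exact Subgroup.one_mem _
    · exfalso
      apply hne
      by_cases hab : a = b
      · rw [hab]
      · have hadj : OddAdj D a b := ⟨ha, hb, hab, h⟩
        have hbmem : b ∈ elemComponentOf (OddAdj D) D a := ⟨hb, Relation.ReflTransGen.single hadj⟩
        have hbmem' : b ∈ elemComponentOf (OddAdj D) D b := ⟨hb, Relation.ReflTransGen.refl⟩
        exact oddComponent_eq_of_mem hbmem hbmem'
    · -- order 4
      obtain ⟨c, hcdef⟩ : ∃ c : G, c = (a * b) ^ 2 := ⟨_, rfl⟩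
      have hcD : c ∈ D := by rw [hcdef]; exact hc
      have hcab : a * b * a * b = c := by rw [hcdef, pow_two]; group
      rw [hcab]
      have hcc := RI_mul_self hD hcD
      -- c a = b a b, c b = a b a
      have hca' : c * a = b * a * b⁻¹ := by
        rw [RI_inv hD hb, ← hcab]
        -- a b a b a = b a b  ⇐  (ab)^4 = 1
        have h4 : (a * b) ^ 4 = 1 := by rw [← h]; exact pow_orderOf_eq_one _
        have h4' : a * b * (a * b) * (a * b) * (a * b) = 1 := by
          have : (a * b) ^ 4 = a * b * (a * b) * (a * b) * (a * b) := by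
            rw [pow_succ, pow_succ, pow_succ, pow_one]
          rw [← this]; exact h4
        calc a * b * a * b * a = (a * b * (a * b) * (a * b) * (a * b)) * (b⁻¹ * a⁻¹ * b⁻¹) := by group
          _ = b * a * b := by rw [h4', one_mul, RI_inv hD ha, RI_inv hD hb]
      have hac : a * c = b * a * b⁻¹ := by
        rw [RI_inv hD hb, ← hcab]
        calc a * (a * b * a * b) = (a * a) * b * a * b := by group
          _ = b * a * b := by rw [haa, one_mul]
      have hcomm_a : c * a = a * c := by rw [hca', hac]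
      have hcb' : c * b = a * b * a⁻¹ := by
        rw [RI_inv hD ha, ← hcab]
        calc a * b * a * b * b = a * b * a * (b * b) := by group
          _ = a * b * a := by rw [hbb, mul_one]
      have hbc : b * c = a * b * a⁻¹ := by
        rw [RI_inv hD ha, ← hcab]
        have h4 : (a * b) ^ 4 = 1 := by rw [← h]; exact pow_orderOf_eq_one _
        have h4' : a * b * (a * b) * (a * b) * (a * b) = 1 := by
          have : (a * b) ^ 4 = a * b * (a * b) * (a * b) * (a * b) := by
            rw [pow_succ, pow_succ, pow_succ, pow_one]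
          rw [← this]; exact h4
        calc b * (a * b * a * b) = a⁻¹ * (a * b * (a * b) * (a * b) * (a * b)) * b⁻¹ * a⁻¹ := by group
          _ = a⁻¹ * b⁻¹ * a⁻¹ := by rw [h4', mul_one]
          _ = a * b * a := by rw [RI_inv hD ha, RI_inv hD hb]
      have hcomm_b : c * b = b * c := by rw [hcb', hbc]
      have hc_ne_a : c ≠ a := by
        intro heq
        rw [heq, haa] at hca'
        have hbab : b * a * b⁻¹ ∈ D := hD.conj_mem a ha b
        rw [← hca'] at hbab
        exact RI_ne_one hD hbab rfl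
      have hc_ne_b : c ≠ b := by
        intro heq
        rw [heq, hbb] at hcb'
        have haba : a * b * a⁻¹ ∈ D := hD.conj_mem b hb a
        rw [← hcb'] at haba
        exact RI_ne_one hD haba rfl
      have hpa : c ∈ productPartners D a :=
        ⟨⟨hcD, hcomm_a, hc_ne_a⟩, by rw [hca']; exact hD.conj_mem a ha b⟩
      have hpb : c ∈ productPartners D b :=
        ⟨⟨hcD, hcomm_b, hc_ne_b⟩, by rw [hcb']; exact hD.conj_mem b hb a⟩
      rcases h6 a ha hca hpa with hA | hA
      · rcases h6 b hb hcb hpb with hB | hB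
        · exact absurd (oddComponent_eq_of_mem hA hB) hne
        · exact Subgroup.subset_closure hB
      · exact Subgroup.subset_closure hA

end rootinv

end Cfsg.Agent.Lib.Helper91
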