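import Cfsg.Agent.Lib.Helper47.BG11e
import Cfsg.Agent.Lib.Helper24.HHP
import Cfsg.Agent.Lib.Helper24.HHFit1
import Cfsg.Agent.Lib.Helper24.PLenOne
import Cfsg.Agent.Lib.Helper10.FittingCent
import Cfsg.Agent.Lib.Helper32.FitDer
import Cfsg.Agent.Lib.Helper21.BenderLemma
import Cfsg.Agent.Lib.Helper50.BG117End
import Cfsg.Agent.Lib.Helper71.BG115P3
import Cfsg.Agent.Lib.Helper91.BG117A6

/-!
# Bender–Glauberman Theorem 11.7: the reduction to the key step

If `A` centralizes every normal `q`-subgroup of an exceptional maximal subgroup `M`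
(`q ∉ σ(M)`, `q ≠ p`), then `M_σ A` is normal in `M`.
-/

set_option autoImplicit false
set_option linter.unusedSectionVars false
set_option linter.unusedVariables false
set_option linter.style.haveILetI false

namespace Cfsg.Agent.Lib.Helper91.BG117R

open Subgroup Cfsg Cfsg.Agent.Lib.Helper33 Cfsg.Agent.Lib.Helper24 Cfsg.Agent.Lib.Helper32
open Cfsg.Agent.Lib.Helper24.BG Cfsg.Agent.Lib.Helper23 Cfsg.Agent.Lib.Helper63
open Cfsg.Agent.Lib.Helper47.BG11
open scoped commutatorElement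

universe u

variable {G : Type u} [Group G] [Finite G]

/-- a subgroup containing a Sylow `s`-subgroup of `N` for every prime `s` contains `N` -/
theorem le_of_sylows {N D : Subgroup G}
    (h : ∀ s : ℕ, s.Prime → ∃ S : Subgroup G, S ≤ D ∧ ¬ s ∣ S.relIndex N) : N ≤ D := by
  rw [← relIndex_eq_one]
  by_contra hne
  obtain ⟨s, hs, hsd⟩ := Nat.exists_prime_and_dvd hne
  obtain ⟨S, hSD, hSi⟩ := h s hs
  exact hSi (dvd_trans hsd (relIndex_dvd_of_le_left N hSD))

/-- (R1): an element `x` of prime order `p` acting fixed-point-freely on the nilpotent group `N`,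
and an `x`-invariant `r`-group `R` acting on `N`: `[R, x]` centralizes `N`. -/
theorem r1 (hodd : Odd (Nat.card G)) {N R : Subgroup G} (hNnil : Group.IsNilpotent N) {r p : ℕ}
    [hr : Fact r.Prime] [hp : Fact p.Prime] (hrp : r ≠ p) (hR : IsPGroup r R)
    (hRN : R ≤ normalizer (N : Set G)) (hrN : ¬ r ∣ Nat.card N) (hpN : ¬ p ∣ Nat.card N) {x : G}
    (hxp : x ^ p = 1) (hxN : x ∈ normalizer (N : Set G)) (hxR : x ∈ normalizer (R : Set G))
    (hfix : ∀ v ∈ N, x * v = v * x → v = 1) :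
    ∀ g ∈ R, g * x * g⁻¹ * x⁻¹ ∈ centralizer (N : Set G) := by
  intro g hg
  set c := g * x * g⁻¹ * x⁻¹ with hc
  have key : N ≤ centralizer ({c} : Set G) := by
    apply le_of_sylows
    intro s hs
    haveI : Fact s.Prime := ⟨hs⟩
    obtain ⟨S⟩ : Nonempty (Sylow s N) := inferInstance
    obtain ⟨h1, h2, h3⟩ := sylow_map_facts N S
    set T := (S : Subgroup N).map N.subtype with hT
    refine ⟨T, ?_, h3⟩
    -- `T` is normalized by the normalizer of `N`
    haveI : (S : Subgroup N).Normal := inferInstance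
    haveI : (S : Subgroup N).Characteristic := Sylow.characteristic_of_normal S inferInstance
    have hnorm : normalizer (N : Set G) ≤ normalizer (T : Set G) :=
      normalizer_le_normalizer_map_of_characteristic N (S : Subgroup N)
    by_cases hsr : s = r
    · have : T = ⊥ := HH.eq_bot_of_isPGroup_of_not_dvd T N h2 h1 (hsr ▸ hrN)
      rw [this]; exact bot_le
    by_cases hsp : s = p
    · have : T = ⊥ := HH.eq_bot_of_isPGroup_of_not_dvd T N h2 h1 (hsp ▸ hpN)
      rw [this]; exact bot_le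
    have hmain := HH.hh_transfer_pgroup (G := G) hs hr.out hp.out hsr hsp hrp T R h2 x
      (hnorm hxN) hxR hxp (fun v hv hxv => hfix v (h1 hv) hxv) hR (hRN.trans hnorm) (by
        intro h2' _ a ha b hb
        have hRbot : R = ⊥ := by
          obtain ⟨k, hk⟩ := IsPGroup.iff_card.mp hR
          have hdvd : Nat.card R ∣ Nat.card G := Subgroup.card_subgroup_dvd_card R
          rcases Nat.eq_zero_or_pos k with h0 | h0
          · rw [h0, pow_zero] at hk; exact Subgroup.card_eq_one.mp hk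
          · exfalso
            have : 2 ∣ Nat.card G := by
              rw [hk, h2'] at hdvd
              exact dvd_trans (dvd_pow_self 2 h0.ne') hdvd
            exact (Nat.not_even_iff_odd.mpr hodd) (even_iff_two_dvd.mpr this)
        rw [hRbot, mem_bot] at ha hb
        rw [ha, hb])
    intro t ht
    rw [Subgroup.mem_centralizer_singleton_iff]
    have := mem_centralizer_iff.mp (hmain g hg) t ht
    exact this
  rw [mem_centralizer_iff]
  intro n hn
  have := Subgroup.mem_centralizer_singleton_iff.mp (key hn)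
  exact this

/-- the image in `G` of `O_q(M)` -/
def oq (q : ℕ) (M : Subgroup G) : Subgroup G := (pCore q ↥M).map M.subtype

theorem oq_le (q : ℕ) (M : Subgroup G) : oq q M ≤ M := map_subtype_le _

theorem oq_isPGroup (q : ℕ) (M : Subgroup G) : IsPGroup q (oq q M) :=
  (Cfsg.Agent.Lib.Helper63.pCore_isPGroup' q ↥M).map _

theorem oq_normal (q : ℕ) (M : Subgroup G) : M ≤ normalizer ((oq q M : Subgroup G) : Set G) := by
  haveI hn : (pCore q ↥M).Normal := Cfsg.Agent.Lib.Helper22.pCore_normal' q ↥M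
  intro m hm
  rw [mem_normalizer_iff]
  intro z
  constructor
  · rintro ⟨z', hz', rfl⟩
    exact ⟨⟨m, hm⟩ * z' * ⟨m, hm⟩⁻¹, hn.conj_mem z' hz' ⟨m, hm⟩, rfl⟩
  · rintro ⟨w', hw', hw⟩
    have h1 := hn.conj_mem w' hw' (⟨m, hm⟩⁻¹)
    refine ⟨⟨m, hm⟩⁻¹ * w' * ⟨m, hm⟩⁻¹⁻¹, h1, ?_⟩
    show m⁻¹ * (w' : G) * m⁻¹⁻¹ = z
    have : (w' : G) = m * z * m⁻¹ := hw
    rw [this]; group

/-- (a): `A` centralizes every `A`-invariant `r`-subgroup of `M`, `r ∉ σ(M)`, `r ≠ p`. -/
theorem step_a (hG : IsMinSimpleOddOrder G) {M A₀ A : Subgroup G} {p : ℕ} [hp : Fact p.Prime]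
    (e : Exc M p A₀ A)
    (hstar : ∀ (q : ℕ) [Fact q.Prime], q ∉ sigma M → q ≠ p →
      A ≤ centralizer (((pCore q ↥M).map M.subtype : Subgroup G) : Set G))
    {r : ℕ} [hr : Fact r.Prime] (hrσ : r ∉ sigma M) (hrp : r ≠ p) {R : Subgroup G}
    (hR : IsPGroup r R) (hRM : R ≤ M) (hAR : A ≤ normalizer (R : Set G)) :
    A ≤ centralizer (R : Set G) := by
  have hM := e.coatom
  have hMtop : M ≠ ⊤ := hM.1
  have hσ : SigmaHallIn M := sigmaHallIn_of_coatom hG hM
  haveI hMsolv : Group.IsSolvable ↥M := isSolvable_of_ne_top hG hMtop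
  obtain ⟨P, hPp, hPM, hPi, hAP, -⟩ := e.exists_sylow
  obtain ⟨hPab, hPΩ⟩ := e.bg_11_5 hG hPp hPM hPi hAP
  obtain ⟨A₁, A₂, hA₁, hA₂, hA₁c, hA₂c, hne, hf₁, hf₂⟩ := e.bg_11_6_c hG
  have hnil := e.bg_11_3 hG
  have hMσn : M ≤ normalizer ((sigmaCore M : Subgroup G) : Set G) :=
    Cfsg.Agent.Lib.Helper24.BG.le_normalizer_sigmaCore M
  have hrMσ : ¬ r ∣ Nat.card (sigmaCore M) := fun hd =>
    hrσ (mem_sigma_of_dvd_card_le le_rfl hr.out hd)
  have hpMσ : ¬ p ∣ Nat.card (sigmaCore M) := fun hd =>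
    e.notSigma (mem_sigma_of_dvd_card_le le_rfl hp.out hd)
  -- `A` centralizes `O_q(M)` for every `q ∉ σ(M)`
  have hAoq : ∀ (q : ℕ) [Fact q.Prime], q ∉ sigma M →
      A ≤ centralizer ((oq q M : Subgroup G) : Set G) := by
    intro q _ hqσ
    by_cases hqp : q = p
    · subst hqp
      have h1 : oq q M ≤ P := by
        have h2 : IsPGroup q (oq q M ⊔ P : Subgroup G) :=
          IsPGroup.to_sup_of_normal_left' (oq_isPGroup q M) hPp (hPM.trans (oq_normal q M))
        exact le_sup_left.trans (Cfsg.Agent.Lib.Helper50.BG117.le_of_sylow_le le_sup_right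
          (sup_le (oq_le q M) hPM) h2 hPi)
      intro a ha
      rw [mem_centralizer_iff]
      intro z hz
      exact hPab z (h1 hz) a (hAP ha)
    · exact hstar q hqσ hqp
  -- the main claim for a fixed-point-free line
  have main : ∀ Y : Subgroup G, Y ≤ A → Nat.card Y = p →
      sigmaCore M ⊓ centralizer (Y : Set G) = ⊥ → Y ≤ centralizer (R : Set G) := by
    intro Y hYA hYc hYf
    have hYR : Y ≤ normalizer (R : Set G) := hYA.trans hAR
    have hYp : IsPGroup p Y := e.isPGroup.to_le hYA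
    set T : Subgroup G := ⁅R, Y⁆ with hT
    have hTR : T ≤ R := commutator_le_of_le_normalizer R Y hYR
    have hTM : T ≤ M := hTR.trans hRM
    -- `T` centralizes `M_σ`
    have hT1 : T ≤ centralizer ((sigmaCore M : Subgroup G) : Set G) := by
      rw [hT, commutator_le]
      intro g hg y hy
      by_cases hy1 : y = 1
      · rw [hy1, commutatorElement_def]; simp
      have hzy : zpowers y = Y := zpowers_eq_of_card_prime hYc hy hy1
      rw [commutatorElement_def]
      refine r1 hG.1 hnil hrp hR (hRM.trans hMσn) hrMσ hpMσ (e.elem.2 y (hYA hy))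
        (hMσn (e.le (hYA hy))) (hYR hy) ?_ g hg
      intro v hv hyv
      have : v ∈ sigmaCore M ⊓ centralizer (Y : Set G) := by
        refine ⟨hv, ?_⟩
        rw [← hzy]
        show v ∈ centralizer ((zpowers y : Subgroup G) : Set G)
        rw [mem_centralizer_iff]
        rintro w ⟨k, rfl⟩
        have hc : Commute y v := hyv
        exact (hc.zpow_left k).eq
      rw [hYf, mem_bot] at this
      exact this
    -- `T` centralizes `O_q(M)` for `q ∉ σ(M)`
    have hT2 : ∀ (q : ℕ) [Fact q.Prime], q ∉ sigma M →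
        T ≤ centralizer ((oq q M : Subgroup G) : Set G) := by
      intro q _ hqσ
      rw [hT, commutator_le]
      intro g hg y hy
      rw [commutatorElement_def, mem_centralizer_iff]
      intro z hz
      have hyz : ∀ z ∈ oq q M, z * y = y * z := fun z hz =>
        mem_centralizer_iff.mp (hAoq q hqσ (hYA hy)) z hz
      have hgz : g⁻¹ * z * g ∈ oq q M := by
        have := (mem_normalizer_iff.mp (oq_normal q M (M.inv_mem (hRM hg)))) z
        rw [inv_inv] at this
        exact this.mp hz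
      have h1 := hyz _ hgz
      have h2 := hyz z hz
      have h3 : z * y⁻¹ = y⁻¹ * z := by
        have : y⁻¹ * (z * y) * y⁻¹ = y⁻¹ * (y * z) * y⁻¹ := by rw [h2]
        simpa [mul_assoc] using this.symm
      calc z * (g * y * g⁻¹ * y⁻¹) = g * ((g⁻¹ * z * g) * y) * g⁻¹ * y⁻¹ := by group
        _ = g * (y * (g⁻¹ * z * g)) * g⁻¹ * y⁻¹ := by rw [h1]
        _ = g * y * g⁻¹ * (z * y⁻¹) := by group
        _ = g * y * g⁻¹ * (y⁻¹ * z) := by rw [h3]
        _ = g * y * g⁻¹ * y⁻¹ * z := by group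
    -- `T ≤ O_r(M)`
    have hT3 : T ≤ oq r M := by
      intro t ht
      have htM : t ∈ M := hTM ht
      have hcent : (⟨t, htM⟩ : ↥M) ∈
          centralizer ((fittingSubgroup ↥M : Subgroup ↥M) : Set ↥M) := by
        apply Cfsg.Agent.Lib.Helper32.FitDer.mem_centralizer_fitting_of_forall
        intro q
        haveI : Fact (q : ℕ).Prime := ⟨q.2⟩
        rw [mem_centralizer_iff]
        intro z hz
        apply Subtype.ext
        show (z : G) * t = t * (z : G)
        have hzq : (z : G) ∈ oq (q : ℕ) M := ⟨z, hz, rfl⟩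
        by_cases hqσ : (q : ℕ) ∈ sigma M
        · have h1 : oq (q : ℕ) M ≤ sigmaCore M :=
            le_sigmaCore_of_sigma hσ hqσ (oq_le _ M) (oq_isPGroup _ M)
          exact mem_centralizer_iff.mp (hT1 ht) _ (h1 hzq)
        · exact mem_centralizer_iff.mp (hT2 (q : ℕ) hqσ ht) _ hzq
      have hfit : (⟨t, htM⟩ : ↥M) ∈ fittingSubgroup ↥M :=
        Cfsg.Agent.Lib.Helper10.centralizer_fitting_le hcent
      obtain ⟨k, hk⟩ := (IsPGroup.iff_orderOf.mp hR) ⟨t, hTR ht⟩
      have hpow : (⟨t, htM⟩ : ↥M) ^ (r ^ k) = 1 := by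
        apply Subtype.ext
        show t ^ (r ^ k) = 1
        have : orderOf t = r ^ k := by rw [← hk, Subgroup.orderOf_mk]
        rw [← this]; exact pow_orderOf_eq_one t
      have := Cfsg.Agent.Lib.Helper21.bl_mem_pCore_of_mem_fitting hfit hpow
      exact ⟨⟨t, htM⟩, this, rfl⟩
    -- `Y` centralizes `T`
    have hT4 : T ≤ centralizer (Y : Set G) := by
      have h1 : A ≤ centralizer ((oq r M : Subgroup G) : Set G) := hAoq r hrσ
      intro t ht
      rw [mem_centralizer_iff]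
      intro y hy
      exact (mem_centralizer_iff.mp (h1 (hYA hy)) t (hT3 ht)).symm
    have hcop : (Nat.card Y).Coprime (Nat.card R) :=
      IsPGroup.coprime_card_of_ne p r hrp.symm Y R hYp hR
    have hYsolv : Group.IsSolvable ↥Y := by
      haveI : Group.IsSolvable ↥A := e.solvable hG
      exact Group.isSolvable_of_isSolvable_injective (Subgroup.inclusion_injective hYA)
    have h5 := commutator_commutator_eq Y R hYR hcop (Or.inl hYsolv)
    have h6 : ⁅T, Y⁆ = ⊥ := (commutator_eq_bot_iff_le_centralizer).mpr hT4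
    rw [← hT, h6] at h5
    have h7 : R ≤ centralizer (Y : Set G) :=
      (commutator_eq_bot_iff_le_centralizer).mp (hT ▸ h5.symm)
    exact Cfsg.Agent.Lib.Helper91.BG117.le_centralizer_symm h7
  have hA₁₂ : A₁ ⊔ A₂ = A :=
    Cfsg.Agent.Lib.Helper71.BG115.eq_of_two_lines e.card (sup_le hA₁ hA₂) le_sup_right le_sup_left
      hA₂c hA₁c hne
  rw [← hA₁₂]
  exact sup_le (main A₁ hA₁ hA₁c hf₁) (main A₂ hA₂ hA₂c hf₂)

theorem mem_normalizer_of_conj_le' {g : G} {H : Subgroup G}
    (h : ∀ x ∈ H, g * x * g⁻¹ ∈ H) : g ∈ normalizer (H : Set G) := by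
  rw [← cj_eq_self_iff]
  apply Subgroup.eq_of_le_of_card_ge
  · rintro _ ⟨x, hx, rfl⟩
    exact h x hx
  · rw [card_cj]

theorem mem_normalizer_sup {H K : Subgroup G} {x : G} (hH : x ∈ normalizer (H : Set G))
    (hK : x ∈ normalizer (K : Set G)) : x ∈ normalizer ((H ⊔ K : Subgroup G) : Set G) := by
  rw [← cj_eq_self_iff] at hH hK ⊢
  show (H ⊔ K).map _ = _
  rw [Subgroup.map_sup]
  exact congrArg₂ (· ⊔ ·) hH hK

/-- the image in `G` of a normal subgroup of `↥M` is normalized by `M` -/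
theorem le_normalizer_map_subtype {M : Subgroup G} {N : Subgroup ↥M} (hn : N.Normal) :
    M ≤ normalizer ((N.map M.subtype : Subgroup G) : Set G) := by
  intro m hm
  apply mem_normalizer_of_conj_le'
  rintro _ ⟨z', hz', rfl⟩
  exact ⟨⟨m, hm⟩ * z' * ⟨m, hm⟩⁻¹, hn.conj_mem z' hz' ⟨m, hm⟩, rfl⟩

/-- **B&G Theorem 11.7 from the key step** (`hstar`, stated for the subgroups `O_q(M)`). -/
theorem of_hstar_pCore (hG : IsMinSimpleOddOrder G) {M A₀ A : Subgroup G} {p : ℕ} [hp : Fact p.Prime]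
    (e : Exc M p A₀ A)
    (hstar : ∀ (q : ℕ) [Fact q.Prime], q ∉ sigma M → q ≠ p →
      A ≤ centralizer (((pCore q ↥M).map M.subtype : Subgroup G) : Set G)) :
    M ≤ normalizer ((sigmaCore M ⊔ A : Subgroup G) : Set G) := by
  have hM := e.coatom
  have hMtop : M ≠ ⊤ := hM.1
  have hσ : SigmaHallIn M := sigmaHallIn_of_coatom hG hM
  haveI hMsolv : Group.IsSolvable ↥M := isSolvable_of_ne_top hG hMtop
  -- a Sylow `p`-subgroup of `M` over `A`
  have hA' : IsPGroup p (A.subgroupOf M) := e.isPGroup.comap_subtype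
  obtain ⟨P', hP'⟩ := hA'.exists_le_sylow
  obtain ⟨hPM, hPp, hPi⟩ := sylow_map_facts M P'
  set P : Subgroup G := (P' : Subgroup ↥M).map M.subtype with hP
  have hAP : A ≤ P := by
    intro a ha
    exact ⟨⟨a, e.le ha⟩, hP' (by rw [mem_subgroupOf]; exact ha), rfl⟩
  obtain ⟨hPab, hPΩ⟩ := e.bg_11_5 hG hPp hPM hPi hAP
  have hMσn : M ≤ normalizer ((sigmaCore M : Subgroup G) : Set G) :=
    Cfsg.Agent.Lib.Helper24.BG.le_normalizer_sigmaCore M
  set Nn : Subgroup G := normalizer ((sigmaCore M ⊔ A : Subgroup G) : Set G) with hNn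
  have hnorm : ∀ m ∈ M, m ∈ normalizer (A : Set G) → m ∈ Nn := fun m hm hmA =>
    mem_normalizer_sup (hMσn hm) hmA
  -- (b) `O_{p'}(M) ≤ Nn`
  set X : Subgroup G := (pPrimeCore p ↥M).map M.subtype with hX
  have hXM : X ≤ M := map_subtype_le _
  have hXn : M ≤ normalizer (X : Set G) :=
    le_normalizer_map_subtype (Cfsg.Agent.Lib.Helper22.pPrimeCore_normal' p ↥M)
  have hXcard : Nat.card X = Nat.card (pPrimeCore p ↥M) :=
    Subgroup.card_map_of_injective M.subtype_injective
  have hXcop : (Nat.card X).Coprime p := by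
    rw [hXcard]; exact Cfsg.Agent.Lib.Helper63.pPrimeCore_card_coprime' p
  have hpX : ¬ p ∣ Nat.card X := fun hd =>
    hp.out.one_lt.ne' (Nat.dvd_one.mp (hXcop ▸ Nat.dvd_gcd hd dvd_rfl))
  have hAX : A ≤ normalizer (X : Set G) := e.le.trans hXn
  have hAXcop : (Nat.card A).Coprime (Nat.card X) := by
    rw [e.card]
    exact Nat.Coprime.pow_left 2 ((Nat.Prime.coprime_iff_not_dvd hp.out).mpr hpX)
  have hXNn : X ≤ Nn := by
    apply le_of_sylows
    intro s hs
    haveI : Fact s.Prime := ⟨hs⟩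
    obtain ⟨S, hS⟩ := exists_invariant_sylow (p := s) A X hAX hAXcop (Or.inl (e.solvable hG))
    obtain ⟨h1, h2, h3⟩ := sylow_map_facts X S
    refine ⟨_, ?_, h3⟩
    by_cases hsσ : s ∈ sigma M
    · exact (le_sigmaCore_of_sigma hσ hsσ (h1.trans hXM) h2).trans
        (le_sup_left.trans le_normalizer)
    · by_cases hsp : s = p
      · have : (S : Subgroup ↥X).map X.subtype = ⊥ :=
          HH.eq_bot_of_isPGroup_of_not_dvd _ X h2 h1 (hsp ▸ hpX)
        rw [this]; exact bot_le
      · have hc := step_a hG e hstar hsσ hsp h2 (h1.trans hXM) hS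
        intro x hx
        refine hnorm x (hXM (h1 hx)) ?_
        have : x ∈ centralizer (A : Set G) :=
          Cfsg.Agent.Lib.Helper91.BG117.le_centralizer_symm hc hx
        exact centralizer_le_normalizer _ this
  -- (c) `M = O_{p'}(M) N_M(P)`
  have hpl : PLengthLE p 1 ↥M := stmt1410 hG p M hMtop
  obtain ⟨-, hsup⟩ := plen_one_struct hpl P'
  intro m hm
  have hm' : (⟨m, hm⟩ : ↥M) ∈ pPrimeCore p ↥M ⊔ normalizer ((P' : Subgroup ↥M) : Set ↥M) := by
    rw [hsup]; exact mem_top _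
  have hm'' : m ∈ (pPrimeCore p ↥M ⊔ normalizer ((P' : Subgroup ↥M) : Set ↥M)).map M.subtype :=
    ⟨⟨m, hm⟩, hm', rfl⟩
  rw [Subgroup.map_sup] at hm''
  refine (sup_le hXNn ?_) hm''
  rintro _ ⟨n', hn', rfl⟩
  refine hnorm _ n'.2 ?_
  -- `n'` normalizes `P`, hence `A = Ω₁(P)`
  have hnP : ∀ x ∈ P, (n' : G) * x * (n' : G)⁻¹ ∈ P := by
    rintro _ ⟨x', hx', rfl⟩
    refine ⟨n' * x' * n'⁻¹, ?_, rfl⟩
    exact (mem_normalizer_iff.mp hn' x').mp hx'
  apply mem_normalizer_of_conj_le'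
  intro a ha
  refine hPΩ _ (hnP a (hAP ha)) ?_
  rw [conj_pow, e.elem.2 a ha]
  group

/-- **B&G Theorem 11.7 from the key step**, `hstar` stated for arbitrary normal `q`-subgroups. -/
theorem of_hstar (hG : IsMinSimpleOddOrder G) {M A₀ A : Subgroup G} {p : ℕ} [hp : Fact p.Prime]
    (e : Exc M p A₀ A)
    (hstar : ∀ (q : ℕ) [Fact q.Prime], q ∉ sigma M → q ≠ p → ∀ Q : Subgroup G, IsPGroup q Q →
      Q ≤ M → M ≤ normalizer (Q : Set G) → A ≤ centralizer (Q : Set G)) :
    M ≤ normalizer ((sigmaCore M ⊔ A : Subgroup G) : Set G) :=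
  of_hstar_pCore hG e (fun q _ hqσ hqp =>
    hstar q hqσ hqp (oq q M) (oq_isPGroup q M) (oq_le q M) (oq_normal q M))

/-- **B&G Theorem 11.7 from the key step**, `hstar` stated with `Cfsg.pCoreOf`. -/
theorem of_hstar_pCoreOf (hG : IsMinSimpleOddOrder G) {M A₀ A : Subgroup G} {p : ℕ}
    [hp : Fact p.Prime] (e : Exc M p A₀ A)
    (hstar : ∀ (q : ℕ) [Fact q.Prime], q ∉ sigma M → q ≠ p →
      A ≤ centralizer ((Cfsg.pCoreOf q M : Subgroup G) : Set G)) :
    M ≤ normalizer ((sigmaCore M ⊔ A : Subgroup G) : Set G) :=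
  of_hstar_pCore hG e (fun q _ hqσ hqp => hstar q hqσ hqp)

end Cfsg.Agent.Lib.Helper91.BG117R
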