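import Cfsg.Agent.Lib.Helper47.BG11b
import Cfsg.Agent.Lib.Helper96.BG103
import Cfsg.Agent.Lib.Helper24.Coprime
import Cfsg.Agent.Lib.Helper55.InvolSylow

/-!
# Bender–Glauberman Theorem 12.5 (assembly)

`bg125`: the statement of S1417, from the statement of S1416 (Proposition 12.4), S1408 (Corollary
10.7(a)) and the results of Section 11 on exceptional maximal subgroups (`Helper47.BG11.Exc`).
-/

set_option autoImplicit false

namespace Cfsg.Agent.Lib.Helper91.BG125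

open Subgroup Cfsg Cfsg.Agent.Lib.Helper33 Cfsg.Agent.Lib.Helper24 Cfsg.Agent.Lib.Helper32
open Cfsg.Agent.Lib.Helper24.BG Cfsg.Agent.Lib.Helper23 Cfsg.Agent.Lib.Helper63
open Cfsg.Agent.Lib.Helper47.BG11

universe u

variable {G : Type u} [Group G] [Finite G]

/-- statement of S1408 (B&G Corollary 10.7(a)) -/
def Stmt1408 (G : Type u) [Group G] : Prop :=
  ∀ (M : Subgroup G), IsCoatom M → ∀ (p : ℕ) [Fact p.Prime], p ∉ Cfsg.sigma M →
    Cfsg.PRankLE p 2 M → ¬ Cfsg.PRankLE p 1 M →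
    ¬ Cfsg.IsIdealPrime p G ∧ ∀ A : Subgroup G, A ≤ M → Cfsg.IsElementaryAbelian p A →
      Nat.card A = p ^ 2 → ∀ B : Subgroup G, Cfsg.IsElementaryAbelian p B → A ≤ B → B = A

/-- statement of S1416 (B&G Proposition 12.4) -/
def Stmt1416 (G : Type u) [Group G] : Prop :=
  ∀ (M : Subgroup G), IsCoatom M → ∀ (p : ℕ) [Fact p.Prime] (A : Subgroup G),
    (A ≤ M ∧ Cfsg.IsElementaryAbelian p A ∧ Nat.card A = p ^ 2) →
    Subgroup.centralizer (A : Set G) ≤ M ∧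
      ((∀ A₀ : Subgroup G, A₀ ≤ A → Nat.card A₀ = p →
          ¬ (Subgroup.normalizer (A₀ : Set G) ≤ M ∧
            ∀ L : Subgroup G, IsCoatom L → Subgroup.normalizer (A₀ : Set G) ≤ L → L = M)) →
        p ∈ Cfsg.sigma M ∧ Cfsg.alphaCore M = ⊥ ∧ Group.IsNilpotent (Cfsg.sigmaCore M))

/-- a maximal subgroup with `p ∉ σ(M)`, `r_p(M) = 2` is exceptional for every `A ∈ E_p^2(M)` -/
theorem exists_exc (h1408 : Stmt1408 G) (h1416 : Stmt1416 G) {M : Subgroup G} (hM : IsCoatom M)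
    {p : ℕ} [Fact p.Prime] (hpσ : p ∉ sigma M) (hr2 : PRankLE p 2 M) (hr1 : ¬ PRankLE p 1 M)
    {A : Subgroup G} (hA : A ≤ M ∧ IsElementaryAbelian p A ∧ Nat.card A = p ^ 2) :
    ∃ A₀ : Subgroup G, Exc M p A₀ A := by
  by_contra hno
  have h := (h1416 M hM p A hA).2 (by
    intro A₀ hA₀ hc hN
    exact hno ⟨A₀, ⟨hM, hpσ, hA.1, hA.2.1, hA.2.2, hA₀, hc, hN.1,
      (h1408 M hM p hpσ hr2 hr1).2 A hA.1 hA.2.1 hA.2.2⟩⟩)
  exact hpσ h.1

/-- B&G Theorem 11.5 in subgroup form: the Sylow `p`-subgroups of an exceptional `M` are abelian -/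
def Stmt115 (G : Type u) [Group G] : Prop :=
  ∀ {M A₀ A : Subgroup G} {p : ℕ} [Fact p.Prime], Exc M p A₀ A →
    ∀ P : Subgroup G, IsPGroup p P → P ≤ M → ¬ p ∣ P.relIndex M → ∀ a ∈ P, ∀ b ∈ P, a * b = b * a

/-- B&G Theorem 11.7: `M_σ A` is normal in an exceptional `M` -/
def Stmt117 (G : Type u) [Group G] : Prop :=
  ∀ {M A₀ A : Subgroup G} {p : ℕ} [Fact p.Prime], Exc M p A₀ A →
    M ≤ normalizer ((sigmaCore M ⊔ A : Subgroup G) : Set G)

section

variable {M A₀ A : Subgroup G} {p : ℕ} [hp : Fact p.Prime]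

/-- B&G Corollary 11.6(a): `A = Ω₁(P)` for an abelian Sylow `p`-subgroup `P ≥ A` of `M`. -/
theorem omega_eq (e : Exc M p A₀ A) {P : Subgroup G} (hAP : A ≤ P)
    (hc : ∀ a ∈ P, ∀ b ∈ P, a * b = b * a) {x : G} (hx : x ∈ P) : x ^ p = 1 ↔ x ∈ A := by
  constructor
  · intro hxp
    refine mem_of_maximal e.elem e.maxA ?_ hxp
    rw [mem_centralizer_iff]
    intro a ha
    exact hc a (hAP ha) x hx
  · intro hxA
    exact e.elem.2 x hxA

/-- B&G Corollary 11.6(c): some subgroup of order `p` of `A` acts fixed-point-freely on `M_σ`. -/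
theorem exists_fpf (hG : IsMinSimpleOddOrder G) (h4 : Stmt1404 G) (h10 : Stmt1410 G)
    (hσ : SigmaHallIn M) (h115 : Stmt115 G) (e : Exc M p A₀ A) :
    ∃ A₁ : Subgroup G, A₁ ≤ A ∧ Nat.card A₁ = p ∧
      sigmaCore M ⊓ centralizer (A₁ : Set G) = ⊥ := by
  obtain ⟨P, g, hPp, hPM, hPi, hAP, hg, hgM⟩ := e.exists_outer
  have hc := h115 e P hPp hPM hPi
  have hAg : A ≤ cj g M := e.le_cj_of_normalizer hPM hAP hg
  refine ⟨cj g A₀, ?_, by rw [card_cj, e.card₀], e.cor_11_2_b hG h4 h10 hσ hgM hAg⟩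
  intro x hx
  have hxP : x ∈ P := by
    have h1 : cj g A₀ ≤ cj g P := cj_mono (e.le₀.trans hAP)
    rw [cj_eq_self_iff.mpr hg] at h1
    exact h1 hx
  refine (omega_eq e hAP hc hxP).mp ?_
  obtain ⟨y, hy, rfl⟩ := mem_cj'.mp hx
  have hyp : y ^ p = 1 := e.elem.2 y (e.le₀ hy)
  rw [conj_pow, hyp, mul_one, mul_inv_cancel]

end

section

variable {M A₀ A : Subgroup G} {p : ℕ} [hp : Fact p.Prime]

open scoped commutatorElement in
/-- B&G Theorem 12.5(e): a maximal subgroup `M* ≠ M` containing `A` meets `M_σ` trivially. -/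
theorem clause_e (hG : IsMinSimpleOddOrder G) (h4 : Stmt1404 G) (h10 : Stmt1410 G)
    (hσ : ∀ L : Subgroup G, IsCoatom L → SigmaHallIn L)
    (hασ : ∀ L : Subgroup G, IsCoatom L → alpha L ⊆ sigma L)
    (h1408 : Stmt1408 G) (h1416 : Stmt1416 G) (h117 : Stmt117 G)
    (e : Exc M p A₀ A) {A₁ : Subgroup G} (hA₁ : A₁ ≤ A) (hA₁c : Nat.card A₁ = p)
    (hfpf : sigmaCore M ⊓ centralizer (A₁ : Set G) = ⊥)
    {Ms : Subgroup G} (hMs : IsCoatom Ms) (hne : Ms ≠ M) (hAMs : A ≤ Ms) :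
    sigmaCore M ⊓ Ms = ⊥ := by
  by_contra hD
  set D := sigmaCore M ⊓ Ms with hDdef
  have hDσ : D ≤ sigmaCore M := inf_le_left
  have hDMs : D ≤ Ms := inf_le_right
  have hAD : A ≤ normalizer (D : Set G) :=
    le_normalizer_inf e.le_normalizer_sigmaCore (hAMs.trans le_normalizer)
  have hint : sigmaCore Ms ⊓ sigmaCore M = ⊥ := by
    by_contra h
    exact hne (e.cor_11_4 hG h4 h10 (hσ M e.coatom) hMs hAMs h)
  -- the primes of `D` are not in `σ(M*)`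
  have hDq : ∀ q : ℕ, q.Prime → q ∣ Nat.card D → q ∉ sigma Ms := by
    intro q hq hqD hqs
    haveI : Fact q.Prime := ⟨hq⟩
    obtain ⟨x, hx⟩ := exists_prime_orderOf_dvd_card' (G := ↥D) q hqD
    have hxo : orderOf (x : G) = q := by rw [Subgroup.orderOf_coe]; exact hx
    have hzp : IsPGroup q (zpowers (x : G)) := by
      apply IsPGroup.of_card (n := 1)
      rw [Nat.card_zpowers, hxo, pow_one]
    have hzMs : zpowers (x : G) ≤ Ms := (zpowers_le).mpr (hDMs x.2)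
    have h1 : (x : G) ∈ sigmaCore Ms :=
      le_sigmaCore_of_sigma (hσ Ms hMs) hqs hzMs hzp (mem_zpowers _)
    have h2 : (x : G) ∈ sigmaCore Ms ⊓ sigmaCore M := ⟨h1, hDσ x.2⟩
    rw [hint, mem_bot] at h2
    rw [h2, orderOf_one] at hxo
    exact hq.one_lt.ne hxo
  -- `p ∉ σ(M*)`
  have hpMs : p ∉ sigma Ms := by
    intro hps
    have hA₁p : IsPGroup p A₁ := IsPGroup.of_card (n := 1) (by rw [hA₁c, pow_one])
    have hA₁σ : A₁ ≤ sigmaCore Ms :=
      le_sigmaCore_of_sigma (hσ Ms hMs) hps (hA₁.trans hAMs) hA₁p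
    have hA₁D : A₁ ≤ normalizer (D : Set G) := hA₁.trans hAD
    have hcop : (Nat.card A₁).Coprime (Nat.card D) :=
      Nat.Coprime.coprime_dvd_left (Subgroup.card_dvd_of_le hA₁) (e.coprime_card hDσ)
    have hsol : Group.IsSolvable A₁ ∨ Group.IsSolvable D := by
      left
      have := hA₁p.isNilpotent
      infer_instance
    have hdec := commutator_sup_centralizer_eq A₁ D hA₁D hcop hsol
    have h1 : D ⊓ centralizer (A₁ : Set G) = ⊥ := by
      rw [eq_bot_iff, ← hfpf]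
      exact inf_le_inf_right _ hDσ
    have h2 : ⁅D, A₁⁆ = ⊥ := by
      rw [eq_bot_iff, ← hint]
      refine le_inf ?_ ((commutator_le_of_le_normalizer D A₁ hA₁D).trans hDσ)
      rw [commutator_le]
      intro d hd a ha
      have hn : d ∈ normalizer ((sigmaCore Ms : Subgroup G) : Set G) :=
        BG.le_normalizer_sigmaCore Ms (hDMs hd)
      rw [commutatorElement_def]
      exact mul_mem ((mem_normalizer_iff.mp hn a).mp (hA₁σ ha)) (inv_mem (hA₁σ ha))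
    apply hD
    rw [← hdec, h1, h2, bot_sup_eq]
  -- `M*` is exceptional
  have hr2 : PRankLE p 2 Ms := by
    by_contra h
    exact hpMs (hασ Ms hMs ⟨hp.out, h⟩)
  have hr1 : ¬ PRankLE p 1 Ms := by
    refine Cfsg.Agent.Lib.Helper96.BG103.not_pRankLE_of_le hAMs
      (fun x hx y hy => e.comm x hx y hy) e.elem.2 ?_
    rw [e.card, pow_one]
    have := hp.out.one_lt
    nlinarith
  obtain ⟨A₀s, es⟩ := exists_exc h1408 h1416 hMs hpMs hr2 hr1 ⟨hAMs, e.elem, e.card⟩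
  have hn := h117 es
  -- `D` has order prime to `|M*_σ A|`
  have hcop2 : (Nat.card D).Coprime (Nat.card (sigmaCore Ms ⊔ A : Subgroup G)) := by
    apply Nat.Coprime.symm
    refine Nat.Coprime.coprime_dvd_left (k := Nat.card A * Nat.card (sigmaCore Ms)) ?_ ?_
    · rw [sup_comm]
      exact Cfsg.Agent.Lib.Helper55.card_sup_dvd_mul_of_le_normalizer A (sigmaCore Ms)
        (hAMs.trans (BG.le_normalizer_sigmaCore Ms))
    · apply Nat.Coprime.mul_left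
      · exact e.coprime_card hDσ
      · apply Nat.coprime_of_dvd
        intro k hk hk1 hk2
        exact hDq k hk hk2 (mem_sigma_of_dvd_card_le (le_refl _) hk hk1)
  have hDA : D ≤ centralizer (A : Set G) := by
    intro d hd
    rw [mem_centralizer_iff]
    intro a ha
    have hc1 : d * a * d⁻¹ * a⁻¹ ∈ D := by
      have h1 : a * d⁻¹ * a⁻¹ ∈ D := (mem_normalizer_iff.mp (hAD ha) d⁻¹).mp (inv_mem hd)
      have h2 := mul_mem hd h1
      have e1 : d * (a * d⁻¹ * a⁻¹) = d * a * d⁻¹ * a⁻¹ := by group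
      rwa [e1] at h2
    have hc2 : d * a * d⁻¹ * a⁻¹ ∈ sigmaCore Ms ⊔ A := by
      have haS : a ∈ sigmaCore Ms ⊔ A := (le_sup_right : A ≤ _) ha
      have h1 := (mem_normalizer_iff.mp (hn (hDMs hd)) a).mp haS
      exact mul_mem h1 (inv_mem haS)
    have h3 : d * a * d⁻¹ * a⁻¹ ∈ D ⊓ (sigmaCore Ms ⊔ A) := ⟨hc1, hc2⟩
    rw [(Subgroup.disjoint_of_coprime_natCard hcop2).eq_bot, mem_bot] at h3
    have h4 : d * a * d⁻¹ = a := mul_inv_eq_one.mp h3
    have h5 : d * a = a * d := mul_inv_eq_iff_eq_mul.mp h4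
    exact h5.symm
  apply hD
  rw [eq_bot_iff, ← e.cor_11_6_b hG h10 (hσ M e.coatom)]
  exact le_inf hDσ hDA

end

/-- **B&G Theorem 12.5** (statement of S1417), from Proposition 12.4 and Section 11. -/
theorem bg125 (hG : IsMinSimpleOddOrder G) (h4 : Stmt1404 G) (h10 : Stmt1410 G)
    (hσ : ∀ L : Subgroup G, IsCoatom L → SigmaHallIn L)
    (hασ : ∀ L : Subgroup G, IsCoatom L → alpha L ⊆ sigma L)
    (h1408 : Stmt1408 G) (h1416 : Stmt1416 G) (h115 : Stmt115 G) (h117 : Stmt117 G)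
    (M : Subgroup G) (hM : IsCoatom M) (p : ℕ) [hp : Fact p.Prime] (hpτ : p ∈ Cfsg.tau2 M)
    (A : Subgroup G) (hA : (A ≤ M ∧ Cfsg.IsElementaryAbelian p A ∧ Nat.card A = p ^ 2)) :
    Group.IsNilpotent (Cfsg.sigmaCore M) ∧
      (∀ P : Sylow p M, IsMulCommutative (P : Subgroup M) ∧
        (A ≤ (P : Subgroup M).map M.subtype →
          (∀ x ∈ (P : Subgroup M).map M.subtype, x ^ p = 1 ↔ x ∈ A) ∧
          ¬ Subgroup.normalizer ((((P : Subgroup M).map M.subtype : Subgroup G)) : Set G) ≤ M)) ∧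
      M ≤ Subgroup.normalizer ((Cfsg.sigmaCore M ⊔ A : Subgroup G) : Set G) ∧
      Cfsg.sigmaCore M ⊓ Subgroup.centralizer (A : Set G) = ⊥ ∧
      (∀ Mstar : Subgroup G, IsCoatom Mstar → Mstar ≠ M → A ≤ Mstar →
        Cfsg.sigmaCore M ⊓ Mstar = ⊥) ∧
      ∃ A₁ : Subgroup G, A₁ ≤ A ∧ Nat.card A₁ = p ∧
        Cfsg.sigmaCore M ⊓ Subgroup.centralizer (A₁ : Set G) = ⊥ := by
  obtain ⟨_, hpσ, hr2, hr1⟩ := hpτ
  obtain ⟨A₀, e⟩ := exists_exc h1408 h1416 hM hpσ hr2 hr1 hA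
  obtain ⟨A₁, hA₁, hA₁c, hfpf⟩ := exists_fpf hG h4 h10 (hσ M hM) h115 e
  refine ⟨e.thm_11_3 hG h4 h10 (hσ M hM), ?_, h117 e, e.cor_11_6_b hG h10 (hσ M hM), ?_,
    ⟨A₁, hA₁, hA₁c, hfpf⟩⟩
  · intro P
    obtain ⟨h1, h2, h3⟩ := sylow_map_facts M P
    have hc := h115 e _ h2 h1 h3
    refine ⟨⟨⟨fun x y => ?_⟩⟩, fun hAP => ⟨fun x hx => omega_eq e hAP hc hx, fun hN => ?_⟩⟩
    · apply Subtype.ext
      apply Subtype.ext
      exact hc _ ⟨x.1, x.2, rfl⟩ _ ⟨y.1, y.2, rfl⟩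
    · exact hpσ ⟨hp.out, e.dvd_card, P, hN⟩
  · intro Ms hMs hne hAMs
    exact clause_e hG h4 h10 hσ hασ h1408 h1416 h117 e hA₁ hA₁c hfpf hMs hne hAMs

end Cfsg.Agent.Lib.Helper91.BG125
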