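import Mathlib
import Cfsg.Agent.Lib.Helper23.BetaMain
import Cfsg.Agent.Lib.Helper50.BG134A
import Cfsg.Agent.Lib.Helper50.BG156
import Cfsg.Agent.S1454
import Cfsg.Agent.S1350
import Cfsg.Agent.Lib.Helper2.BG157NIL
import Cfsg.Agent.Lib.Helper68.BG157L4f

/-!
# BG157-L4a: `|K| ∣ p - 1` when `O_p(M_σ)` is nonabelian of rank `≥ 3` (B&G 15.7, case (B5))
-/

set_option autoImplicit false

namespace Cfsg.Agent.Lib.Helper91.BG157

open Subgroup Cfsg

universe u

variable {G : Type u} [Group G] [Finite G]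

/-- `p`-elements of a nilpotent subgroup `H` lie in the image of `O_p(H)`. -/
theorem l4a_mem_map_pCore {H : Subgroup G} (hnil : Group.IsNilpotent ↥H) (p : ℕ) [Fact p.Prime]
    {y : G} (hy : y ∈ H) (hyp : ∃ n : ℕ, y ^ p ^ n = 1) :
    y ∈ (pCore p ↥H).map H.subtype := by
  obtain ⟨n, hn⟩ := hyp
  refine ⟨⟨y, hy⟩, ?_, rfl⟩
  apply (nil_facts p hnil).2.2.2.2.2.2
  exact ⟨n, Subtype.ext (by simpa using hn)⟩

/-- `IsMulCommutative` transported along an injective homomorphism. -/
theorem l4a_comm_of_injective {A B : Type*} [Group A] [Group B] (f : A →* B)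
    (hf : Function.Injective f) (h : IsMulCommutative B) : IsMulCommutative A := by
  refine ⟨⟨fun a b => hf ?_⟩⟩
  rw [map_mul, map_mul]
  exact h.is_comm.comm (f a) (f b)

theorem K_card_of_rank_ge_three (hG : IsMinSimpleOddOrder G) {M K U : Subgroup G} (hM : IsCoatom M)
    (hKU : IsSigmaDecomposition M K U) (hK1 : K ≠ ⊥) (hU : U = ⊥)
    (hnil : Group.IsNilpotent ↥(sigmaCore M)) (p : ℕ) [Fact p.Prime] (hpβ : p ∉ beta M)
    (hPna : ¬ IsMulCommutative ↥(pCore p ↥(sigmaCore M)))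
    (hr : ¬ PRankLE p 2 ↥(pCore p ↥(sigmaCore M))) :
    Nat.card K ∣ p - 1 := by
  have hpp : p.Prime := Fact.out
  set H := sigmaCore M with hH
  set Q := pCore p ↥H with hQ
  set P := Q.map H.subtype with hP
  have hinj : Function.Injective H.subtype := H.subtype_injective
  have hHM : H ≤ M := by rw [hH]; unfold sigmaCore; exact Subgroup.map_subtype_le _
  have hPH : P ≤ H := Subgroup.map_subtype_le _
  have hPM : P ≤ M := hPH.trans hHM
  have hfacts := nil_facts p hnil
  have hQp : IsPGroup p ↥Q := hfacts.1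
  have hPp : IsPGroup p ↥P := hQp.map H.subtype
  -- the equivalence `Q ≃* P`
  let e : ↥Q ≃* ↥P := Q.equivMapOfInjective H.subtype hinj
  have hPna' : ¬ IsMulCommutative ↥P := fun h =>
    hPna (l4a_comm_of_injective e.toMonoidHom e.injective h)
  have hr' : ¬ PRankLE p 2 ↥P := fun h =>
    hr (Cfsg.Agent.Lib.Helper63.BG10.pRankLE_of_injective e.toMonoidHom e.injective h)
  -- `K` normalizes `P`
  have hS50 := (Cfsg.Agent.S1350.result hG M hM).1
  have hKM : K ≤ M := hKU.hall.1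
  have hMN := Cfsg.Agent.Lib.Helper24.BG.le_normalizer_sigmaCore M
  have hKP : K ≤ normalizer (P : Set G) := by
    apply Cfsg.Agent.Lib.Helper50.BG156.le_normalizer_of_conj
    intro k hk x hx
    have hxH : x ∈ H := hPH hx
    have hkx : k * x * k⁻¹ ∈ H := ((Subgroup.mem_normalizer_iff.1 (hMN (hKM hk))) x).1 hxH
    apply l4a_mem_map_pCore hnil p hkx
    obtain ⟨n, hn⟩ := hPp ⟨x, hx⟩
    refine ⟨n, ?_⟩
    have hn' : x ^ p ^ n = 1 := by simpa using congrArg Subtype.val hn
    rw [conj_pow, hn', mul_one, mul_inv_cancel]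
  -- `p ∈ σ(M)`
  have hQne : Q ≠ ⊥ := by
    intro h
    apply hPna
    rw [h]
    exact ⟨⟨fun a b => Subsingleton.elim _ _⟩⟩
  have hpQ : p ∣ Nat.card ↥Q := by
    obtain ⟨n, hn⟩ := hQp.exists_card_eq
    rw [hn]
    rcases n with _ | n
    · exfalso; apply hQne; rw [pow_zero] at hn; exact Subgroup.card_eq_one.1 hn
    · exact dvd_pow_self p (Nat.succ_ne_zero n)
  have hpH : p ∣ Nat.card ↥H := hpQ.trans (Subgroup.card_subgroup_dvd_card Q)
  have hpσ : p ∈ sigma M := hS50.2.1 p hpp hpH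
  -- `P.subgroupOf M` is a Sylow `p`-subgroup of `M`
  have hidx : ¬ p ∣ (P.subgroupOf M).index := by
    change ¬ p ∣ P.relIndex M
    rw [← Subgroup.relIndex_mul_relIndex P H M hPH hHM]
    intro h
    rcases (Nat.Prime.dvd_mul hpp).1 h with h | h
    · apply hfacts.2.1
      have : P.subgroupOf H = Q := by
        rw [hP]
        exact Subgroup.comap_map_eq_self_of_injective hinj Q
      change p ∣ (P.subgroupOf H).index at h
      rwa [this] at h
    · exact hS50.2.2 p hpp hpσ h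
  have hPMp : IsPGroup p ↥(P.subgroupOf M) :=
    hPp.comap_of_injective M.subtype M.subtype_injective
  let S : Sylow p ↥M := hPMp.toSylow hidx
  have hnar : IsNarrow p ↥(S : Subgroup ↥M) :=
    Cfsg.Agent.Lib.Helper23.Beta.sylow_isNarrow hG (Cfsg.Agent.Lib.Helper50.BG134.uniqStmt hG) hM hpβ S
  have hnarP : IsNarrow p ↥P :=
    Cfsg.Agent.Lib.Helper23.Beta.isNarrow_of_mulEquiv p (Subgroup.subgroupOfEquivOfLe hPM) hnar
  -- odd order
  have hodd : Odd (Nat.card G) := hG.1
  have hp2 : p ≠ 2 := by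
    rintro rfl
    have h2 : 2 ∣ Nat.card G := hpH.trans (Subgroup.card_subgroup_dvd_card H)
    exact (Nat.not_even_iff_odd.2 hodd) (even_iff_two_dvd.2 h2)
  have hKodd : Odd (Nat.card ↥K) := Odd.of_dvd_nat hodd (Subgroup.card_subgroup_dvd_card K)
  have := hKU.cyclic
  have hKsolv : Group.IsSolvable ↥K := by
    let _ : CommGroup ↥K := IsCyclic.commGroup
    infer_instance
  have hfaith : K ⊓ centralizer (P : Set G) = ⊥ :=
    K_faithful hG hM hKU hK1 hU P hPH hPna'
  have h54 := (Cfsg.Agent.S1454.result p hp2 P K hPp hnarP hKP hKsolv hKodd hfaith).2.1 hr'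
  obtain ⟨g, hg⟩ := hKU.cyclic.exists_generator
  have hgo : orderOf (g : G) = Nat.card ↥K := by
    rw [Subgroup.orderOf_coe]
    exact orderOf_eq_card_of_forall_mem_zpowers hg
  have hcop : (Nat.card ↥K).Coprime p := by
    rw [Nat.coprime_comm, Nat.Prime.coprime_iff_not_dvd hpp]
    intro h
    exact (hKU.hall.2.1 p hpp h).2.2.1 hpσ
  have := h54 (g : G) g.2 (by rw [hgo]; exact hcop)
  rwa [hgo] at this

end Cfsg.Agent.Lib.Helper91.BG157
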