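import Mathlib
import Cfsg.Agent.S1355
import Cfsg.Agent.S1365
import Cfsg.Agent.Lib.Helper30.BG1390B
import Cfsg.Agent.Lib.Helper10.BG145a

set_option autoImplicit false

namespace Cfsg.Agent.Lib.Helper91.BG157bak

open Subgroup Cfsg

universe u

variable {G : Type u} [Group G] [Finite G]

theorem of_typeV (hG : IsMinSimpleOddOrder G) {M K U : Subgroup G} (hM : IsCoatom M)
    (hKU : IsSigmaDecomposition M K U) (h : IsOfTypeV M) :
    K ≠ ⊥ ∧ U = ⊥ ∧ fittingHallOf M = sigmaCore M := by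
  obtain ⟨W₁, U', W₂, hP, hU', -⟩ := h
  subst hU'
  have hM'F : ⁅M, M⁆ ≤ fittingHallOf M := by
    intro m hm
    obtain ⟨a, ha, b, hb, rfl⟩ := hP.U_compl.2.2.2 m hm
    rw [Subgroup.mem_bot] at hb
    rw [hb, mul_one]
    exact ha
  have hFσ : fittingHallOf M ≤ sigmaCore M :=
    Cfsg.Agent.Lib.Helper10.BG145.fittingHallOf_le_sigmaCore hG hM
  have hσM' : sigmaCore M ≤ ⁅M, M⁆ := (Cfsg.Agent.S1355.result hG M hM).2.2.1
  have hF : fittingHallOf M = sigmaCore M := le_antisymm hFσ (hσM'.trans hM'F)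
  obtain ⟨q, hq⟩ := Cfsg.Agent.Lib.Helper30.BG1390.typeP_kappa_nonempty hG hM hP
  have hqK : q ∣ Nat.card K := Cfsg.Agent.Lib.Helper30.BG1390.hallKappa_ne_bot hKU.hall hq
  have hK1 : K ≠ ⊥ := by
    intro hK
    rw [hK, Subgroup.card_bot] at hqK
    exact hq.1.one_lt.ne' (Nat.dvd_one.1 hqK)
  refine ⟨hK1, ?_, hF⟩
  have h65 := (Cfsg.Agent.S1365.result hG M hM K U hKU hK1).1
  have hUσ : U ≤ sigmaCore M := by
    calc U ≤ U ⊔ sigmaCore M := le_sup_left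
      _ = ⁅M, M⁆ := h65.symm
      _ ≤ fittingHallOf M := hM'F
      _ ≤ sigmaCore M := hFσ
  have hdisj := hKU.compl.2.2.1
  rw [eq_bot_iff, ← hdisj]
  exact le_inf le_rfl (hUσ.trans le_sup_right)

end Cfsg.Agent.Lib.Helper91.BG157bak
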