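import Mathlib
import Cfsg.Agent.Lib.Helper17.PGroupNorm

set_option autoImplicit false

namespace Cfsg.Agent.Lib.Helper91

section chains

open scoped Classical in
/-- the alternating sum of `(-1)^{|c|}` over the chains `c` inside a finite set with a least
element vanishes -/
theorem sum_neg_one_pow_card_chains_eq_zero {α : Type*} [PartialOrder α] (L : Finset α) (m : α)
    (hm : m ∈ L) (hle : ∀ x ∈ L, m ≤ x) :
    ∑ c ∈ L.powerset.filter (fun c : Finset α => IsChain (· ≤ ·) (c : Set α)), (-1 : ℤ) ^ c.card = 0 := by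
  refine Finset.sum_involution (fun c _ => if m ∈ c then c.erase m else insert m c) ?_ ?_ ?_ ?_
  · intro c hc
    by_cases hmc : m ∈ c
    · simp only [hmc, if_true]
      have h1 : c.card = (c.erase m).card + 1 := by
        rw [Finset.card_erase_of_mem hmc]
        have : 0 < c.card := Finset.card_pos.mpr ⟨m, hmc⟩
        omega
      rw [h1, pow_succ]; ring
    · simp only [hmc, if_false]
      rw [Finset.card_insert_of_notMem hmc, pow_succ]; ring
  · intro c hc _
    by_cases hmc : m ∈ c
    · simp only [hmc, if_true]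
      intro h
      have : m ∈ c.erase m := by rw [h]; exact hmc
      exact (Finset.notMem_erase m c) this
    · simp only [hmc, if_false]
      intro h
      apply hmc
      rw [← h]; exact Finset.mem_insert_self m c
  · intro c hc
    rw [Finset.mem_filter, Finset.mem_powerset] at hc ⊢
    by_cases hmc : m ∈ c
    · simp only [hmc, if_true]
      refine ⟨(Finset.erase_subset m c).trans hc.1, ?_⟩
      exact hc.2.mono (by simp)
    · simp only [hmc, if_false]
      refine ⟨Finset.insert_subset hm hc.1, ?_⟩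
      rw [Finset.coe_insert]
      apply hc.2.insert
      intro b hb _
      left
      exact hle b (hc.1 hb)
  · intro c hc
    by_cases hmc : m ∈ c
    · simp only [hmc, if_true, Finset.notMem_erase, if_false]
      exact Finset.insert_erase hmc
    · simp only [hmc, if_false, Finset.mem_insert_self, if_true]
      exact Finset.erase_insert hmc

open scoped Classical in
theorem sum_neg_one_pow_card_chains_empty {α : Type*} [PartialOrder α] :
    ∑ c ∈ (∅ : Finset α).powerset.filter (fun c : Finset α => IsChain (· ≤ ·) (c : Set α)), (-1 : ℤ) ^ c.card = 1 := by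
  have h : (∅ : Finset α).powerset.filter (fun c : Finset α => IsChain (· ≤ ·) (c : Set α)) = {∅} := by
    ext c
    simp only [Finset.powerset_empty, Finset.mem_filter, Finset.mem_singleton]
    constructor
    · rintro ⟨h, _⟩; exact h
    · rintro rfl; exact ⟨rfl, by simp⟩
  rw [h]
  simp

end chains

section sylin

variable {G : Type*} [Group G]

/-- `T` is a Sylow `p`-subgroup of the subgroup `N` (everything inside `G`) -/
def IsSylIn (p : ℕ) (T N : Subgroup G) : Prop :=
  T ≤ N ∧ IsPGroup p T ∧ ∀ R : Subgroup G, IsPGroup p R → T ≤ R → R ≤ N → R = T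

theorem IsSylIn.le {p : ℕ} {T N : Subgroup G} (h : IsSylIn p T N) : T ≤ N := h.1

theorem IsSylIn.isPGroup {p : ℕ} {T N : Subgroup G} (h : IsSylIn p T N) : IsPGroup p T := h.2.1

theorem IsSylIn.mono {p : ℕ} {T N M : Subgroup G} (h : IsSylIn p T N) (hTM : T ≤ M) (hMN : M ≤ N) :
    IsSylIn p T M :=
  ⟨hTM, h.2.1, fun R hR hTR hRM => h.2.2 R hR hTR (hRM.trans hMN)⟩

/-- a normal `p`-subgroup of `N` lies in every Sylow `p`-subgroup of `N` -/
theorem IsSylIn.normal_le {p : ℕ} {T N R : Subgroup G} (h : IsSylIn p T N) (hR : IsPGroup p R)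
    (hRN : R ≤ N) (hN : N ≤ Subgroup.normalizer (R : Set G)) : R ≤ T := by
  have h1 : IsPGroup p ↥(T ⊔ R) := IsPGroup.to_sup_of_normal_right' h.2.1 hR (h.1.trans hN)
  have h2 := h.2.2 (T ⊔ R) h1 le_sup_left (sup_le h.1 hRN)
  rw [← h2]
  exact le_sup_right

theorem IsSylIn.of_inf_normalizer [Finite G] {p : ℕ} [Fact p.Prime] {T N : Subgroup G}
    (h : IsSylIn p T (N ⊓ Subgroup.normalizer (T : Set G))) : IsSylIn p T N := by
  refine ⟨h.1.trans inf_le_left, h.2.1, ?_⟩
  intro R hR hTR hRN
  by_contra hne
  have hlt : T < R := lt_of_le_of_ne hTR (fun e => hne e.symm)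
  have h1 := Helper17.lt_inf_normalizer_of_lt R T hR hlt
  have h2 := h.2.2 (R ⊓ Subgroup.normalizer (T : Set G)) (hR.to_le inf_le_left) h1.le
    (inf_le_inf_right _ hRN)
  exact h1.ne h2.symm

theorem isSylIn_top_iff [Finite G] {p : ℕ} [Fact p.Prime] {T : Subgroup G} :
    IsSylIn p T ⊤ ↔ ∃ Q : Sylow p G, (Q : Subgroup G) = T := by
  constructor
  · intro h
    obtain ⟨Q, hQ⟩ := h.2.1.exists_le_sylow
    exact ⟨Q, h.2.2 Q Q.isPGroup' hQ le_top⟩
  · rintro ⟨Q, rfl⟩
    exact ⟨le_top, Q.isPGroup', fun R hR hQR _ => (Q.is_maximal' hR hQR)⟩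

/-- an element normalizing each member of a finite family normalizes the intersection -/
theorem mem_normalizer_finset_inf {ι : Type*} (s : Finset ι) (f : ι → Subgroup G) {g : G}
    (h : ∀ i ∈ s, g ∈ Subgroup.normalizer ((f i : Subgroup G) : Set G)) :
    g ∈ Subgroup.normalizer ((s.inf f : Subgroup G) : Set G) := by
  rw [Subgroup.mem_normalizer_iff]
  intro x
  rw [Finset.inf_eq_iInf]
  simp only [Subgroup.mem_iInf]
  constructor
  · intro hx i hi
    exact (Subgroup.mem_normalizer_iff.mp (h i hi) x).mp (hx i hi)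
  · intro hx i hi
    exact (Subgroup.mem_normalizer_iff.mp (h i hi) x).mpr (hx i hi)

theorem mem_finset_inf_iff {ι : Type*} (s : Finset ι) (f : ι → Subgroup G) {g : G} :
    g ∈ s.inf f ↔ ∀ i ∈ s, g ∈ f i := by
  rw [Finset.inf_eq_iInf]
  simp only [Subgroup.mem_iInf]

theorem mem_normalizer_inf {A B : Subgroup G} {g : G}
    (hA : g ∈ Subgroup.normalizer (A : Set G)) (hB : g ∈ Subgroup.normalizer (B : Set G)) :
    g ∈ Subgroup.normalizer ((A ⊓ B : Subgroup G) : Set G) := by
  rw [Subgroup.mem_normalizer_iff] at hA hB ⊢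
  intro x
  simp only [Subgroup.mem_inf]
  rw [hA x, hB x]

/-- in a finite `p`-group `T`, a proper subgroup `W` normalized by `g` (which also normalizes `T`)
lies in a proper normal `g`-invariant subgroup of `T` -/
theorem exists_normal_invariant_lt [Finite G] {p : ℕ} [Fact p.Prime] {T : Subgroup G}
    (hT : IsPGroup p T) {g : G} (hgT : g ∈ Subgroup.normalizer (T : Set G)) :
    ∀ (n : ℕ) (W : Subgroup G), Nat.card T - Nat.card W = n → W < T →
      g ∈ Subgroup.normalizer (W : Set G) →
      ∃ V : Subgroup G, W ≤ V ∧ V < T ∧ T ≤ Subgroup.normalizer (V : Set G) ∧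
        g ∈ Subgroup.normalizer (V : Set G) := by
  intro n
  induction n using Nat.strong_induction_on with
  | _ n ih =>
    intro W hn hWT hgW
    have h1 := Helper17.lt_inf_normalizer_of_lt T W hT hWT
    have h1c := Helper17.card_lt_card_inf_normalizer T W hT hWT
    by_cases hN : T ⊓ Subgroup.normalizer (W : Set G) = T
    · refine ⟨W, le_rfl, hWT, ?_, hgW⟩
      rw [← hN]; exact inf_le_right
    · have hlt : T ⊓ Subgroup.normalizer (W : Set G) < T := lt_of_le_of_ne inf_le_left hN
      have hg' : g ∈ Subgroup.normalizer ((T ⊓ Subgroup.normalizer (W : Set G) : Subgroup G) : Set G) :=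
        mem_normalizer_inf hgT (Subgroup.le_normalizer hgW)
      have hcard : Nat.card ↥(T ⊓ Subgroup.normalizer (W : Set G) : Subgroup G) ≤ Nat.card T :=
        Nat.le_of_dvd Nat.card_pos (Subgroup.card_dvd_of_le inf_le_left)
      have hcardW : Nat.card W < Nat.card T := lt_of_lt_of_le h1c hcard
      obtain ⟨V, hV1, hV2, hV3, hV4⟩ := ih (Nat.card T - Nat.card ↥(T ⊓ Subgroup.normalizer (W : Set G) : Subgroup G))
        (by omega) _ rfl hlt hg'
      exact ⟨V, h1.le.trans hV1, hV2, hV3, hV4⟩

/-- the (classical) `Fintype` structure on the subgroups of a finite group, used for the sums below -/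
@[instance_reducible] noncomputable def casoloFintypeSubgroup (G : Type*) [Group G] [Finite G] : Fintype (Subgroup G) :=
  Fintype.ofFinite _

attribute [local instance] casoloFintypeSubgroup

theorem isSylIn_map_subtype [Finite G] {p : ℕ} [Fact p.Prime] (N : Subgroup G) (Q : Sylow p ↥N) :
    IsSylIn p ((Q : Subgroup ↥N).map N.subtype) N := by
  refine ⟨Subgroup.map_subtype_le _, Q.isPGroup'.map _, ?_⟩
  intro R hR hQR hRN
  have h1 : IsPGroup p (R.subgroupOf N) := hR.comap_subtype
  have h2 : (Q : Subgroup ↥N) ≤ R.subgroupOf N := by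
    intro x hx
    rw [Subgroup.mem_subgroupOf]
    exact hQR ⟨x, hx, rfl⟩
  have h3 := Q.is_maximal' h1 h2
  rw [← h3, Subgroup.subgroupOf_map_subtype]
  exact (inf_eq_left.mpr hRN).symm

theorem IsSylIn.exists_sylow [Finite G] {p : ℕ} [Fact p.Prime] {T N : Subgroup G} (h : IsSylIn p T N) :
    ∃ Q : Sylow p ↥N, (Q : Subgroup ↥N).map N.subtype = T := by
  have hmax : ∀ {R' : Subgroup ↥N}, IsPGroup p R' → T.subgroupOf N ≤ R' → R' = T.subgroupOf N := by
    intro R' hR' hle
    have h1 : T ≤ R'.map N.subtype := by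
      intro x hx
      exact ⟨⟨x, h.1 hx⟩, hle (Subgroup.mem_subgroupOf.mpr hx), rfl⟩
    have h2 := h.2.2 (R'.map N.subtype) (hR'.map _) h1 (Subgroup.map_subtype_le _)
    rw [← h2]
    exact (Subgroup.comap_map_eq_self_of_injective N.subtype_injective R').symm
  refine ⟨⟨T.subgroupOf N, h.2.1.comap_subtype, hmax⟩, ?_⟩
  show (T.subgroupOf N).map N.subtype = T
  rw [Subgroup.subgroupOf_map_subtype]
  exact inf_eq_left.mpr h.1

open scoped Classical in
/-- Sylow's counting theorem in the form: the orders of the normalizers in `N` of the Sylow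
`p`-subgroups of `N` add up to `|N|` -/
theorem sum_card_inf_normalizer_sylIn [Finite G] (p : ℕ) [Fact p.Prime] (N : Subgroup G) :
    ∑ T ∈ Finset.univ.filter (fun T : Subgroup G => IsSylIn p T N),
      Nat.card ↥(N ⊓ Subgroup.normalizer (T : Set G) : Subgroup G) = Nat.card N := by
  letI : Fintype (Sylow p ↥N) := Fintype.ofFinite _
  have himg : Finset.univ.filter (fun T : Subgroup G => IsSylIn p T N) =
      (Finset.univ : Finset (Sylow p ↥N)).image (fun Q : Sylow p ↥N => (Q : Subgroup ↥N).map N.subtype) := by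
    ext T
    simp only [Finset.mem_filter, Finset.mem_univ, true_and, Finset.mem_image]
    constructor
    · intro h
      exact h.exists_sylow
    · rintro ⟨Q, rfl⟩
      exact isSylIn_map_subtype N Q
  rw [himg, Finset.sum_image]
  · have hterm : ∀ Q : Sylow p ↥N,
        Nat.card ↥(N ⊓ Subgroup.normalizer (((Q : Subgroup ↥N).map N.subtype : Subgroup G) : Set G) : Subgroup G)
          * Nat.card (Sylow p ↥N) = Nat.card N := by
      intro Q
      have h1 : (Subgroup.normalizer (((Q : Subgroup ↥N).map N.subtype : Subgroup G) : Set G)).subgroupOf N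
          = Subgroup.normalizer ((Q : Subgroup ↥N) : Set ↥N) := by
        rw [Subgroup.subgroupOf_normalizer_eq (Subgroup.map_subtype_le _)]
        congr 2
        exact Subgroup.comap_map_eq_self_of_injective N.subtype_injective _
      have h2 : Nat.card ↥(N ⊓ Subgroup.normalizer (((Q : Subgroup ↥N).map N.subtype : Subgroup G) : Set G) : Subgroup G)
          = Nat.card ↥(Subgroup.normalizer ((Q : Subgroup ↥N) : Set ↥N)) := by
        rw [← h1, ← Helper17.card_map_subtype N, Subgroup.subgroupOf_map_subtype, inf_comm]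
      rw [h2, Sylow.card_eq_index_normalizer Q]
      exact Subgroup.card_mul_index _
    have hpos : 0 < Nat.card (Sylow p ↥N) := Nat.card_pos
    have hsum : (∑ Q : Sylow p ↥N,
        Nat.card ↥(N ⊓ Subgroup.normalizer (((Q : Subgroup ↥N).map N.subtype : Subgroup G) : Set G) : Subgroup G))
          * Nat.card (Sylow p ↥N) = Nat.card N * Nat.card (Sylow p ↥N) := by
      rw [Finset.sum_mul]
      rw [Finset.sum_congr rfl (fun Q _ => hterm Q)]
      rw [Finset.sum_const, Finset.card_univ, ← Nat.card_eq_fintype_card (α := Sylow p ↥N), smul_eq_mul, mul_comm]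
    exact Nat.eq_of_mul_eq_mul_right hpos hsum
  · intro Q₁ _ Q₂ _ h
    apply Sylow.ext
    exact Subgroup.map_injective N.subtype_injective h

end sylin

end Cfsg.Agent.Lib.Helper91
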