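import Mathlib
import Cfsg.Agent.Lib.Helper91.CasoloA

set_option autoImplicit false

namespace Cfsg.Agent.Lib.Helper91

section casolo

variable {G : Type*} [Group G] [Finite G]

attribute [local instance] casoloFintypeSubgroup

open scoped Classical

/-- normalizer of the chain with top `T` and lower part `c` -/
def chainNrm (T : Subgroup G) (c : Finset (Subgroup G)) : Subgroup G :=
  Subgroup.normalizer (T : Set G) ⊓ c.inf (fun V => Subgroup.normalizer (V : Set G))

theorem mem_chainNrm {T : Subgroup G} {c : Finset (Subgroup G)} {g : G} :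
    g ∈ chainNrm T c ↔ g ∈ Subgroup.normalizer (T : Set G) ∧
      ∀ V ∈ c, g ∈ Subgroup.normalizer (V : Set G) := by
  unfold chainNrm
  rw [Subgroup.mem_inf, mem_finset_inf_iff]

/-- the subgroups that may occur below the top `T` of a normal chain above `H` -/
noncomputable def lowerSet (H T : Subgroup G) : Finset (Subgroup G) :=
  Finset.univ.filter (fun V => H ≤ V ∧ V < T ∧ T ≤ Subgroup.normalizer (V : Set G))

theorem mem_lowerSet {H T V : Subgroup G} :
    V ∈ lowerSet H T ↔ H ≤ V ∧ V < T ∧ T ≤ Subgroup.normalizer (V : Set G) := by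
  unfold lowerSet
  simp

/-- `(T, c)` is a normal chain of `p`-subgroups above `H` with top `T` -/
def IsNChain (p : ℕ) (H T : Subgroup G) (c : Finset (Subgroup G)) : Prop :=
  IsPGroup p T ∧ H ≤ T ∧ c ⊆ lowerSet H T ∧ IsChain (· ≤ ·) (c : Set (Subgroup G))

noncomputable def nchains (p : ℕ) (H : Subgroup G) : Finset (Subgroup G × Finset (Subgroup G)) :=
  Finset.univ.filter (fun x => IsNChain p H x.1 x.2)

theorem mem_nchains {p : ℕ} {H : Subgroup G} {x : Subgroup G × Finset (Subgroup G)} :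
    x ∈ nchains p H ↔ IsNChain p H x.1 x.2 := by
  unfold nchains
  simp

/-- **Step 1**: for fixed `g`, the signed number of `g`-invariant normal chains above `H` is `1` if
`g` normalizes a `p`-subgroup containing `H` and `0` otherwise. -/
theorem sum_sign_nchains_normalized (p : ℕ) [Fact p.Prime] (H : Subgroup G) (g : G) :
    ∑ x ∈ (nchains p H).filter (fun x => g ∈ chainNrm x.1 x.2), (-1 : ℤ) ^ x.2.card =
      if ∃ V : Subgroup G, IsPGroup p V ∧ H ≤ V ∧ g ∈ Subgroup.normalizer (V : Set G) then 1 else 0 := by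
  set Vg : Finset (Subgroup G) := Finset.univ.filter
    (fun T => IsPGroup p T ∧ H ≤ T ∧ g ∈ Subgroup.normalizer (T : Set G)) with hVg
  set Lg : Subgroup G → Finset (Subgroup G) := fun T =>
    (lowerSet H T).filter (fun V => g ∈ Subgroup.normalizer (V : Set G)) with hLg
  have hmemV : ∀ T, T ∈ Vg ↔ IsPGroup p T ∧ H ≤ T ∧ g ∈ Subgroup.normalizer (T : Set G) := by
    intro T; simp [hVg]
  have hmemL : ∀ T V, V ∈ Lg T ↔ V ∈ lowerSet H T ∧ g ∈ Subgroup.normalizer (V : Set G) := by
    intro T V; simp [hLg]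
  -- Step 1: split as a double sum
  have h1 : ∑ x ∈ (nchains p H).filter (fun x => g ∈ chainNrm x.1 x.2), (-1 : ℤ) ^ x.2.card =
      ∑ T ∈ Vg, ∑ c ∈ (Lg T).powerset.filter
        (fun c : Finset (Subgroup G) => IsChain (· ≤ ·) (c : Set (Subgroup G))), (-1 : ℤ) ^ c.card := by
    refine Finset.sum_finset_product' _ _ _ ?_ (f := fun (_ : Subgroup G) (c : Finset (Subgroup G)) => (-1 : ℤ) ^ c.card)
    intro x
    rw [Finset.mem_filter, mem_nchains, hmemV, Finset.mem_filter, Finset.mem_powerset, mem_chainNrm]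
    unfold IsNChain
    constructor
    · rintro ⟨⟨h1, h2, h3, h4⟩, h5, h6⟩
      refine ⟨⟨h1, h2, h5⟩, ?_, h4⟩
      intro V hV
      exact (hmemL _ _).mpr ⟨h3 hV, h6 V hV⟩
    · rintro ⟨⟨h1, h2, h5⟩, h3, h4⟩
      refine ⟨⟨h1, h2, ?_, h4⟩, h5, ?_⟩
      · intro V hV
        exact ((hmemL _ _).mp (h3 hV)).1
      · intro V hV
        exact ((hmemL _ _).mp (h3 hV)).2
  rw [h1]
  -- Step 2: inner sums
  have h2 : ∀ T ∈ Vg, ∑ c ∈ (Lg T).powerset.filter
      (fun c : Finset (Subgroup G) => IsChain (· ≤ ·) (c : Set (Subgroup G))), (-1 : ℤ) ^ c.card =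
      if Lg T = ∅ then 1 else 0 := by
    intro T hT
    by_cases hempty : Lg T = ∅
    · rw [if_pos hempty, hempty]
      exact sum_neg_one_pow_card_chains_empty
    · rw [if_neg hempty]
      obtain ⟨V₀, hV₀⟩ := Finset.nonempty_iff_ne_empty.mpr hempty
      have hV₀' := (hmemL _ _).mp hV₀
      have hV₀l := mem_lowerSet.mp hV₀'.1
      apply sum_neg_one_pow_card_chains_eq_zero (Lg T) ((Lg T).inf id)
      · rw [hmemL, mem_lowerSet]
        refine ⟨⟨?_, ?_, ?_⟩, ?_⟩
        · apply Finset.le_inf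
          intro V hV
          exact (mem_lowerSet.mp ((hmemL _ _).mp hV).1).1
        · exact lt_of_le_of_lt (Finset.inf_le hV₀) hV₀l.2.1
        · intro t ht
          apply mem_normalizer_finset_inf
          intro V hV
          exact (mem_lowerSet.mp ((hmemL _ _).mp hV).1).2.2 ht
        · apply mem_normalizer_finset_inf
          intro V hV
          exact ((hmemL _ _).mp hV).2
      · intro V hV
        exact Finset.inf_le hV
  rw [Finset.sum_congr rfl h2]
  -- Step 3
  by_cases hex : ∃ V : Subgroup G, IsPGroup p V ∧ H ≤ V ∧ g ∈ Subgroup.normalizer (V : Set G)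
  · rw [if_pos hex]
    obtain ⟨V₁, hV₁⟩ := hex
    have hV₁mem : V₁ ∈ Vg := (hmemV _).mpr hV₁
    set W : Subgroup G := Vg.inf id with hW
    have hWmem : W ∈ Vg := by
      rw [hmemV]
      refine ⟨hV₁.1.to_le (Finset.inf_le hV₁mem), ?_, ?_⟩
      · apply Finset.le_inf
        intro V hV
        exact ((hmemV _).mp hV).2.1
      · apply mem_normalizer_finset_inf
        intro V hV
        exact ((hmemV _).mp hV).2.2
    rw [Finset.sum_eq_single W]
    · have : Lg W = ∅ := by
        rw [Finset.eq_empty_iff_forall_notMem]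
        intro V hV
        have hV' := (hmemL _ _).mp hV
        have hVl := mem_lowerSet.mp hV'.1
        have hVmem : V ∈ Vg := (hmemV _).mpr ⟨((hmemV _).mp hWmem).1.to_le hVl.2.1.le, hVl.1, hV'.2⟩
        have : W ≤ V := Finset.inf_le hVmem
        exact absurd hVl.2.1 (not_lt_of_ge this)
      rw [if_pos this]
    · intro T hT hTW
      have hT' := (hmemV _).mp hT
      have hWT : W < T := lt_of_le_of_ne (Finset.inf_le hT) (fun e => hTW e.symm)
      obtain ⟨V, hV1, hV2, hV3, hV4⟩ := exists_normal_invariant_lt hT'.1 hT'.2.2 _ W rfl hWT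
        ((hmemV _).mp hWmem).2.2
      have : V ∈ Lg T := by
        rw [hmemL, mem_lowerSet]
        exact ⟨⟨((hmemV _).mp hWmem).2.1.trans hV1, hV2, hV3⟩, hV4⟩
      rw [if_neg (Finset.ne_empty_of_mem this)]
    · intro h; exact absurd hWmem h
  · rw [if_neg hex]
    apply Finset.sum_eq_zero
    intro T hT
    exact absurd ⟨T, (hmemV _).mp hT⟩ hex

theorem sum_boole_eq_natCard [Fintype G] (P : G → Prop) [DecidablePred P] :
    (∑ g : G, if P g then (1 : ℤ) else 0) = (Nat.card {g : G // P g} : ℤ) := by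
  rw [Finset.sum_boole]
  congr 1
  rw [Nat.card_eq_fintype_card]
  exact (Fintype.card_of_subtype _ (by simp)).symm

/-- **Step 2**: the number of elements normalizing some `p`-subgroup above `H` is the signed sum of the
orders of the normalizers of the normal chains above `H`. -/
theorem card_subnormalizer_eq_sum (p : ℕ) [Fact p.Prime] (H : Subgroup G) :
    (Nat.card {g : G // ∃ V : Subgroup G, IsPGroup p V ∧ H ≤ V ∧ g ∈ Subgroup.normalizer (V : Set G)} : ℤ) =
      ∑ x ∈ nchains p H, (-1 : ℤ) ^ x.2.card * (Nat.card (chainNrm x.1 x.2) : ℤ) := by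
  letI : Fintype G := Fintype.ofFinite G
  have h0 := sum_boole_eq_natCard (G := G)
    (fun g => ∃ V : Subgroup G, IsPGroup p V ∧ H ≤ V ∧ g ∈ Subgroup.normalizer (V : Set G))
  rw [← h0]
  have h1 : ∀ g : G, (if ∃ V : Subgroup G, IsPGroup p V ∧ H ≤ V ∧ g ∈ Subgroup.normalizer (V : Set G) then (1 : ℤ) else 0)
      = ∑ x ∈ nchains p H, if g ∈ chainNrm x.1 x.2 then (-1 : ℤ) ^ x.2.card else 0 := by
    intro g
    rw [← sum_sign_nchains_normalized p H g, Finset.sum_filter]
  refine (Finset.sum_congr rfl (fun g _ => h1 g)).trans ?_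
  rw [Finset.sum_comm]
  apply Finset.sum_congr rfl
  intro x _
  have h2 : ∀ g : G, (if g ∈ chainNrm x.1 x.2 then (-1 : ℤ) ^ x.2.card else 0) =
      (-1 : ℤ) ^ x.2.card * (if g ∈ chainNrm x.1 x.2 then (1 : ℤ) else 0) := by
    intro g
    split_ifs <;> simp
  refine (Finset.sum_congr rfl (fun g _ => h2 g)).trans ?_
  rw [← Finset.mul_sum, sum_boole_eq_natCard (G := G) (fun g => g ∈ chainNrm x.1 x.2)]

end casolo

end Cfsg.Agent.Lib.Helper91
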