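import Mathlib
import Cfsg.Agent.Lib.Helper91.CasoloB

set_option autoImplicit false

namespace Cfsg.Agent.Lib.Helper91

section casolo

variable {G : Type*} [Group G] [Finite G]

attribute [local instance] casoloFintypeSubgroup

open scoped Classical

omit [Finite G] in
theorem sup_mem_of_isChain {c : Finset (Subgroup G)}
    (hc : IsChain (· ≤ ·) (c : Set (Subgroup G))) (hne : c.Nonempty) : c.sup id ∈ c := by
  rw [← Finset.sup'_eq_sup hne]
  have := Finset.sup'_mem (c : Set (Subgroup G)) ?_ c hne id (fun i hi => hi)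
  · exact this
  · intro x hx y hy
    rcases hc.total hx hy with h | h
    · rw [sup_eq_right.mpr h]; exact hy
    · rw [sup_eq_left.mpr h]; exact hx

theorem top_le_chainNrm {p : ℕ} {H : Subgroup G} {x : Subgroup G × Finset (Subgroup G)}
    (hx : IsNChain p H x.1 x.2) : x.1 ≤ chainNrm x.1 x.2 := by
  intro t ht
  rw [mem_chainNrm]
  refine ⟨Subgroup.le_normalizer ht, ?_⟩
  intro V hV
  exact (mem_lowerSet.mp (hx.2.2.1 hV)).2.2 ht

omit [Finite G] in
theorem chainNrm_insert (T V : Subgroup G) (c : Finset (Subgroup G)) :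
    chainNrm T (insert V c) = chainNrm V c ⊓ Subgroup.normalizer (T : Set G) := by
  unfold chainNrm
  rw [Finset.inf_insert, inf_comm]

/-- the predicate: the top of the chain is a Sylow `p`-subgroup of the normalizer of the chain -/
def TopSyl (p : ℕ) (x : Subgroup G × Finset (Subgroup G)) : Prop :=
  IsSylIn p x.1 (chainNrm x.1 x.2)

/-- forward direction of the pairing: put a Sylow subgroup of the chain normalizer on top -/
theorem nchain_extend {p : ℕ} [Fact p.Prime] {H : Subgroup G} {a : Subgroup G × Finset (Subgroup G)}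
    (ha : IsNChain p H a.1 a.2) (hnQ : ¬ TopSyl p a) {T : Subgroup G}
    (hT : IsSylIn p T (chainNrm a.1 a.2)) :
    IsNChain p H T (insert a.1 a.2) ∧ TopSyl p (T, insert a.1 a.2) ∧ a.1 ∉ a.2 ∧
      (insert a.1 a.2).sup id = a.1 := by
  have hle : a.1 ≤ T :=
    hT.normal_le ha.1 (top_le_chainNrm ha) (by unfold chainNrm; exact inf_le_left)
  have hne : a.1 ≠ T := by
    intro h
    apply hnQ
    unfold TopSyl
    rw [h]
    rw [h] at hT
    exact hT
  have hlt : a.1 < T := lt_of_le_of_ne hle hne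
  have hTN : ∀ V ∈ a.2, T ≤ Subgroup.normalizer (V : Set G) := by
    intro V hV t ht
    exact (mem_chainNrm.mp (hT.1 ht)).2 V hV
  have hTa : T ≤ Subgroup.normalizer (a.1 : Set G) := by
    intro t ht
    exact (mem_chainNrm.mp (hT.1 ht)).1
  have hlow : ∀ V ∈ a.2, V < a.1 := fun V hV => (mem_lowerSet.mp (ha.2.2.1 hV)).2.1
  have hnotin : a.1 ∉ a.2 := fun h => lt_irrefl _ (hlow _ h)
  refine ⟨⟨hT.2.1, ha.2.1.trans hle, ?_, ?_⟩, ?_, hnotin, ?_⟩
  · intro V hV
    rw [Finset.mem_insert] at hV
    rw [mem_lowerSet]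
    rcases hV with rfl | hV
    · exact ⟨ha.2.1, hlt, hTa⟩
    · exact ⟨(mem_lowerSet.mp (ha.2.2.1 hV)).1, (hlow V hV).trans hlt, hTN V hV⟩
  · rw [Finset.coe_insert]
    apply ha.2.2.2.insert
    intro b hb _
    right
    exact (hlow b hb).le
  · unfold TopSyl
    show IsSylIn p T (chainNrm T (insert a.1 a.2))
    rw [chainNrm_insert]
    exact hT.mono (le_inf hT.1 Subgroup.le_normalizer) inf_le_left
  · rw [Finset.sup_insert]
    apply sup_eq_left.mpr
    rw [Finset.sup_le_iff]
    intro V hV
    exact (hlow V hV).le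

/-- backward direction of the pairing: remove the second largest member -/
theorem nchain_restrict {p : ℕ} [Fact p.Prime] {H : Subgroup G} {x : Subgroup G × Finset (Subgroup G)}
    (hx : IsNChain p H x.1 x.2) (hQ : TopSyl p x) (hne : x.2 ≠ ∅) :
    x.2.sup id ∈ x.2 ∧ IsNChain p H (x.2.sup id) (x.2.erase (x.2.sup id)) ∧
      ¬ TopSyl p (x.2.sup id, x.2.erase (x.2.sup id)) ∧
      IsSylIn p x.1 (chainNrm (x.2.sup id) (x.2.erase (x.2.sup id))) := by
  have hmem : x.2.sup id ∈ x.2 := sup_mem_of_isChain hx.2.2.2 (Finset.nonempty_iff_ne_empty.mpr hne)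
  set V := x.2.sup id with hV
  have hVl := mem_lowerSet.mp (hx.2.2.1 hmem)
  have hins : insert V (x.2.erase V) = x.2 := Finset.insert_erase hmem
  have hchain : IsNChain p H V (x.2.erase V) := by
    refine ⟨hx.1.to_le hVl.2.1.le, hVl.1, ?_, ?_⟩
    · intro U hU
      rw [Finset.mem_erase] at hU
      have hUl := mem_lowerSet.mp (hx.2.2.1 hU.2)
      rw [mem_lowerSet]
      refine ⟨hUl.1, lt_of_le_of_ne (Finset.le_sup (f := id) hU.2) hU.1, ?_⟩
      exact hVl.2.1.le.trans hUl.2.2
    · exact hx.2.2.2.mono (by simp)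
  have hTle : x.1 ≤ chainNrm V (x.2.erase V) := by
    intro t ht
    rw [mem_chainNrm]
    refine ⟨hVl.2.2 ht, ?_⟩
    intro U hU
    exact (mem_lowerSet.mp (hx.2.2.1 (Finset.mem_of_mem_erase hU))).2.2 ht
  refine ⟨hmem, hchain, ?_, ?_⟩
  · intro hS
    unfold TopSyl at hS
    have := hS.2.2 x.1 hx.1 hVl.2.1.le hTle
    exact hVl.2.1.ne this.symm
  · unfold TopSyl at hQ
    rw [← hins, chainNrm_insert] at hQ
    exact hQ.of_inf_normalizer

/-- the weight of a normal chain -/
noncomputable def chainWt (x : Subgroup G × Finset (Subgroup G)) : ℤ :=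
  (-1 : ℤ) ^ x.2.card * (Nat.card (chainNrm x.1 x.2) : ℤ)

/-- for a chain whose top is not Sylow in the chain normalizer, the weights of its Sylow extensions
add up to minus its weight -/
theorem sum_chainWt_extend {p : ℕ} [Fact p.Prime] {H : Subgroup G} {a : Subgroup G × Finset (Subgroup G)}
    (ha : IsNChain p H a.1 a.2) :
    ∑ T ∈ Finset.univ.filter (fun T : Subgroup G => IsSylIn p T (chainNrm a.1 a.2)),
      chainWt (T, insert a.1 a.2) = - chainWt a := by
  have hnotin : a.1 ∉ a.2 := fun h => lt_irrefl _ (mem_lowerSet.mp (ha.2.2.1 h)).2.1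
  have h1 : ∀ T : Subgroup G, chainWt (T, insert a.1 a.2) =
      (-1 : ℤ) ^ (a.2.card + 1) *
        ((Nat.card ↥(chainNrm a.1 a.2 ⊓ Subgroup.normalizer (T : Set G) : Subgroup G) : ℕ) : ℤ) := by
    intro T
    unfold chainWt
    show (-1 : ℤ) ^ (insert a.1 a.2).card * (Nat.card (chainNrm T (insert a.1 a.2)) : ℤ) = _
    rw [Finset.card_insert_of_notMem hnotin, chainNrm_insert]
  rw [Finset.sum_congr rfl (fun T _ => h1 T), ← Finset.mul_sum, ← Nat.cast_sum,
    sum_card_inf_normalizer_sylIn p (chainNrm a.1 a.2)]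
  unfold chainWt
  rw [pow_succ]
  ring

/-- **Step 3**: the Sylow pairing. -/
theorem sum_chainWt_nchains (p : ℕ) [Fact p.Prime] (H : Subgroup G) :
    ∑ x ∈ nchains p H, chainWt x =
      ∑ T ∈ Finset.univ.filter (fun T : Subgroup G => IsSylIn p T ⊤ ∧ H ≤ T),
        (Nat.card (Subgroup.normalizer (T : Set G)) : ℤ) := by
  have hsplit := Finset.sum_filter_add_sum_filter_not (nchains p H) (TopSyl p) chainWt
  have hsplit2 := Finset.sum_filter_add_sum_filter_not ((nchains p H).filter (TopSyl p))
    (fun x => x.2 = ∅) chainWt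
  -- the chains with top Sylow and nonempty lower part cancel against the chains with top not Sylow
  have hB : ∑ x ∈ ((nchains p H).filter (TopSyl p)).filter (fun x => ¬ x.2 = ∅), chainWt x =
      - ∑ x ∈ (nchains p H).filter (fun x => ¬ TopSyl p x), chainWt x := by
    rw [← Finset.sum_neg_distrib]
    have hA : ∀ a ∈ (nchains p H).filter (fun x => ¬ TopSyl p x), - chainWt a =
        ∑ T ∈ Finset.univ.filter (fun T : Subgroup G => IsSylIn p T (chainNrm a.1 a.2)),
          chainWt (T, insert a.1 a.2) := by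
      intro a ha
      rw [Finset.mem_filter, mem_nchains] at ha
      exact (sum_chainWt_extend ha.1).symm
    rw [Finset.sum_congr rfl hA, Finset.sum_sigma']
    refine Finset.sum_nbij'
      (fun x => ⟨(x.2.sup id, x.2.erase (x.2.sup id)), x.1⟩)
      (fun y => (y.2, insert y.1.1 y.1.2)) ?_ ?_ ?_ ?_ ?_
    · intro x hx
      simp only [Finset.mem_filter, mem_nchains] at hx
      obtain ⟨h1, h2, h3, h4⟩ := nchain_restrict hx.1.1 hx.1.2 hx.2
      simp only [Finset.mem_sigma, Finset.mem_filter, mem_nchains, Finset.mem_univ, true_and]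
      exact ⟨⟨h2, h3⟩, h4⟩
    · intro y hy
      simp only [Finset.mem_sigma, Finset.mem_filter, mem_nchains, Finset.mem_univ, true_and] at hy
      obtain ⟨h1, h2, h3, h4⟩ := nchain_extend hy.1.1 hy.1.2 hy.2
      simp only [Finset.mem_filter, mem_nchains]
      exact ⟨⟨h1, h2⟩, Finset.insert_ne_empty _ _⟩
    · intro x hx
      simp only [Finset.mem_filter, mem_nchains] at hx
      obtain ⟨h1, h2, h3, h4⟩ := nchain_restrict hx.1.1 hx.1.2 hx.2
      show (x.1, insert (x.2.sup id) (x.2.erase (x.2.sup id))) = x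
      rw [Finset.insert_erase h1]
    · intro y hy
      simp only [Finset.mem_sigma, Finset.mem_filter, mem_nchains, Finset.mem_univ, true_and] at hy
      obtain ⟨h1, h2, h3, h4⟩ := nchain_extend hy.1.1 hy.1.2 hy.2
      show (⟨((insert y.1.1 y.1.2).sup id, (insert y.1.1 y.1.2).erase ((insert y.1.1 y.1.2).sup id)), y.2⟩ :
        Σ _ : Subgroup G × Finset (Subgroup G), Subgroup G) = y
      rw [h4, Finset.erase_insert h3]
    · intro x hx
      simp only [Finset.mem_filter, mem_nchains] at hx
      obtain ⟨h1, h2, h3, h4⟩ := nchain_restrict hx.1.1 hx.1.2 hx.2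
      show chainWt x = chainWt (x.1, insert (x.2.sup id) (x.2.erase (x.2.sup id)))
      rw [Finset.insert_erase h1]
  -- the chains `(T, ∅)` with `T` Sylow in its normalizer are the Sylow subgroups above `H`
  have hB0 : ∑ x ∈ ((nchains p H).filter (TopSyl p)).filter (fun x => x.2 = ∅), chainWt x =
      ∑ T ∈ Finset.univ.filter (fun T : Subgroup G => IsSylIn p T ⊤ ∧ H ≤ T),
        (Nat.card (Subgroup.normalizer (T : Set G)) : ℤ) := by
    refine Finset.sum_nbij' (fun x => x.1) (fun T => (T, ∅)) ?_ ?_ ?_ ?_ ?_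
    · intro x hx
      simp only [Finset.mem_filter, mem_nchains] at hx
      obtain ⟨⟨h1, h2⟩, h3⟩ := hx
      simp only [Finset.mem_filter, Finset.mem_univ, true_and]
      refine ⟨?_, h1.2.1⟩
      unfold TopSyl at h2
      rw [h3] at h2
      have h4 : chainNrm x.1 ∅ = ⊤ ⊓ Subgroup.normalizer (x.1 : Set G) := by
        unfold chainNrm
        rw [Finset.inf_empty, inf_comm]
      rw [h4] at h2
      exact h2.of_inf_normalizer
    · intro T hT
      simp only [Finset.mem_filter, Finset.mem_univ, true_and] at hT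
      simp only [Finset.mem_filter, mem_nchains, and_true]
      refine ⟨⟨hT.1.2.1, hT.2, Finset.empty_subset _, by simp⟩, ?_⟩
      unfold TopSyl
      exact hT.1.mono (top_le_chainNrm (p := p) (H := H) (x := (T, ∅))
        ⟨hT.1.2.1, hT.2, Finset.empty_subset _, by simp⟩) le_top
    · intro x hx
      simp only [Finset.mem_filter, mem_nchains] at hx
      obtain ⟨⟨h1, h2⟩, h3⟩ := hx
      show (x.1, (∅ : Finset (Subgroup G))) = x
      rw [← h3]
    · intro T _
      rfl
    · intro x hx
      simp only [Finset.mem_filter, mem_nchains] at hx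
      obtain ⟨⟨h1, h2⟩, h3⟩ := hx
      unfold chainWt chainNrm
      rw [h3, Finset.card_empty, pow_zero, one_mul, Finset.inf_empty, inf_top_eq]
  rw [← hsplit, ← hsplit2, hB0, hB]
  ring

end casolo

end Cfsg.Agent.Lib.Helper91
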