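import Mathlib
import Cfsg.Agent.Lib.Helper91.Baer
import Cfsg.Agent.Lib.Helper91.Matsuyama
import Cfsg.Agent.Lib.Helper22.Fitting

set_option autoImplicit false

namespace Cfsg.Agent.Lib.Helper91

universe u

section subnormalizer
open scoped Pointwise

variable {G : Type u} [Group G]

/-- `R` is `p`-radical: `R = O_p(N_G(R))` -/
def IsPRadical (p : ℕ) (R : Subgroup G) : Prop :=
  (Cfsg.pCore p (Subgroup.normalizer (R : Set G))).map (Subgroup.normalizer (R : Set G)).subtype = R

theorem IsPRadical.isPGroup {p : ℕ} [Fact p.Prime] {R : Subgroup G} (hR : IsPRadical p R) :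
    IsPGroup p R := by
  unfold IsPRadical at hR
  rw [← hR]
  exact (Helper22.pCore_isPGroup' p _).map _

/-- if `g` normalizes a `p`-group `Q ≥ H` then `H` is subnormal in `⟨H, g⟩` -/
theorem isSubnormal_subgroupOf_sup_zpowers_of_normalizes [Finite G] {p : ℕ} [Fact p.Prime]
    {H Q : Subgroup G} (hQ : IsPGroup p Q) (hHQ : H ≤ Q) {g : G}
    (hg : g ∈ Subgroup.normalizer (Q : Set G)) :
    (H.subgroupOf (H ⊔ Subgroup.zpowers g)).IsSubnormal := by
  have hLN : H ⊔ Subgroup.zpowers g ≤ Subgroup.normalizer (Q : Set G) :=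
    sup_le (hHQ.trans Subgroup.le_normalizer) ((Subgroup.zpowers_le).mpr hg)
  have hQn : (Q.subgroupOf (H ⊔ Subgroup.zpowers g)).Normal :=
    Subgroup.normal_subgroupOf_of_le_normalizer hLN
  have hle : H.subgroupOf (H ⊔ Subgroup.zpowers g) ≤ Q.subgroupOf (H ⊔ Subgroup.zpowers g) :=
    Subgroup.comap_mono hHQ
  have hQp : IsPGroup p (Q.subgroupOf (H ⊔ Subgroup.zpowers g)) := hQ.comap_subtype
  have hnil : Group.IsNilpotent (Q.subgroupOf (H ⊔ Subgroup.zpowers g)) := hQp.isNilpotent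
  exact Subgroup.IsSubnormal.trans hle (isSubnormal_of_isNilpotent hnil _) hQn.isSubnormal

/-- if `H` is a subnormal `p`-subgroup of `⟨H, g⟩` then `g` normalizes a `p`-group `Q ≥ H` -/
theorem exists_pGroup_normalized_of_isSubnormal [Finite G] {p : ℕ} [Fact p.Prime]
    {H : Subgroup G} (hH : IsPGroup p H) {g : G}
    (hsn : (H.subgroupOf (H ⊔ Subgroup.zpowers g)).IsSubnormal) :
    ∃ Q : Subgroup G, IsPGroup p Q ∧ H ≤ Q ∧ g ∈ Subgroup.normalizer (Q : Set G) := by
  have hHp : IsPGroup p (H.subgroupOf (H ⊔ Subgroup.zpowers g)) := hH.comap_subtype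
  obtain ⟨N, hNn, hNp, hHN⟩ := exists_normal_isPGroup_ge_of_isSubnormal hsn hHp
  refine ⟨N.map (H ⊔ Subgroup.zpowers g).subtype, hNp.map _, ?_, ?_⟩
  · intro h hh
    have hhL : h ∈ H ⊔ Subgroup.zpowers g := Subgroup.mem_sup_left hh
    exact ⟨⟨h, hhL⟩, hHN (Subgroup.mem_subgroupOf.mpr hh), rfl⟩
  · have hgL : g ∈ H ⊔ Subgroup.zpowers g := Subgroup.mem_sup_right (Subgroup.mem_zpowers g)
    apply Subgroup.le_normalizer_map (H ⊔ Subgroup.zpowers g).subtype
    rw [Subgroup.normalizer_eq_top_iff.mpr hNn]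
    exact ⟨⟨g, hgL⟩, Subgroup.mem_top _, rfl⟩

/-- every `p`-subgroup lies in a `p`-radical subgroup with a larger normalizer -/
theorem exists_isPRadical_ge [Finite G] {p : ℕ} [Fact p.Prime] :
    ∀ (n : ℕ) (Q : Subgroup G), IsPGroup p Q → Nat.card G - Nat.card Q = n →
      ∃ R : Subgroup G, Q ≤ R ∧ IsPRadical p R ∧
        Subgroup.normalizer (Q : Set G) ≤ Subgroup.normalizer (R : Set G) := by
  intro n
  induction n using Nat.strong_induction_on with
  | _ n ih =>
    intro Q hQ hn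
    obtain ⟨Q₁, hQ₁⟩ : ∃ Q₁ : Subgroup G, Q₁ =
      (Cfsg.pCore p (Subgroup.normalizer (Q : Set G))).map (Subgroup.normalizer (Q : Set G)).subtype :=
      ⟨_, rfl⟩
    have hQQ₁ : Q ≤ Q₁ := by
      have h1 : Q.subgroupOf (Subgroup.normalizer (Q : Set G)) ≤
          Cfsg.pCore p (Subgroup.normalizer (Q : Set G)) :=
        Helper22.le_pCore' (Subgroup.normal_in_normalizer) hQ.comap_subtype
      have h2 := Subgroup.map_mono (f := (Subgroup.normalizer (Q : Set G)).subtype) h1
      rw [Subgroup.map_subgroupOf_eq_of_le Subgroup.le_normalizer] at h2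
      rw [hQ₁]; exact h2
    have hQ₁p : IsPGroup p Q₁ := by
      rw [hQ₁]; exact (Helper22.pCore_isPGroup' p _).map _
    have hNN : Subgroup.normalizer (Q : Set G) ≤ Subgroup.normalizer (Q₁ : Set G) := by
      intro x hx
      rw [hQ₁]
      apply Subgroup.le_normalizer_map (Subgroup.normalizer (Q : Set G)).subtype
      rw [Subgroup.normalizer_eq_top_iff.mpr (Helper22.pCore_normal' p _)]
      exact ⟨⟨x, hx⟩, Subgroup.mem_top _, rfl⟩
    by_cases heq : Q₁ = Q
    · refine ⟨Q, le_rfl, ?_, le_rfl⟩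
      unfold IsPRadical
      rw [← hQ₁]; exact heq
    · have hlt : Q < Q₁ := lt_of_le_of_ne hQQ₁ (Ne.symm heq)
      have hcard : Nat.card Q < Nat.card Q₁ := by
        apply lt_of_le_of_ne (Subgroup.card_le_of_le hQQ₁)
        intro h
        exact heq (Subgroup.eq_of_le_of_card_ge hQQ₁ h.ge).symm
      have hle : Nat.card Q₁ ≤ Nat.card G := Subgroup.card_le_card_group Q₁
      obtain ⟨R, hR1, hR2, hR3⟩ := ih (Nat.card G - Nat.card Q₁) (by omega) Q₁ hQ₁p rfl
      exact ⟨R, hQQ₁.trans hR1, hR2, hNN.trans hR3⟩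

/-- a `p`-radical subgroup is the intersection of the Sylow `p`-subgroups containing it -/
theorem IsPRadical.sInf_sylow_le [Finite G] {p : ℕ} [Fact p.Prime] {R : Subgroup G}
    (hR : IsPRadical p R) :
    sInf {K : Subgroup G | ∃ Q : Sylow p G, R ≤ (Q : Subgroup G) ∧ K = (Q : Subgroup G)} ≤ R := by
  have hRp : IsPGroup p R := hR.isPGroup
  obtain ⟨D, hD⟩ : ∃ D : Subgroup G, D =
      sInf {K : Subgroup G | ∃ Q : Sylow p G, R ≤ (Q : Subgroup G) ∧ K = (Q : Subgroup G)} :=
    ⟨_, rfl⟩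
  rw [← hD]
  have hRD : R ≤ D := by
    rw [hD]
    apply le_sInf
    rintro K ⟨Q, hQ, rfl⟩
    exact hQ
  have hDp : IsPGroup p D := by
    obtain ⟨Q₀, hQ₀⟩ := hRp.exists_le_sylow
    have : D ≤ (Q₀ : Subgroup G) := by
      rw [hD]; exact sInf_le ⟨Q₀, hQ₀, rfl⟩
    exact Q₀.isPGroup'.to_le this
  by_contra hnot
  have hlt : R < D := lt_of_le_of_ne hRD (fun h => hnot h.ge)
  have h1 := lt_normalizer_inf_of_isPGroup hDp hlt
  obtain ⟨x, hx1, hx2⟩ := SetLike.exists_of_lt h1
  apply hx2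
  have hxN : x ∈ Subgroup.normalizer (R : Set G) := hx1.1
  have hxD : x ∈ D := hx1.2
  -- `x` lies in every Sylow `p`-subgroup of `N_G(R)`
  have hall : ∀ T : Sylow p (Subgroup.normalizer (R : Set G)), (⟨x, hxN⟩ : Subgroup.normalizer (R : Set G)) ∈ T := by
    intro T
    have hTp : IsPGroup p ((T : Subgroup (Subgroup.normalizer (R : Set G))).map
        (Subgroup.normalizer (R : Set G)).subtype) := T.isPGroup'.map _
    obtain ⟨S, hS⟩ := hTp.exists_le_sylow
    have hRT : R.subgroupOf (Subgroup.normalizer (R : Set G)) ≤ T := by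
      have hn : (R.subgroupOf (Subgroup.normalizer (R : Set G))).Normal :=
        Subgroup.normal_in_normalizer
      exact IsPGroup.le_sylow_of_normal (N := R.subgroupOf (Subgroup.normalizer (R : Set G)))
        hRp.comap_subtype T
    have hRS : R ≤ (S : Subgroup G) := by
      have h2 := Subgroup.map_mono (f := (Subgroup.normalizer (R : Set G)).subtype) hRT
      rw [Subgroup.map_subgroupOf_eq_of_le Subgroup.le_normalizer] at h2
      exact h2.trans hS
    have hDS : D ≤ (S : Subgroup G) := by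
      rw [hD]; exact sInf_le ⟨S, hRS, rfl⟩
    have hTS : (T : Subgroup (Subgroup.normalizer (R : Set G))) ≤
        (S : Subgroup G).subgroupOf (Subgroup.normalizer (R : Set G)) :=
      Subgroup.map_le_iff_le_comap.mp hS
    have heq := T.is_maximal' (S.isPGroup'.comap_subtype (K := Subgroup.normalizer (R : Set G))) hTS
    have hmem : (⟨x, hxN⟩ : Subgroup.normalizer (R : Set G)) ∈
        (S : Subgroup G).subgroupOf (Subgroup.normalizer (R : Set G)) :=
      Subgroup.mem_subgroupOf.mpr (hDS hxD)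
    have hmem' : (⟨x, hxN⟩ : Subgroup.normalizer (R : Set G)) ∈
        Subgroup.comap (Subgroup.normalizer (R : Set G)).subtype (S : Subgroup G) := hmem
    rw [heq] at hmem'
    exact hmem'
  -- hence in the `p`-core of `N_G(R)`
  obtain ⟨T₀⟩ : Nonempty (Sylow p (Subgroup.normalizer (R : Set G))) := inferInstance
  have hcore : (⟨x, hxN⟩ : Subgroup.normalizer (R : Set G)) ∈
      (T₀ : Subgroup (Subgroup.normalizer (R : Set G))).normalCore := by
    intro b
    have h2 := hall (b⁻¹ • T₀)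
    have h2' : (⟨x, hxN⟩ : Subgroup.normalizer (R : Set G)) ∈
        ((b⁻¹ • T₀ : Sylow p (Subgroup.normalizer (R : Set G))) :
          Subgroup (Subgroup.normalizer (R : Set G))) := h2
    rw [Sylow.coe_subgroup_smul, Subgroup.mem_pointwise_smul_iff_inv_smul_mem] at h2'
    simpa [MulAut.smul_def] using h2'
  have hle : (T₀ : Subgroup (Subgroup.normalizer (R : Set G))).normalCore ≤
      Cfsg.pCore p (Subgroup.normalizer (R : Set G)) :=
    Helper22.le_pCore' (Subgroup.normalCore_normal _)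
      (T₀.isPGroup'.to_le (Subgroup.normalCore_le _))
  have h3 := hle hcore
  unfold IsPRadical at hR
  rw [← hR]
  exact ⟨⟨x, hxN⟩, h3, rfl⟩

/-- **Casolo**: the subnormalizer of a `p`-subgroup `H` is the union of the normalizers
of the `p`-radical subgroups containing `H`; and it is unchanged when `H` is replaced by
the intersection of the Sylow `p`-subgroups containing `H`. -/
theorem subnormalizer_pGroup [Finite G] (p : ℕ) [Fact p.Prime] (H : Subgroup G)
    (hH : IsPGroup p H) :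
    {g : G | ((H).subgroupOf (H ⊔ Subgroup.zpowers g)).IsSubnormal} =
      {g : G | ∃ R : Subgroup G, H ≤ R ∧ (Cfsg.pCore p (Subgroup.normalizer (R : Set G))).map (Subgroup.normalizer (R : Set G)).subtype = R ∧ g ∈ Subgroup.normalizer (R : Set G)} ∧
    ∀ g : G, (((H).subgroupOf (H ⊔ Subgroup.zpowers g)).IsSubnormal ↔
      (((sInf {K : Subgroup G | ∃ Q : Sylow p G, H ≤ (Q : Subgroup G) ∧ K = (Q : Subgroup G)})).subgroupOf ((sInf {K : Subgroup G | ∃ Q : Sylow p G, H ≤ (Q : Subgroup G) ∧ K = (Q : Subgroup G)}) ⊔ Subgroup.zpowers g)).IsSubnormal) := by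
  have key : ∀ g : G, ((H).subgroupOf (H ⊔ Subgroup.zpowers g)).IsSubnormal →
      ∃ R : Subgroup G, H ≤ R ∧ IsPRadical p R ∧ g ∈ Subgroup.normalizer (R : Set G) := by
    intro g hsn
    obtain ⟨Q, hQp, hHQ, hgQ⟩ := exists_pGroup_normalized_of_isSubnormal hH hsn
    obtain ⟨R, hQR, hR, hNN⟩ := exists_isPRadical_ge (p := p) _ Q hQp rfl
    exact ⟨R, hHQ.trans hQR, hR, hNN hgQ⟩
  refine ⟨?_, ?_⟩
  · ext g
    constructor
    · intro hsn
      obtain ⟨R, h1, h2, h3⟩ := key g hsn
      exact ⟨R, h1, h2, h3⟩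
    · rintro ⟨R, h1, h2, h3⟩
      have hR : IsPRadical p R := h2
      exact isSubnormal_subgroupOf_sup_zpowers_of_normalizes hR.isPGroup h1 h3
  · intro g
    have hHle : H ≤ sInf {K : Subgroup G | ∃ Q : Sylow p G, H ≤ (Q : Subgroup G) ∧ K = (Q : Subgroup G)} := by
      apply le_sInf
      rintro K ⟨Q, hQ, rfl⟩
      exact hQ
    have hstarp : IsPGroup p ↥(sInf {K : Subgroup G | ∃ Q : Sylow p G, H ≤ (Q : Subgroup G) ∧ K = (Q : Subgroup G)}) := by
      obtain ⟨Q₀, hQ₀⟩ := hH.exists_le_sylow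
      exact Q₀.isPGroup'.to_le (sInf_le ⟨Q₀, hQ₀, rfl⟩)
    constructor
    · intro hsn
      obtain ⟨R, h1, h2, h3⟩ := key g hsn
      have hle : sInf {K : Subgroup G | ∃ Q : Sylow p G, H ≤ (Q : Subgroup G) ∧ K = (Q : Subgroup G)} ≤ R := by
        refine le_trans ?_ h2.sInf_sylow_le
        apply sInf_le_sInf
        rintro K ⟨Q, hQ, rfl⟩
        exact ⟨Q, h1.trans hQ, rfl⟩
      exact isSubnormal_subgroupOf_sup_zpowers_of_normalizes h2.isPGroup hle h3
    · intro hsn
      obtain ⟨Q, hQp, hHQ, hgQ⟩ := exists_pGroup_normalized_of_isSubnormal hstarp hsn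
      exact isSubnormal_subgroupOf_sup_zpowers_of_normalizes hQp (hHle.trans hHQ) hgQ

end subnormalizer

end Cfsg.Agent.Lib.Helper91
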