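import Mathlib
import Cfsg.Agent.Lib.Helper91.CasoloC
import Cfsg.Agent.Lib.Helper91.Subnormalizer

set_option autoImplicit false

namespace Cfsg.Agent.Lib.Helper91

section casolo

variable {G : Type*} [Group G] [Finite G]

/-- counting the preimage of a set under a map whose fibres are the left cosets of `N` -/
theorem card_preimage_eq_mul {Y : Type*} (φ : G → Y) (N : Subgroup G)
    (hφ : ∀ x y, φ x = φ y ↔ x⁻¹ * y ∈ N) (Z : Set Y) (hZ : Z ⊆ Set.range φ) :
    Nat.card {x : G // φ x ∈ Z} = Nat.card Z * Nat.card N := by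
  classical
  choose ψ hψ using fun z : Z => hZ z.2
  rw [← Nat.card_prod]
  refine Nat.card_congr ⟨fun x => (⟨φ x.1, x.2⟩, ⟨(ψ ⟨φ x.1, x.2⟩)⁻¹ * x.1, ?_⟩),
    fun zn => ⟨ψ zn.1 * zn.2.1, ?_⟩, ?_, ?_⟩
  · exact (hφ _ _).mp (hψ ⟨φ x.1, x.2⟩)
  · have : φ (ψ zn.1 * zn.2.1) = φ (ψ zn.1) := by
      rw [eq_comm, hφ]
      simpa using zn.2.2
    rw [this, hψ]
    exact zn.1.2
  · intro x
    apply Subtype.ext
    simp
  · rintro ⟨z, n⟩
    have h1 : φ (ψ z * n.1) = z.1 := by
      have : φ (ψ z * n.1) = φ (ψ z) := by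
        rw [eq_comm, hφ]
        simpa using n.2
      rw [this, hψ]
    have h2 : (⟨φ (ψ z * n.1), by rw [h1]; exact z.2⟩ : Z) = z := Subtype.ext h1
    apply Prod.ext
    · exact h2
    · apply Subtype.ext
      show (ψ ⟨φ (ψ z * n.1), _⟩)⁻¹ * (ψ z * n.1) = n.1
      rw [h2]
      group

attribute [local instance] casoloFintypeSubgroup

theorem card_normalizer_sylow_eq {p : ℕ} [Fact p.Prime] (P Q : Sylow p G) :
    Nat.card (Subgroup.normalizer ((Q : Subgroup G) : Set G)) =
      Nat.card (Subgroup.normalizer ((P : Subgroup G) : Set G)) := by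
  have h1 := Subgroup.card_mul_index (Subgroup.normalizer ((Q : Subgroup G) : Set G))
  have h2 := Subgroup.card_mul_index (Subgroup.normalizer ((P : Subgroup G) : Set G))
  have hQ := Sylow.card_eq_index_normalizer Q
  have hP := Sylow.card_eq_index_normalizer P
  have hpos : 0 < Nat.card (Sylow p G) := Nat.card_pos
  have h1' : Nat.card (Subgroup.normalizer ((Q : Subgroup G) : Set G)) * Nat.card (Sylow p G) =
      Nat.card G := by
    rw [hQ]; exact h1
  have h2' : Nat.card (Subgroup.normalizer ((P : Subgroup G) : Set G)) * Nat.card (Sylow p G) =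
      Nat.card G := by
    rw [hP]; exact h2
  have h3 : Nat.card (Subgroup.normalizer ((Q : Subgroup G) : Set G)) * Nat.card (Sylow p G) =
      Nat.card (Subgroup.normalizer ((P : Subgroup G) : Set G)) * Nat.card (Sylow p G) := by
    rw [h1', h2']
  exact Nat.eq_of_mul_eq_mul_right hpos h3

open scoped Classical in
/-- **Casolo's theorem**, first form: the number of elements normalizing some `p`-subgroup
containing `H` is the number of Sylow `p`-subgroups containing `H` times `|N_G(P)|`. -/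
theorem card_normalizing_eq (p : ℕ) [Fact p.Prime] (H : Subgroup G) (P : Sylow p G) :
    Nat.card {g : G // ∃ V : Subgroup G, IsPGroup p V ∧ H ≤ V ∧ g ∈ Subgroup.normalizer (V : Set G)} =
      Nat.card {Q : Sylow p G // H ≤ (Q : Subgroup G)} *
        Nat.card (Subgroup.normalizer ((P : Subgroup G) : Set G)) := by
  have h1 := card_subnormalizer_eq_sum p H
  have h2 := sum_chainWt_nchains p H
  unfold chainWt at h2
  rw [h2] at h1
  have h3 : ∀ T ∈ Finset.univ.filter (fun T : Subgroup G => IsSylIn p T ⊤ ∧ H ≤ T),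
      (Nat.card (Subgroup.normalizer (T : Set G)) : ℤ) =
        (Nat.card (Subgroup.normalizer ((P : Subgroup G) : Set G)) : ℤ) := by
    intro T hT
    simp only [Finset.mem_filter, Finset.mem_univ, true_and] at hT
    obtain ⟨Q, rfl⟩ := isSylIn_top_iff.mp hT.1
    rw [card_normalizer_sylow_eq P Q]
  rw [Finset.sum_congr rfl h3, Finset.sum_const, nsmul_eq_mul] at h1
  have h4 : (Finset.univ.filter (fun T : Subgroup G => IsSylIn p T ⊤ ∧ H ≤ T)).card =
      Nat.card {Q : Sylow p G // H ≤ (Q : Subgroup G)} := by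
    rw [← Nat.card_eq_finsetCard]
    refine Nat.card_congr ⟨fun T => ⟨(isSylIn_top_iff.mp (Finset.mem_filter.mp T.2).2.1).choose, ?_⟩,
      fun Q => ⟨(Q.1 : Subgroup G), ?_⟩, ?_, ?_⟩
    · rw [(isSylIn_top_iff.mp (Finset.mem_filter.mp T.2).2.1).choose_spec]
      exact (Finset.mem_filter.mp T.2).2.2
    · rw [Finset.mem_filter]
      exact ⟨Finset.mem_univ _, isSylIn_top_iff.mpr ⟨Q.1, rfl⟩, Q.2⟩
    · intro T
      apply Subtype.ext
      exact (isSylIn_top_iff.mp (Finset.mem_filter.mp T.2).2.1).choose_spec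
    · intro Q
      apply Subtype.ext
      apply Sylow.ext
      exact (isSylIn_top_iff.mp (Finset.mem_filter.mp
        (show (Q.1 : Subgroup G) ∈ Finset.univ.filter (fun T : Subgroup G => IsSylIn p T ⊤ ∧ H ≤ T) from by
          rw [Finset.mem_filter]
          exact ⟨Finset.mem_univ _, isSylIn_top_iff.mpr ⟨Q.1, rfl⟩, Q.2⟩)).2.1).choose_spec
  rw [h4] at h1
  exact_mod_cast h1

/-- **Casolo's theorem** for the subnormalizer. -/
theorem card_subnormalizer_eq (p : ℕ) [Fact p.Prime] (H : Subgroup G) (hH : IsPGroup p H)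
    (P : Sylow p G) :
    Nat.card {g : G // ((H).subgroupOf (H ⊔ Subgroup.zpowers g)).IsSubnormal} =
      Nat.card {Q : Sylow p G // H ≤ (Q : Subgroup G)} *
        Nat.card (Subgroup.normalizer ((P : Subgroup G) : Set G)) := by
  rw [← card_normalizing_eq p H P]
  apply Nat.card_congr
  apply Equiv.subtypeEquivRight
  intro g
  constructor
  · intro h
    exact exists_pGroup_normalized_of_isSubnormal hH h
  · rintro ⟨V, hV, hHV, hg⟩
    exact isSubnormal_subgroupOf_sup_zpowers_of_normalizes hV hHV hg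

omit [Finite G] in
theorem map_conj_eq_iff (H : Subgroup G) (x y : G) :
    H.map (MulAut.conj x).toMonoidHom = H.map (MulAut.conj y).toMonoidHom ↔
      x⁻¹ * y ∈ Subgroup.normalizer (H : Set G) := by
  rw [Subgroup.mem_normalizer_iff]
  constructor
  · intro h k
    constructor
    · intro hk
      have h1 : y * k * y⁻¹ ∈ H.map (MulAut.conj x).toMonoidHom := by
        rw [h]; exact ⟨k, hk, by simp [MulAut.conj_apply]⟩
      obtain ⟨k', hk', hkk⟩ := h1
      have : x⁻¹ * y * k * (x⁻¹ * y)⁻¹ = k' := by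
        have h2 : x * k' * x⁻¹ = y * k * y⁻¹ := by simpa [MulAut.conj_apply] using hkk
        calc x⁻¹ * y * k * (x⁻¹ * y)⁻¹ = x⁻¹ * (y * k * y⁻¹) * x := by group
          _ = x⁻¹ * (x * k' * x⁻¹) * x := by rw [h2]
          _ = k' := by group
      rw [this]; exact hk'
    · intro hk
      have h1 : x * (x⁻¹ * y * k * (x⁻¹ * y)⁻¹) * x⁻¹ ∈ H.map (MulAut.conj y).toMonoidHom := by
        rw [← h]; exact ⟨_, hk, by simp [MulAut.conj_apply]⟩
      obtain ⟨k', hk', hkk⟩ := h1
      have h2 : y * k' * y⁻¹ = x * (x⁻¹ * y * k * (x⁻¹ * y)⁻¹) * x⁻¹ := by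
        simpa [MulAut.conj_apply] using hkk
      have : k = k' := by
        have h3 : x * (x⁻¹ * y * k * (x⁻¹ * y)⁻¹) * x⁻¹ = y * k * y⁻¹ := by group
        rw [h3] at h2
        have h4 : y⁻¹ * (y * k' * y⁻¹) * y = y⁻¹ * (y * k * y⁻¹) * y := by rw [h2]
        have h5 : y⁻¹ * (y * k' * y⁻¹) * y = k' := by group
        have h6 : y⁻¹ * (y * k * y⁻¹) * y = k := by group
        rw [h5, h6] at h4
        exact h4.symm
      rw [this]; exact hk'
  · intro h
    ext z
    constructor
    · rintro ⟨k, hk, rfl⟩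
      refine ⟨(x⁻¹ * y)⁻¹ * k * (x⁻¹ * y), ?_, ?_⟩
      · show (x⁻¹ * y)⁻¹ * k * (x⁻¹ * y) ∈ H
        rw [h]
        have : x⁻¹ * y * ((x⁻¹ * y)⁻¹ * k * (x⁻¹ * y)) * (x⁻¹ * y)⁻¹ = k := by group
        rw [this]; exact hk
      · simp only [MulEquiv.coe_toMonoidHom, MulAut.conj_apply]
        group
    · rintro ⟨k, hk, rfl⟩
      refine ⟨x⁻¹ * y * k * (x⁻¹ * y)⁻¹, (h k).mp hk, ?_⟩
      simp only [MulEquiv.coe_toMonoidHom, MulAut.conj_apply]
      group

/-- the number of `x` with `H^x ≤ P`, counted through the conjugates of `H` -/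
theorem card_conj_le_eq_mul_normalizer (H K : Subgroup G) :
    Nat.card {x : G // H.map (MulAut.conj x).toMonoidHom ≤ K} =
      Nat.card {L : Subgroup G // L ≤ K ∧ ∃ g : G, L = H.map (MulAut.conj g).toMonoidHom} *
        Nat.card (Subgroup.normalizer (H : Set G)) := by
  have h := card_preimage_eq_mul (fun x : G => H.map (MulAut.conj x).toMonoidHom)
    (Subgroup.normalizer (H : Set G)) (map_conj_eq_iff H)
    {L : Subgroup G | L ≤ K ∧ ∃ g : G, L = H.map (MulAut.conj g).toMonoidHom}
    (by rintro L ⟨_, g, rfl⟩; exact ⟨g, rfl⟩)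
  refine (Nat.card_congr ?_).trans h
  apply Equiv.subtypeEquivRight
  intro x
  simp only [Set.mem_ofPred_eq]
  constructor
  · intro hx; exact ⟨hx, x, rfl⟩
  · intro hx; exact hx.1

/-- the number of `x` with `H ≤ x • P`, counted through the Sylow subgroups -/
theorem card_le_smul_sylow_eq_mul_normalizer {p : ℕ} [Fact p.Prime] (H : Subgroup G) (P : Sylow p G) :
    Nat.card {x : G // H ≤ ((x • P : Sylow p G) : Subgroup G)} =
      Nat.card {Q : Sylow p G // H ≤ (Q : Subgroup G)} *
        Nat.card (Subgroup.normalizer ((P : Subgroup G) : Set G)) := by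
  have hφ : ∀ x y : G, x • P = y • P ↔ x⁻¹ * y ∈ Subgroup.normalizer ((P : Subgroup G) : Set G) := by
    intro x y
    have hs : ∀ z : G, z ∈ Subgroup.normalizer ((P : Subgroup G) : Set G) ↔ z • P = P := by
      intro z
      rw [← MulAction.mem_stabilizer_iff, Sylow.stabilizer_eq_normalizer]
      exact Iff.rfl
    rw [hs, mul_smul, eq_comm, inv_smul_eq_iff]
  have h := card_preimage_eq_mul (fun x : G => x • P)
    (Subgroup.normalizer ((P : Subgroup G) : Set G)) hφ
    {Q : Sylow p G | H ≤ (Q : Subgroup G)}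
    (by intro Q _; exact MulAction.exists_smul_eq G P Q)
  exact h

omit [Finite G] in
theorem map_conj_le_iff_le_smul {p : ℕ} [Fact p.Prime] (H : Subgroup G) (P : Sylow p G) (x : G) :
    H.map (MulAut.conj x).toMonoidHom ≤ (P : Subgroup G) ↔ H ≤ ((x⁻¹ • P : Sylow p G) : Subgroup G) := by
  rw [Sylow.smul_def, Sylow.pointwise_smul_def]
  constructor
  · intro h k hk
    rw [Subgroup.mem_pointwise_smul_iff_inv_smul_mem]
    have : x * k * x⁻¹ ∈ (P : Subgroup G) := h ⟨k, hk, by simp [MulAut.conj_apply]⟩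
    simpa [MulAut.smul_def, MulAut.conj_apply] using this
  · rintro h _ ⟨k, hk, rfl⟩
    have := h hk
    rw [Subgroup.mem_pointwise_smul_iff_inv_smul_mem] at this
    simpa [MulAut.smul_def, MulAut.conj_apply] using this

/-- **Casolo's theorem**, second form: `λ_G(H) |N_G(P)| = α_G(H) |N_G(H)|`. -/
theorem card_sylow_ge_mul_eq_card_conj_le_mul {p : ℕ} [Fact p.Prime] (H : Subgroup G) (P : Sylow p G) :
    Nat.card {Q : Sylow p G // H ≤ (Q : Subgroup G)} *
        Nat.card (Subgroup.normalizer ((P : Subgroup G) : Set G)) =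
      Nat.card {L : Subgroup G // L ≤ (P : Subgroup G) ∧ ∃ g : G, L = H.map (MulAut.conj g).toMonoidHom} *
        Nat.card (Subgroup.normalizer (H : Set G)) := by
  rw [← card_le_smul_sylow_eq_mul_normalizer, ← card_conj_le_eq_mul_normalizer]
  refine Nat.card_congr ⟨fun x => ⟨x.1⁻¹, ?_⟩, fun x => ⟨x.1⁻¹, ?_⟩, ?_, ?_⟩
  · rw [map_conj_le_iff_le_smul, inv_inv]; exact x.2
  · have := (map_conj_le_iff_le_smul H P x.1).mp x.2
    exact this
  · intro x; apply Subtype.ext; simp
  · intro x; apply Subtype.ext; simp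

end casolo

end Cfsg.Agent.Lib.Helper91
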