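import Mathlib
import Cfsg.Agent.Lib.Helper91.CasoloD

set_option autoImplicit false

namespace Cfsg.Agent.Lib.Helper91

section psolv

variable {G : Type*} [Group G]

/-- the set of `x` with `H^x ≤ P K` -/
def conjInto (H P K : Subgroup G) : Set G := {x : G | ∀ h ∈ H, x⁻¹ * h * x ∈ P ⊔ K}

/-- the preimage in `N'` of the centralizer of `H` in `N'/N` -/
def cstarSet (H N N' : Subgroup G) : Set G := {u : G | u ∈ N' ∧ ∀ h ∈ H, h * u * h⁻¹ * u⁻¹ ∈ N}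

theorem conjInto_top (H P : Subgroup G) : conjInto H P ⊤ = Set.univ := by
  ext x
  simp [conjInto]

theorem conjInto_mono (H P : Subgroup G) {K K' : Subgroup G} (h : K ≤ K') :
    conjInto H P K ⊆ conjInto H P K' := by
  intro x hx k hk
  exact (sup_le_sup_left h P) (hx k hk)

/-- `(P N) ∩ N' = N` when `N'/N` is a `p'`-group -/
theorem sup_inf_le_of_coprime [Finite G] {p : ℕ} [Fact p.Prime] {P N N' : Subgroup G} (hP : IsPGroup p P)
    [hN : N.Normal] (hNN' : N ≤ N') (hcop : (N.relIndex N').Coprime p) :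
    (P ⊔ N) ⊓ N' ≤ N := by
  intro z hz
  rw [Subgroup.mem_inf, Subgroup.mem_sup_of_normal_right] at hz
  obtain ⟨⟨q, hq, m, hm, rfl⟩, hzN'⟩ := hz
  have hqN' : q ∈ N' := by
    have : q = q * m * m⁻¹ := by group
    rw [this]
    exact N'.mul_mem hzN' (N'.inv_mem (hNN' hm))
  -- q^r ∈ N
  haveI : (N.subgroupOf N').Normal := Subgroup.normal_subgroupOf
  have h1 := Subgroup.pow_index_mem (N.subgroupOf N') ⟨q, hqN'⟩
  rw [Subgroup.mem_subgroupOf] at h1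
  have h1' : q ^ (N.relIndex N') ∈ N := by
    simpa [Subgroup.relIndex] using h1
  obtain ⟨k, hk⟩ := (IsPGroup.iff_orderOf.mp hP) ⟨q, hq⟩
  have hord : orderOf q = p ^ k := by
    rw [← hk]; exact (Subgroup.orderOf_mk q hq).symm
  have hc : (N.relIndex N').Coprime (orderOf q) := by
    rw [hord]; exact Nat.Coprime.pow_right k hcop
  obtain ⟨s, hs⟩ := exists_pow_eq_self_of_coprime hc
  have hqN : q ∈ N := by
    rw [← hs]; exact N.pow_mem h1' s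
  exact N.mul_mem hqN hm

/-- the key equivalence for the `p'`-step -/
theorem mul_mem_conjInto_iff {H P N N' : Subgroup G} [hN : N.Normal] [hN' : N'.Normal]
    (hcap : (P ⊔ N) ⊓ N' ≤ N) {y w : G} (hy : ∀ h ∈ H, y⁻¹ * h * y ∈ P) (hw : w ∈ N') :
    y * w ∈ conjInto H P N ↔ y * w * y⁻¹ ∈ cstarSet H N N' := by
  constructor
  · intro h
    refine ⟨hN'.conj_mem w hw y, ?_⟩
    intro k hk
    have h1 := h k hk
    have h2 := hy k hk
    -- w⁻¹ k₂ w k₂⁻¹ ∈ (P ⊔ N) ⊓ N'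
    have h3 : w⁻¹ * (y⁻¹ * k * y) * w * (y⁻¹ * k * y)⁻¹ ∈ N := by
      apply hcap
      refine ⟨?_, ?_⟩
      · have : w⁻¹ * (y⁻¹ * k * y) * w = (y * w)⁻¹ * k * (y * w) := by group
        rw [this]
        exact (P ⊔ N).mul_mem h1 ((P ⊔ N).inv_mem (Subgroup.mem_sup_left h2))
      · have : w⁻¹ * (y⁻¹ * k * y) * w * (y⁻¹ * k * y)⁻¹ =
            w⁻¹ * ((y⁻¹ * k * y) * w * (y⁻¹ * k * y)⁻¹) := by group
        rw [this]
        exact N'.mul_mem (N'.inv_mem hw) (hN'.conj_mem w hw _)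
    have h4 := hN.conj_mem _ h3 (y * w)
    have : y * w * (w⁻¹ * (y⁻¹ * k * y) * w * (y⁻¹ * k * y)⁻¹) * (y * w)⁻¹ =
        k * (y * w * y⁻¹) * k⁻¹ * (y * w * y⁻¹)⁻¹ := by group
    rw [this] at h4
    exact h4
  · rintro ⟨_, h⟩ k hk
    have h1 := h k hk
    have h2 := hy k hk
    have h3 := hN.conj_mem _ h1 (y * w)⁻¹
    have : (y * w)⁻¹ * (k * (y * w * y⁻¹) * k⁻¹ * (y * w * y⁻¹)⁻¹) * (y * w)⁻¹⁻¹ =
        ((y * w)⁻¹ * k * (y * w)) * (y⁻¹ * k * y)⁻¹ := by group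
    rw [this] at h3
    have h4 : (y * w)⁻¹ * k * (y * w) =
        ((y * w)⁻¹ * k * (y * w)) * (y⁻¹ * k * y)⁻¹ * (y⁻¹ * k * y) := by group
    rw [h4]
    exact (P ⊔ N).mul_mem (Subgroup.mem_sup_right h3) (Subgroup.mem_sup_left h2)

/-- a `p`-subgroup of `P N'` is conjugate into `P` by an element of `N'` -/
theorem exists_conj_into_sylow [Finite G] {p : ℕ} [Fact p.Prime] (P : Sylow p G) {H N' : Subgroup G}
    (hH : IsPGroup p H) [hN' : N'.Normal] {x : G} (hx : x ∈ conjInto H (P : Subgroup G) N') :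
    ∃ u ∈ N', ∀ h ∈ H, (x * u)⁻¹ * h * (x * u) ∈ (P : Subgroup G) := by
  set Y : Subgroup G := (P : Subgroup G) ⊔ N' with hY
  have hPY : (P : Subgroup G) ≤ Y := le_sup_left
  -- H₁ = x⁻¹ H x as a subgroup of Y
  set H₁ : Subgroup G := H.map (MulAut.conj x⁻¹).toMonoidHom with hH₁
  have hH₁Y : H₁ ≤ Y := by
    rintro _ ⟨k, hk, rfl⟩
    have := hx k hk
    simpa using this
  have hH₁p : IsPGroup p (H₁.subgroupOf Y) := (hH.map _).comap_subtype
  obtain ⟨Q, hQ⟩ := hH₁p.exists_le_sylow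
  obtain ⟨y, hy⟩ := MulAction.exists_smul_eq (↥Y) (P.subtype hPY) Q
  -- write y⁻¹ = q * u
  have hyinv : (y⁻¹ : ↥Y).1 ∈ (P : Subgroup G) ⊔ N' := (y⁻¹).2
  rw [Subgroup.mem_sup_of_normal_right] at hyinv
  obtain ⟨q, hq, u, hu, hqu⟩ := hyinv
  refine ⟨u⁻¹, N'.inv_mem hu, ?_⟩
  intro k hk
  have hk₁ : x⁻¹ * k * x ∈ H₁ := ⟨k, hk, by simp [MulAut.conj_apply]⟩
  have hk₁Y : x⁻¹ * k * x ∈ Y := hH₁Y hk₁
  have h1 : (⟨x⁻¹ * k * x, hk₁Y⟩ : ↥Y) ∈ (Q : Subgroup ↥Y) := hQ (Subgroup.mem_subgroupOf.mpr hk₁)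
  rw [← hy, Sylow.smul_def, Sylow.pointwise_smul_def, Subgroup.mem_pointwise_smul_iff_inv_smul_mem] at h1
  have h2 : (y⁻¹ : ↥Y).1 * (x⁻¹ * k * x) * ((y⁻¹ : ↥Y).1)⁻¹ ∈ (P : Subgroup G) := by
    have h3 : (y⁻¹ * ⟨x⁻¹ * k * x, hk₁Y⟩ * y : ↥Y) ∈ (P.subtype hPY : Subgroup ↥Y) := by
      simpa [MulAut.smul_def, MulAut.conj_inv_apply] using h1
    rw [Sylow.coe_subtype, Subgroup.mem_subgroupOf] at h3
    simpa using h3
  rw [← hqu] at h2
  have h3 : q⁻¹ * (q * u * (x⁻¹ * k * x) * (q * u)⁻¹) * q ∈ (P : Subgroup G) :=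
    (P : Subgroup G).mul_mem ((P : Subgroup G).mul_mem ((P : Subgroup G).inv_mem hq) h2) hq
  have : q⁻¹ * (q * u * (x⁻¹ * k * x) * (q * u)⁻¹) * q = (x * u⁻¹)⁻¹ * k * (x * u⁻¹) := by group
  rw [this] at h3
  exact h3

theorem conjInto_mul_mem {H P N' : Subgroup G} {x u : G} (hx : x ∈ conjInto H P N') (hu : u ∈ N') :
    x * u ∈ conjInto H P N' := by
  intro k hk
  have h1 := hx k hk
  have hu' : u ∈ P ⊔ N' := Subgroup.mem_sup_right hu
  have : (x * u)⁻¹ * k * (x * u) = u⁻¹ * (x⁻¹ * k * x) * u := by group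
  rw [this]
  exact (P ⊔ N').mul_mem ((P ⊔ N').mul_mem ((P ⊔ N').inv_mem hu') h1) hu'

/-- fibre count for the `p'`-step -/
theorem card_fibre_conjInto [Finite G] {p : ℕ} [Fact p.Prime] (P : Sylow p G) {H N N' : Subgroup G}
    (hH : IsPGroup p H) [hN : N.Normal] [hN' : N'.Normal] (hNN' : N ≤ N')
    (hcop : (N.relIndex N').Coprime p) {x : G} (hx : x ∈ conjInto H (P : Subgroup G) N') :
    Nat.card {u : G // u ∈ N' ∧ x * u ∈ conjInto H (P : Subgroup G) N} =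
      Nat.card (cstarSet H N N') := by
  obtain ⟨u₀, hu₀, hy⟩ := exists_conj_into_sylow P hH hx
  have hcap := sup_inf_le_of_coprime (P := (P : Subgroup G)) P.isPGroup' hNN' hcop
  have hy' : ∀ h ∈ H, (x * u₀)⁻¹ * h * (x * u₀) ∈ (P : Subgroup G) := hy
  refine Nat.card_congr ⟨fun u => ⟨(x * u₀) * (u₀⁻¹ * u.1) * (x * u₀)⁻¹, ?_⟩,
    fun v => ⟨u₀ * ((x * u₀)⁻¹ * v.1 * (x * u₀)), ?_⟩, ?_, ?_⟩
  · have hw : u₀⁻¹ * u.1 ∈ N' := N'.mul_mem (N'.inv_mem hu₀) u.2.1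
    apply (mul_mem_conjInto_iff hcap hy' hw).mp
    have : x * u₀ * (u₀⁻¹ * u.1) = x * u.1 := by group
    rw [this]
    exact u.2.2
  · have hv : v.1 ∈ cstarSet H N N' := v.2
    have hw : (x * u₀)⁻¹ * v.1 * (x * u₀) ∈ N' := by
      have := hN'.conj_mem v.1 hv.1 (x * u₀)⁻¹
      simpa using this
    refine ⟨N'.mul_mem hu₀ hw, ?_⟩
    have h1 : x * (u₀ * ((x * u₀)⁻¹ * v.1 * (x * u₀))) = (x * u₀) * ((x * u₀)⁻¹ * v.1 * (x * u₀)) := by
      group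
    rw [h1]
    apply (mul_mem_conjInto_iff hcap hy' hw).mpr
    have : x * u₀ * ((x * u₀)⁻¹ * v.1 * (x * u₀)) * (x * u₀)⁻¹ = v.1 := by group
    rw [this]
    exact hv
  · intro u
    apply Subtype.ext
    show u₀ * ((x * u₀)⁻¹ * ((x * u₀) * (u₀⁻¹ * u.1) * (x * u₀)⁻¹) * (x * u₀)) = u.1
    group
  · intro v
    apply Subtype.ext
    show (x * u₀) * (u₀⁻¹ * (u₀ * ((x * u₀)⁻¹ * v.1 * (x * u₀)))) * (x * u₀)⁻¹ = v.1
    group

/-- the `p'`-step -/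
theorem card_conjInto_mul_card [Finite G] {p : ℕ} [Fact p.Prime] (P : Sylow p G) {H N N' : Subgroup G}
    (hH : IsPGroup p H) [hN : N.Normal] [hN' : N'.Normal] (hNN' : N ≤ N')
    (hcop : (N.relIndex N').Coprime p) :
    Nat.card (conjInto H (P : Subgroup G) N) * Nat.card N' =
      Nat.card (conjInto H (P : Subgroup G) N') * Nat.card (cstarSet H N N') := by
  classical
  set A := conjInto H (P : Subgroup G) N with hA
  set B := conjInto H (P : Subgroup G) N' with hB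
  have hAB : A ⊆ B := conjInto_mono H _ hNN'
  -- count the pairs in two ways
  have h1 : Nat.card {xu : G × G // xu.1 ∈ B ∧ xu.2 ∈ N' ∧ xu.1 * xu.2 ∈ A} =
      Nat.card A * Nat.card N' := by
    rw [← Nat.card_prod]
    refine Nat.card_congr ⟨fun xu => (⟨xu.1.1 * xu.1.2, xu.2.2.2⟩, ⟨xu.1.2, xu.2.2.1⟩),
      fun yu => ⟨(yu.1.1 * yu.2.1⁻¹, yu.2.1), ?_, yu.2.2, ?_⟩, ?_, ?_⟩
    · exact conjInto_mul_mem (hAB yu.1.2) (N'.inv_mem yu.2.2)
    · show yu.1.1 * yu.2.1⁻¹ * yu.2.1 ∈ A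
      have : yu.1.1 * yu.2.1⁻¹ * yu.2.1 = yu.1.1 := by group
      rw [this]; exact yu.1.2
    · rintro ⟨⟨x, u⟩, h⟩
      apply Subtype.ext
      show (x * u * u⁻¹, u) = (x, u)
      congr 1
      group
    · rintro ⟨⟨y, hy⟩, ⟨u, hu⟩⟩
      apply Prod.ext
      · apply Subtype.ext
        show y * u⁻¹ * u = y
        group
      · rfl
  have h2 : Nat.card {xu : G × G // xu.1 ∈ B ∧ xu.2 ∈ N' ∧ xu.1 * xu.2 ∈ A} =
      Nat.card B * Nat.card (cstarSet H N N') := by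
    have e : {xu : G × G // xu.1 ∈ B ∧ xu.2 ∈ N' ∧ xu.1 * xu.2 ∈ A} ≃
        Σ x : B, {u : G // u ∈ N' ∧ x.1 * u ∈ A} :=
      ⟨fun xu => ⟨⟨xu.1.1, xu.2.1⟩, ⟨xu.1.2, xu.2.2⟩⟩,
        fun xu => ⟨(xu.1.1, xu.2.1), xu.1.2, xu.2.2⟩,
        fun _ => rfl, fun _ => rfl⟩
    rw [Nat.card_congr e]
    letI : Fintype B := Fintype.ofFinite _
    rw [Nat.card_sigma]
    have h3 : ∀ x : B, Nat.card {u : G // u ∈ N' ∧ x.1 * u ∈ A} = Nat.card (cstarSet H N N') :=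
      fun x => card_fibre_conjInto P hH hNN' hcop x.2
    rw [Finset.sum_congr rfl (fun x _ => h3 x), Finset.sum_const, Finset.card_univ,
      ← Nat.card_eq_fintype_card, smul_eq_mul]
  rw [← h1, h2]

/-- the `p`-step: `N' ≤ P N` when `N'/N` is a `p`-group -/
theorem le_sylow_sup_of_relIndex_pow [Finite G] {p : ℕ} [Fact p.Prime] (P : Sylow p G) {N N' : Subgroup G}
    [hN : N.Normal] [hN' : N'.Normal] {m : ℕ} (hidx : N.relIndex N' = p ^ m) :
    N' ≤ (P : Subgroup G) ⊔ N := by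
  have hsurj := QuotientGroup.mk'_surjective N
  set Pbar : Sylow p (G ⧸ N) := P.mapSurjective hsurj with hPbar
  have hcard : Nat.card (N'.map (QuotientGroup.mk' N)) = p ^ m := by
    rw [← hidx]
    have := Subgroup.relIndex_ker (K := N') (QuotientGroup.mk' N)
    rw [QuotientGroup.ker_mk'] at this
    exact this.symm
  have hp : IsPGroup p (N'.map (QuotientGroup.mk' N)) := IsPGroup.of_card hcard
  have hnorm : (N'.map (QuotientGroup.mk' N)).Normal := hN'.map _ hsurj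
  have hle : N'.map (QuotientGroup.mk' N) ≤ (Pbar : Subgroup (G ⧸ N)) := by
    have hS : IsSylIn p (Pbar : Subgroup (G ⧸ N)) ⊤ := isSylIn_top_iff.mpr ⟨Pbar, rfl⟩
    apply hS.normal_le hp le_top
    rw [Subgroup.normalizer_eq_top]
  intro z hz
  have h1 : QuotientGroup.mk' N z ∈ (Pbar : Subgroup (G ⧸ N)) := hle ⟨z, hz, rfl⟩
  rw [hPbar, Sylow.coe_mapSurjective] at h1
  obtain ⟨q, hq, hqz⟩ := h1
  have h2 : q⁻¹ * z ∈ N := by
    have := (QuotientGroup.eq (s := N) (a := q) (b := z)).mp (by simpa using hqz)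
    exact this
  have : z = q * (q⁻¹ * z) := by group
  rw [this]
  exact ((P : Subgroup G) ⊔ N).mul_mem (Subgroup.mem_sup_left hq) (Subgroup.mem_sup_right h2)

theorem conjInto_eq_of_relIndex_pow [Finite G] {p : ℕ} [Fact p.Prime] (P : Sylow p G) (H : Subgroup G)
    {N N' : Subgroup G} [hN : N.Normal] [hN' : N'.Normal] (hNN' : N ≤ N') {m : ℕ}
    (hidx : N.relIndex N' = p ^ m) :
    conjInto H (P : Subgroup G) N = conjInto H (P : Subgroup G) N' := by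
  have h1 : (P : Subgroup G) ⊔ N' = (P : Subgroup G) ⊔ N :=
    le_antisymm (sup_le le_sup_left (le_sylow_sup_of_relIndex_pow P hidx)) (sup_le_sup_left hNN' _)
  unfold conjInto
  rw [h1]

/-- the preimage of the centralizer of `H` in `N'/N`, as a subgroup -/
def cstarSubgroup (H N N' : Subgroup G) [hN : N.Normal] : Subgroup G where
  carrier := cstarSet H N N'
  one_mem' := ⟨N'.one_mem, fun h _ => by simp [N.one_mem]⟩
  mul_mem' := by
    rintro u v ⟨hu, hu'⟩ ⟨hv, hv'⟩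
    refine ⟨N'.mul_mem hu hv, ?_⟩
    intro h hh
    have h1 := hu' h hh
    have h2 := hN.conj_mem _ (hv' h hh) u
    have : h * (u * v) * h⁻¹ * (u * v)⁻¹ = (h * u * h⁻¹ * u⁻¹) * (u * (h * v * h⁻¹ * v⁻¹) * u⁻¹) := by
      group
    rw [this]
    exact N.mul_mem h1 h2
  inv_mem' := by
    rintro u ⟨hu, hu'⟩
    refine ⟨N'.inv_mem hu, ?_⟩
    intro h hh
    have h1 := N.inv_mem (hu' h hh)
    have h2 := hN.conj_mem _ h1 u⁻¹
    have : h * u⁻¹ * h⁻¹ * u⁻¹⁻¹ = u⁻¹ * (h * u * h⁻¹ * u⁻¹)⁻¹ * u⁻¹⁻¹ := by group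
    rw [this]
    exact h2

theorem card_dvd_card_cstarSet [Finite G] (H N N' : Subgroup G) [hN : N.Normal] (hNN' : N ≤ N') :
    Nat.card N ∣ Nat.card (cstarSet H N N') := by
  have h : N ≤ cstarSubgroup H N N' := by
    intro u hu
    refine ⟨hNN' hu, ?_⟩
    intro h _
    exact N.mul_mem (hN.conj_mem u hu h) (N.inv_mem hu)
  exact Subgroup.card_dvd_of_le h

end psolv

end Cfsg.Agent.Lib.Helper91
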