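import Mathlib
import Cfsg.Agent.Lib.Helper91.CasoloE

set_option autoImplicit false

namespace Cfsg.Agent.Lib.Helper91

section psolv

variable {G : Type*} [Group G] [Finite G]

/-- the factor of a section `N'/N` in Casolo's formula for `p`-solvable groups -/
noncomputable def psolvFactor (p : ℕ) (H N N' : Subgroup G) : ℕ :=
  if (N.relIndex N').Coprime p then
    Nat.card {u : G // u ∈ N' ∧ ∀ h ∈ H, h * u * h⁻¹ * u⁻¹ ∈ N} / Nat.card N
  else 1

/-- the `p'`-part of the index of a section -/
noncomputable def psolvIdx (p : ℕ) (N N' : Subgroup G) : ℕ :=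
  if (N.relIndex N').Coprime p then N.relIndex N' else 1

omit [Finite G] in
theorem card_mul_relIndex_eq {N N' : Subgroup G} (h : N ≤ N') :
    Nat.card N * N.relIndex N' = Nat.card N' := by
  have := Subgroup.relIndex_mul_relIndex ⊥ N N' bot_le h
  rwa [Subgroup.relIndex_bot_left, Subgroup.relIndex_bot_left] at this

/-- one step along the series -/
theorem card_conjInto_step {p : ℕ} [Fact p.Prime] (P : Sylow p G) {H N N' : Subgroup G}
    (hH : IsPGroup p H) [hN : N.Normal] [hN' : N'.Normal] (hNN' : N ≤ N')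
    (hfac : (∃ m : ℕ, N.relIndex N' = p ^ m) ∨ (N.relIndex N').Coprime p) :
    Nat.card (conjInto H (P : Subgroup G) N) * psolvIdx p N N' =
      Nat.card (conjInto H (P : Subgroup G) N') * psolvFactor p H N N' := by
  unfold psolvIdx psolvFactor
  by_cases hcop : (N.relIndex N').Coprime p
  · rw [if_pos hcop, if_pos hcop]
    have h1 := card_conjInto_mul_card P hH hNN' hcop
    have h2 := card_mul_relIndex_eq hNN'
    obtain ⟨c, hc⟩ := card_dvd_card_cstarSet H N N' hNN'
    have hc' : Nat.card {u : G // u ∈ N' ∧ ∀ h ∈ H, h * u * h⁻¹ * u⁻¹ ∈ N} = Nat.card N * c := hc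
    have hpos : 0 < Nat.card N := Nat.card_pos
    rw [hc', Nat.mul_div_cancel_left c hpos]
    rw [hc, ← h2] at h1
    have : Nat.card N * (Nat.card (conjInto H (P : Subgroup G) N) * N.relIndex N') =
        Nat.card N * (Nat.card (conjInto H (P : Subgroup G) N') * c) := by
      calc Nat.card N * (Nat.card (conjInto H (P : Subgroup G) N) * N.relIndex N')
          = Nat.card (conjInto H (P : Subgroup G) N) * (Nat.card N * N.relIndex N') := by ring
        _ = Nat.card (conjInto H (P : Subgroup G) N') * (Nat.card N * c) := h1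
        _ = Nat.card N * (Nat.card (conjInto H (P : Subgroup G) N') * c) := by ring
    exact Nat.eq_of_mul_eq_mul_left hpos this
  · rw [if_neg hcop, if_neg hcop]
    rcases hfac with ⟨m, hm⟩ | h
    · rw [conjInto_eq_of_relIndex_pow P H hNN' hm]
    · exact absurd h hcop

/-- induction along the series -/
theorem card_conjInto_chain {p : ℕ} [Fact p.Prime] (P : Sylow p G) {H : Subgroup G}
    (hH : IsPGroup p H) (Mn : ℕ → Subgroup G) (hnorm : ∀ i, (Mn i).Normal)
    (hmono : ∀ i, Mn i ≤ Mn (i + 1)) (n : ℕ)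
    (hfac : ∀ i < n, (∃ m : ℕ, (Mn i).relIndex (Mn (i + 1)) = p ^ m) ∨
      ((Mn i).relIndex (Mn (i + 1))).Coprime p) :
    ∀ k ≤ n, Nat.card (conjInto H (P : Subgroup G) (Mn 0)) *
        ∏ j ∈ Finset.range k, psolvIdx p (Mn j) (Mn (j + 1)) =
      Nat.card (conjInto H (P : Subgroup G) (Mn k)) *
        ∏ j ∈ Finset.range k, psolvFactor p H (Mn j) (Mn (j + 1)) := by
  intro k
  induction k with
  | zero => intro _; simp
  | succ k ih =>
    intro hk
    have ih' := ih (by omega)
    haveI := hnorm k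
    haveI := hnorm (k + 1)
    have hstep := card_conjInto_step P hH (hmono k) (hfac k (by omega))
    rw [Finset.prod_range_succ, Finset.prod_range_succ]
    calc Nat.card (conjInto H (P : Subgroup G) (Mn 0)) *
          ((∏ j ∈ Finset.range k, psolvIdx p (Mn j) (Mn (j + 1))) * psolvIdx p (Mn k) (Mn (k + 1)))
        = (Nat.card (conjInto H (P : Subgroup G) (Mn 0)) *
          ∏ j ∈ Finset.range k, psolvIdx p (Mn j) (Mn (j + 1))) * psolvIdx p (Mn k) (Mn (k + 1)) := by ring
      _ = (Nat.card (conjInto H (P : Subgroup G) (Mn k)) *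
          ∏ j ∈ Finset.range k, psolvFactor p H (Mn j) (Mn (j + 1))) * psolvIdx p (Mn k) (Mn (k + 1)) := by
          rw [ih']
      _ = (Nat.card (conjInto H (P : Subgroup G) (Mn k)) * psolvIdx p (Mn k) (Mn (k + 1))) *
          ∏ j ∈ Finset.range k, psolvFactor p H (Mn j) (Mn (j + 1)) := by ring
      _ = (Nat.card (conjInto H (P : Subgroup G) (Mn (k + 1))) * psolvFactor p H (Mn k) (Mn (k + 1))) *
          ∏ j ∈ Finset.range k, psolvFactor p H (Mn j) (Mn (j + 1)) := by rw [hstep]
      _ = _ := by ring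

/-- `|G| = |P| · ∏ (p'-indices)` -/
theorem card_eq_card_sylow_mul_prod {p : ℕ} [hp : Fact p.Prime] (P : Sylow p G)
    (Mn : ℕ → Subgroup G) (hmono : ∀ i, Mn i ≤ Mn (i + 1)) (n : ℕ) (h0 : Mn 0 = ⊥) (hn : Mn n = ⊤)
    (hfac : ∀ i < n, (∃ m : ℕ, (Mn i).relIndex (Mn (i + 1)) = p ^ m) ∨
      ((Mn i).relIndex (Mn (i + 1))).Coprime p) :
    Nat.card G = Nat.card (P : Subgroup G) *
      ∏ j ∈ Finset.range n, psolvIdx p (Mn j) (Mn (j + 1)) := by
  -- telescoping
  have htel : ∀ k, Nat.card (Mn k) = ∏ j ∈ Finset.range k, (Mn j).relIndex (Mn (j + 1)) := by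
    intro k
    induction k with
    | zero => rw [h0]; simp
    | succ k ih =>
      rw [Finset.prod_range_succ, ← ih]
      exact (card_mul_relIndex_eq (hmono k)).symm
  -- split each index
  have hsplit : ∀ k ≤ n, ∃ e : ℕ, ∏ j ∈ Finset.range k, (Mn j).relIndex (Mn (j + 1)) =
      p ^ e * ∏ j ∈ Finset.range k, psolvIdx p (Mn j) (Mn (j + 1)) := by
    intro k
    induction k with
    | zero => intro _; exact ⟨0, by simp⟩
    | succ k ih =>
      intro hk
      obtain ⟨e, he⟩ := ih (by omega)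
      rw [Finset.prod_range_succ, Finset.prod_range_succ, he]
      unfold psolvIdx
      by_cases hcop : ((Mn k).relIndex (Mn (k + 1))).Coprime p
      · refine ⟨e, ?_⟩
        rw [if_pos hcop]
        ring
      · rcases hfac k (by omega) with ⟨m, hm⟩ | h
        · refine ⟨e + m, ?_⟩
          rw [if_neg hcop, hm, pow_add]
          ring
        · exact absurd h hcop
  obtain ⟨e, he⟩ := hsplit n le_rfl
  have hcardG : Nat.card G = p ^ e * ∏ j ∈ Finset.range n, psolvIdx p (Mn j) (Mn (j + 1)) := by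
    rw [← he, ← htel n, hn]
    exact (Nat.card_congr Subgroup.topEquiv.toEquiv).symm
  have hRcop : (∏ j ∈ Finset.range n, psolvIdx p (Mn j) (Mn (j + 1))).Coprime p := by
    apply Nat.Coprime.prod_left
    intro j _
    unfold psolvIdx
    split_ifs with h
    · exact h
    · exact Nat.coprime_one_left p
  have hRne : (∏ j ∈ Finset.range n, psolvIdx p (Mn j) (Mn (j + 1))) ≠ 0 := by
    intro h
    rw [h] at hRcop
    have := Nat.Coprime.eq_one_of_dvd hRcop.symm (dvd_zero p)
    exact hp.1.one_lt.ne' this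
  have hPcard : Nat.card (P : Subgroup G) = p ^ e := by
    rw [P.card_eq_multiplicity, hcardG, Nat.factorization_mul (pow_ne_zero _ hp.1.ne_zero) hRne,
      hp.1.factorization_pow]
    have : (∏ j ∈ Finset.range n, psolvIdx p (Mn j) (Mn (j + 1))).factorization p = 0 :=
      Nat.factorization_eq_zero_of_not_dvd ((hp.1.coprime_iff_not_dvd).mp hRcop.symm)
    simp [this]
  rw [hPcard, hcardG]

/-- the subnormalizer is counted by the `x` with `H^x ≤ P` -/
theorem card_subnormalizer_eq_card_conjInto (p : ℕ) [Fact p.Prime] (H : Subgroup G) (hH : IsPGroup p H)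
    (P : Sylow p G) :
    Nat.card {g : G // ((H).subgroupOf (H ⊔ Subgroup.zpowers g)).IsSubnormal} =
      Nat.card (conjInto H (P : Subgroup G) ⊥) := by
  rw [card_subnormalizer_eq p H hH P, ← card_le_smul_sylow_eq_mul_normalizer H P]
  apply Nat.card_congr
  apply Equiv.subtypeEquivRight
  intro x
  unfold conjInto
  rw [Set.mem_ofPred_eq, sup_bot_eq, Sylow.smul_def, Sylow.pointwise_smul_def]
  constructor
  · intro h k hk
    have := h hk
    rw [Subgroup.mem_pointwise_smul_iff_inv_smul_mem] at this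
    simpa [MulAut.smul_def, MulAut.conj_inv_apply] using this
  · intro h k hk
    rw [Subgroup.mem_pointwise_smul_iff_inv_smul_mem]
    have := h k hk
    simpa [MulAut.smul_def, MulAut.conj_inv_apply] using this

/-- **Casolo's formula** for the subnormalizer of a `p`-subgroup along a `p`-series. -/
theorem card_subnormalizer_psolvable (p : ℕ) [Fact p.Prime] (H : Subgroup G) (hH : IsPGroup p H)
    (P : Sylow p G) (n : ℕ) (M : Fin (n + 1) → Subgroup G) (h0 : M 0 = ⊥) (hn : M (Fin.last n) = ⊤)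
    (hmono : Monotone M) (hnormal : ∀ i, (M i).Normal)
    (hfac : ∀ i : Fin n, (∃ m : ℕ, (M i.castSucc).relIndex (M i.succ) = p ^ m) ∨
      ((M i.castSucc).relIndex (M i.succ)).Coprime p) :
    Nat.card {g : G // ((H).subgroupOf (H ⊔ Subgroup.zpowers g)).IsSubnormal} =
      Nat.card (P : Subgroup G) *
        ∏ i : Fin n, (if ((M i.castSucc).relIndex (M i.succ)).Coprime p then
          Nat.card {u : G // u ∈ M i.succ ∧ ∀ h ∈ H, h * u * h⁻¹ * u⁻¹ ∈ M i.castSucc} / Nat.card (M i.castSucc)
          else 1) := by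
  set Mn : ℕ → Subgroup G := fun i => if h : i < n + 1 then M ⟨i, h⟩ else ⊤ with hMn
  have hMn_lt : ∀ i (h : i < n + 1), Mn i = M ⟨i, h⟩ := by
    intro i h; simp only [hMn, dif_pos h]
  have hMn_ge : ∀ i, ¬ i < n + 1 → Mn i = ⊤ := by
    intro i h; simp only [hMn, dif_neg h]
  have hMn0 : Mn 0 = ⊥ := by rw [hMn_lt 0 (by omega)]; exact h0
  have hMnn : Mn n = ⊤ := by rw [hMn_lt n (by omega)]; exact hn
  have hMnnorm : ∀ i, (Mn i).Normal := by
    intro i
    by_cases h : i < n + 1
    · rw [hMn_lt i h]; exact hnormal _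
    · rw [hMn_ge i h]; infer_instance
  have hMnmono : ∀ i, Mn i ≤ Mn (i + 1) := by
    intro i
    by_cases h : i + 1 < n + 1
    · rw [hMn_lt i (by omega), hMn_lt (i + 1) h]
      apply hmono
      rw [Fin.le_def]
      simp
    · rw [hMn_ge (i + 1) h]; exact le_top
  have hcast : ∀ i : Fin n, Mn i = M i.castSucc := by
    intro i
    rw [hMn_lt i (by omega)]
    rfl
  have hsucc : ∀ i : Fin n, Mn (i + 1) = M i.succ := by
    intro i
    rw [hMn_lt (i + 1) (by omega)]
    rfl
  have hMnfac : ∀ i < n, (∃ m : ℕ, (Mn i).relIndex (Mn (i + 1)) = p ^ m) ∨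
      ((Mn i).relIndex (Mn (i + 1))).Coprime p := by
    intro i hi
    have := hfac ⟨i, hi⟩
    rw [← hcast ⟨i, hi⟩, ← hsucc ⟨i, hi⟩] at this
    exact this
  have hprod : (∏ i : Fin n, (if ((M i.castSucc).relIndex (M i.succ)).Coprime p then
      Nat.card {u : G // u ∈ M i.succ ∧ ∀ h ∈ H, h * u * h⁻¹ * u⁻¹ ∈ M i.castSucc} / Nat.card (M i.castSucc)
      else 1)) = ∏ j ∈ Finset.range n, psolvFactor p H (Mn j) (Mn (j + 1)) := by
    rw [← Fin.prod_univ_eq_prod_range (fun j => psolvFactor p H (Mn j) (Mn (j + 1))) n]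
    apply Finset.prod_congr rfl
    intro i _
    unfold psolvFactor
    rw [hcast i, hsucc i]
  rw [hprod, card_subnormalizer_eq_card_conjInto p H hH P, ← hMn0]
  have hchain := card_conjInto_chain P hH Mn hMnnorm hMnmono n hMnfac n le_rfl
  have hG := card_eq_card_sylow_mul_prod P Mn hMnmono n hMn0 hMnn hMnfac
  rw [hMnn, conjInto_top, Nat.card_congr (Equiv.Set.univ G), hG] at hchain
  have hRpos : 0 < ∏ j ∈ Finset.range n, psolvIdx p (Mn j) (Mn (j + 1)) := by
    apply Finset.prod_pos
    intro j _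
    unfold psolvIdx
    split_ifs with h
    · rw [Nat.pos_iff_ne_zero]
      intro h0'
      have h2 := card_mul_relIndex_eq (hMnmono j)
      rw [h0', mul_zero] at h2
      exact (Nat.card_pos (α := ↥(Mn (j + 1)))).ne' h2.symm
    · exact Nat.one_pos
  have : Nat.card (conjInto H (P : Subgroup G) (Mn 0)) *
      ∏ j ∈ Finset.range n, psolvIdx p (Mn j) (Mn (j + 1)) =
      (Nat.card (P : Subgroup G) * ∏ j ∈ Finset.range n, psolvFactor p H (Mn j) (Mn (j + 1))) *
      ∏ j ∈ Finset.range n, psolvIdx p (Mn j) (Mn (j + 1)) := by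
    rw [hchain]; ring
  exact Nat.eq_of_mul_eq_mul_right hRpos this

end psolv

end Cfsg.Agent.Lib.Helper91
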