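import Mathlib

set_option autoImplicit false

/-!
# Coprime action of a `p`-group on a `p'`-group: basic constructions

The acting group is a type `A` with a homomorphism `φ : A →* MulAut K`.
-/

namespace Cfsg.Agent.Lib.Helper91

section basic

variable {A K : Type*} [Group A] [Group K]

/-- the fixed points of a set of operators -/
def fixS (φ : A →* MulAut K) (S : Set A) : Subgroup K where
  carrier := {k | ∀ a ∈ S, φ a k = k}
  mul_mem' := by
    intro x y hx hy a ha
    rw [map_mul, hx a ha, hy a ha]
  one_mem' := by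
    intro a _
    exact map_one _
  inv_mem' := by
    intro x hx a ha
    rw [map_inv, hx a ha]

theorem mem_fixS {φ : A →* MulAut K} {S : Set A} {k : K} :
    k ∈ fixS φ S ↔ ∀ a ∈ S, φ a k = k := Iff.rfl

theorem fixS_anti (φ : A →* MulAut K) {S T : Set A} (h : S ⊆ T) : fixS φ T ≤ fixS φ S := by
  intro k hk a ha
  exact hk a (h ha)

theorem fixS_closure (φ : A →* MulAut K) (S : Set A) :
    fixS φ (Subgroup.closure S : Subgroup A) = fixS φ S := by
  apply le_antisymm
  · exact fixS_anti φ Subgroup.subset_closure
  · intro k hk a ha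
    induction ha using Subgroup.closure_induction with
    | mem x hx => exact hk x hx
    | one => simp
    | mul x y _ _ hx hy => rw [map_mul, MulAut.mul_apply, hy, hx]
    | inv x _ hx =>
      rw [map_inv]
      exact (MulEquiv.symm_apply_eq _).mpr hx.symm

/-- an invariant subgroup -/
def IsInv (φ : A →* MulAut K) (L : Subgroup K) : Prop := ∀ a : A, ∀ k ∈ L, φ a k ∈ L

theorem IsInv.mem_iff {φ : A →* MulAut K} {L : Subgroup K} (hL : IsInv φ L) (a : A) (k : K) :
    φ a k ∈ L ↔ k ∈ L := by
  constructor
  · intro h
    have := hL a⁻¹ _ h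
    simpa [← MulAut.mul_apply, ← map_mul] using this
  · exact hL a k

theorem isInv_fixS_of_comm (φ : A →* MulAut K) (S : Set A) (hS : ∀ a : A, ∀ s ∈ S, a * s = s * a) :
    IsInv φ (fixS φ S) := by
  intro a k hk s hs
  have h1 : φ s (φ a k) = φ (s * a) k := by rw [map_mul, MulAut.mul_apply]
  rw [h1, ← hS a s hs, map_mul, MulAut.mul_apply, hk s hs]

theorem isInv_center (φ : A →* MulAut K) : IsInv φ (Subgroup.center K) := by
  intro a k hk
  rw [Subgroup.mem_center_iff] at hk ⊢
  intro g
  have := hk ((φ a).symm g)
  have h2 := congrArg (φ a) this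
  simpa using h2

theorem isInv_normalizer (φ : A →* MulAut K) {T : Subgroup K} (hT : IsInv φ T) :
    IsInv φ (Subgroup.normalizer (T : Set K)) := by
  intro a k hk
  rw [Subgroup.mem_normalizer_iff] at hk ⊢
  intro x
  have h1 := hk ((φ a).symm x)
  rw [← hT.mem_iff a, ← hT.mem_iff a (k * _ * _)] at h1
  simpa using h1

/-- restriction of the action to an invariant subgroup -/
def resHom (φ : A →* MulAut K) (L : Subgroup K) (hL : IsInv φ L) : A →* MulAut L where
  toFun a :=
    { toFun := fun k => ⟨φ a k, hL a k k.2⟩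
      invFun := fun k => ⟨φ a⁻¹ k, hL a⁻¹ k k.2⟩
      left_inv := fun k => by
        apply Subtype.ext
        show φ a⁻¹ (φ a k) = k
        rw [map_inv]
        exact MulAut.inv_apply_self _ _ _
      right_inv := fun k => by
        apply Subtype.ext
        show φ a (φ a⁻¹ k) = k
        rw [map_inv]
        exact MulAut.apply_inv_self _ _ _
      map_mul' := fun x y => by
        apply Subtype.ext
        simp }
  map_one' := by
    ext k
    simp
  map_mul' := by
    intro a b
    ext k
    simp [MulAut.mul_apply]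

@[simp] theorem resHom_apply_coe (φ : A →* MulAut K) (L : Subgroup K) (hL : IsInv φ L) (a : A) (k : L) :
    ((resHom φ L hL a k : L) : K) = φ a k := rfl

theorem map_eq_of_isInv {φ : A →* MulAut K} {N : Subgroup K} (hN : IsInv φ N) (a : A) :
    N.map (φ a).toMonoidHom = N := by
  ext x
  constructor
  · rintro ⟨y, hy, rfl⟩
    exact hN a y hy
  · intro hx
    refine ⟨(φ a).symm x, ?_, by simp⟩
    show (φ a).symm x ∈ N
    rw [← hN.mem_iff a]
    simpa using hx

/-- the induced action on a quotient by an invariant normal subgroup -/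
def quotHom (φ : A →* MulAut K) (N : Subgroup K) [N.Normal] (hN : IsInv φ N) : A →* MulAut (K ⧸ N) where
  toFun a := QuotientGroup.congr N N (φ a) (map_eq_of_isInv hN a)
  map_one' := by
    ext q
    induction q using QuotientGroup.induction_on with
    | H k => simp
  map_mul' := by
    intro a b
    ext q
    induction q using QuotientGroup.induction_on with
    | H k =>
      show ((φ (a * b) k : K) : K ⧸ N) = ((φ a (φ b k) : K) : K ⧸ N)
      rw [map_mul, MulAut.mul_apply]

@[simp] theorem quotHom_mk (φ : A →* MulAut K) (N : Subgroup K) [N.Normal] (hN : IsInv φ N) (a : A) (k : K) :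
    quotHom φ N hN a (k : K ⧸ N) = ((φ a k : K) : K ⧸ N) := rfl

theorem map_subtype_fixS_resHom (φ : A →* MulAut K) (L : Subgroup K) (hL : IsInv φ L) (S : Set A) :
    (fixS (resHom φ L hL) S).map L.subtype = fixS φ S ⊓ L := by
  ext x
  constructor
  · rintro ⟨y, hy, rfl⟩
    refine ⟨?_, y.2⟩
    intro a ha
    have := hy a ha
    exact congrArg Subtype.val this
  · rintro ⟨h1, h2⟩
    refine ⟨⟨x, h2⟩, ?_, rfl⟩
    intro a ha
    apply Subtype.ext
    exact h1 a ha

theorem card_fixS_resHom (φ : A →* MulAut K) (L : Subgroup K) (hL : IsInv φ L) (S : Set A) :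
    Nat.card (fixS (resHom φ L hL) S) = Nat.card ↥(fixS φ S ⊓ L) := by
  rw [← map_subtype_fixS_resHom φ L hL S]
  exact (Nat.card_congr (Subgroup.equivMapOfInjective _ _ L.subtype_injective).toEquiv)

end basic

end Cfsg.Agent.Lib.Helper91
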