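import Mathlib
import Cfsg.Agent.Lib.Helper91.CoprimeFixA

set_option autoImplicit false

/-!
# Coprime action of a `p`-group on a `p'`-group: lifting fixed points
-/

namespace Cfsg.Agent.Lib.Helper91

section lift

variable {A K : Type*} [Group A] [Group K]

/-- a coset of an invariant `p'`-subgroup which is stable under a `p`-group contains a fixed point -/
theorem exists_fixed_in_coset {p : ℕ} [Fact p.Prime] (hA : IsPGroup p A) (φ : A →* MulAut K)
    (N : Subgroup K) (hN : IsInv φ N) (hNp : ¬ p ∣ Nat.card N) (k₀ : K)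
    (h : ∀ a : A, k₀⁻¹ * φ a k₀ ∈ N) :
    ∃ k : K, (∀ a : A, φ a k = k) ∧ k₀⁻¹ * k ∈ N := by
  let _inst : MulAction A K := MulAction.compHom K φ
  let T : SubMulAction A K :=
    { carrier := {k | k₀⁻¹ * k ∈ N}
      smul_mem' := by
        intro a k hk
        show k₀⁻¹ * φ a k ∈ N
        have : k₀⁻¹ * φ a k = (k₀⁻¹ * φ a k₀) * φ a (k₀⁻¹ * k) := by
          rw [map_mul, map_inv]; group
        rw [this]
        exact N.mul_mem (h a) (hN a _ hk) }
  have hcard : Nat.card T = Nat.card N := by
    apply Nat.card_congr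
    exact
      { toFun := fun t => ⟨k₀⁻¹ * t.1, t.2⟩
        invFun := fun n => ⟨k₀ * n.1, by
          show k₀⁻¹ * (k₀ * n.1) ∈ N
          rw [inv_mul_cancel_left]
          exact n.2⟩
        left_inv := fun t => by
          apply Subtype.ext
          simp
        right_inv := fun n => by
          apply Subtype.ext
          simp }
  obtain ⟨t, ht⟩ := hA.nonempty_fixed_point_of_prime_not_dvd_card T (by rw [hcard]; exact hNp)
  refine ⟨t.1, ?_, t.2⟩
  intro a
  have := ht a
  exact congrArg Subtype.val this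

/-- the fixed points on a quotient by an invariant normal `p'`-subgroup are covered -/
theorem card_fixS_eq_mul {p : ℕ} [Fact p.Prime] (hA : IsPGroup p A) (φ : A →* MulAut K)
    (N : Subgroup K) [N.Normal] (hN : IsInv φ N) (hNp : ¬ p ∣ Nat.card N) (S : Set A) :
    Nat.card (fixS φ S) = Nat.card ↥(fixS φ S ⊓ N) * Nat.card (fixS (quotHom φ N hN) S) := by
  let ψ : ↥(fixS φ S) →* ↥(fixS (quotHom φ N hN) S) :=
    ((QuotientGroup.mk' N).comp (fixS φ S).subtype).codRestrict _ (by
      intro k a ha
      show quotHom φ N hN a ((k : K) : K ⧸ N) = _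
      rw [quotHom_mk, k.2 a ha]
      rfl)
  have hψ : ∀ k : ↥(fixS φ S), ((ψ k : K ⧸ N)) = ((k : K) : K ⧸ N) := fun k => rfl
  have hsurj : Function.Surjective ψ := by
    rintro ⟨q, hq⟩
    obtain ⟨k₀, rfl⟩ := QuotientGroup.mk_surjective q
    have hq' : (k₀ : K ⧸ N) ∈ fixS (quotHom φ N hN) (Subgroup.closure S : Subgroup A) := by
      rw [fixS_closure]; exact hq
    have hB : IsPGroup p (Subgroup.closure S : Subgroup A) := hA.to_subgroup _
    obtain ⟨k, hk1, hk2⟩ := exists_fixed_in_coset hB (φ.comp (Subgroup.closure S).subtype) N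
      (fun b => hN b) hNp k₀ (by
        intro b
        have hb := hq' b b.2
        rw [quotHom_mk] at hb
        exact QuotientGroup.eq.mp hb.symm)
    have hkS : k ∈ fixS φ S := by
      intro a ha
      exact hk1 ⟨a, Subgroup.subset_closure ha⟩
    refine ⟨⟨k, hkS⟩, ?_⟩
    apply Subtype.ext
    rw [hψ]
    exact (QuotientGroup.eq.mpr hk2).symm
  have h1 := Subgroup.card_mul_index ψ.ker
  rw [Subgroup.index_ker, MonoidHom.range_eq_top.mpr hsurj, Subgroup.card_top] at h1
  rw [← h1]
  congr 1
  have hmap : ψ.ker.map (fixS φ S).subtype = fixS φ S ⊓ N := by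
    ext x
    constructor
    · rintro ⟨y, hy, rfl⟩
      refine ⟨y.2, ?_⟩
      have hy : ψ y = 1 := MonoidHom.mem_ker.mp hy
      have h2 : ((y : K) : K ⧸ N) = 1 := by
        rw [← hψ, hy]; rfl
      exact (QuotientGroup.eq_one_iff _).mp h2
    · rintro ⟨h1, h2⟩
      refine ⟨⟨x, h1⟩, ?_, rfl⟩
      apply MonoidHom.mem_ker.mpr
      apply Subtype.ext
      rw [hψ]
      exact (QuotientGroup.eq_one_iff _).mpr h2
  rw [← hmap]
  exact (Nat.card_congr (Subgroup.equivMapOfInjective _ _ (fixS φ S).subtype_injective).toEquiv)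

end lift

end Cfsg.Agent.Lib.Helper91
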