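import Mathlib
import Cfsg.Agent.Lib.Helper91.CoprimeFixB

set_option autoImplicit false

/-!
# Coprime action of a `p`-group on a `p'`-group: invariant Sylow subgroups
-/

namespace Cfsg.Agent.Lib.Helper91

section sylow

variable {A K : Type*} [Group A] [Group K]

/-- a `p`-group acting on a `p'`-group stabilises a Sylow `r`-subgroup -/
theorem exists_inv_sylow {p : ℕ} [Fact p.Prime] [Finite K] (hA : IsPGroup p A) (φ : A →* MulAut K)
    (hK : ¬ p ∣ Nat.card K) (r : ℕ) [Fact r.Prime] :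
    ∃ R : Sylow r K, IsInv φ (R : Subgroup K) := by
  let _i : MulDistribMulAction A K := MulDistribMulAction.compHom K φ
  have hcard : ¬ p ∣ Nat.card (Sylow r K) := by
    obtain ⟨P⟩ : Nonempty (Sylow r K) := inferInstance
    intro h
    exact hK (dvd_trans h (dvd_trans (Sylow.card_dvd_index P) (Subgroup.index_dvd_card _)))
  obtain ⟨R, hR⟩ := hA.nonempty_fixed_point_of_prime_not_dvd_card (Sylow r K) hcard
  refine ⟨R, ?_⟩
  intro a k hk
  have h1 : a • R = R := hR a
  have h2 : a • k ∈ ((a • R : Sylow r K) : Subgroup K) := by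
    rw [Sylow.pointwise_smul_def]
    exact Subgroup.smul_mem_pointwise_smul _ _ _ hk
  rw [h1] at h2
  exact h2

theorem mem_smul_sylow_iff {r : ℕ} [Fact r.Prime] (R : Sylow r K) (k x : K) :
    x ∈ ((k • R : Sylow r K) : Subgroup K) ↔ k⁻¹ * x * k ∈ (R : Subgroup K) := by
  rw [Sylow.smul_def, Sylow.pointwise_smul_def, Subgroup.mem_pointwise_smul_iff_inv_smul_mem]
  simp [MulAut.smul_def, MulAut.conj_inv_apply]

/-- two invariant Sylow subgroups are conjugate by a fixed point -/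
theorem inv_sylow_conj {p : ℕ} [Fact p.Prime] [Finite K] (hA : IsPGroup p A) (φ : A →* MulAut K)
    (hK : ¬ p ∣ Nat.card K) {r : ℕ} [Fact r.Prime] (R R' : Sylow r K)
    (hR : IsInv φ (R : Subgroup K)) (hR' : IsInv φ (R' : Subgroup K)) :
    ∃ c : K, (∀ a : A, φ a c = c) ∧ ∀ x : K, x ∈ (R' : Subgroup K) ↔ c⁻¹ * x * c ∈ (R : Subgroup K) := by
  obtain ⟨k₀, hk₀⟩ := MulAction.exists_smul_eq K R R'
  have hk₀T : ∀ x : K, x ∈ (R' : Subgroup K) ↔ k₀⁻¹ * x * k₀ ∈ (R : Subgroup K) := by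
    intro x
    rw [← hk₀]
    exact mem_smul_sylow_iff R k₀ x
  set N := Subgroup.normalizer ((R : Subgroup K) : Set K) with hNdef
  have hNinv : IsInv φ N := isInv_normalizer φ hR
  have hNp : ¬ p ∣ Nat.card N := fun h => hK (dvd_trans h (Subgroup.card_subgroup_dvd_card N))
  -- invariance of the transporter
  have hinvT : ∀ (a : A) (k : K), (∀ x : K, x ∈ (R' : Subgroup K) ↔ k⁻¹ * x * k ∈ (R : Subgroup K)) →
      ∀ x : K, x ∈ (R' : Subgroup K) ↔ (φ a k)⁻¹ * x * (φ a k) ∈ (R : Subgroup K) := by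
    intro a k hk x
    have h1 : x ∈ (R' : Subgroup K) ↔ (φ a).symm x ∈ (R' : Subgroup K) := by
      rw [← hR'.mem_iff a ((φ a).symm x)]
      simp
    rw [h1, hk, ← hR.mem_iff a]
    simp
  -- two transporting elements differ by the normalizer
  have hdiff : ∀ k k' : K, (∀ x : K, x ∈ (R' : Subgroup K) ↔ k⁻¹ * x * k ∈ (R : Subgroup K)) →
      (∀ x : K, x ∈ (R' : Subgroup K) ↔ k'⁻¹ * x * k' ∈ (R : Subgroup K)) → k⁻¹ * k' ∈ N := by
    intro k k' hk hk'
    rw [hNdef, Subgroup.mem_normalizer_iff]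
    intro y
    have h1 := hk' (k' * y * k'⁻¹)
    have h2 := hk (k' * y * k'⁻¹)
    have e1 : k'⁻¹ * (k' * y * k'⁻¹) * k' = y := by group
    have e2 : k⁻¹ * (k' * y * k'⁻¹) * k = k⁻¹ * k' * y * (k⁻¹ * k')⁻¹ := by group
    rw [e1] at h1
    rw [e2] at h2
    rw [← h1, h2]
  obtain ⟨c, hc1, hc2⟩ := exists_fixed_in_coset hA φ N hNinv hNp k₀ (by
    intro a
    exact hdiff k₀ (φ a k₀) hk₀T (hinvT a k₀ hk₀T))
  refine ⟨c, hc1, ?_⟩
  intro x
  rw [hk₀T x]
  have hn : (k₀⁻¹ * c)⁻¹ ∈ N := N.inv_mem hc2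
  rw [hNdef, Subgroup.mem_normalizer_iff] at hn
  rw [hn (k₀⁻¹ * x * k₀)]
  have e : (k₀⁻¹ * c)⁻¹ * (k₀⁻¹ * x * k₀) * (k₀⁻¹ * c)⁻¹⁻¹ = c⁻¹ * x * c := by group
  rw [e]

/-- an invariant `r`-subgroup lies in an invariant Sylow `r`-subgroup -/
theorem exists_inv_sylow_ge_aux {p : ℕ} [Fact p.Prime] [Finite K] (hA : IsPGroup p A)
    (φ : A →* MulAut K) (hK : ¬ p ∣ Nat.card K) {r : ℕ} [hr : Fact r.Prime] :
    ∀ (m : ℕ) (T : Subgroup K), IsPGroup r T → IsInv φ T → Nat.card K - Nat.card T ≤ m →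
      ∃ R : Sylow r K, T ≤ (R : Subgroup K) ∧ IsInv φ (R : Subgroup K) := by
  intro m
  induction m with
  | zero =>
    intro T hT hTinv hm
    have hle : Nat.card T ≤ Nat.card K := Subgroup.card_le_card_group T
    have : Nat.card T = Nat.card K := by omega
    have hidx : ¬ r ∣ T.index := by
      have h1 := T.card_mul_index
      rw [this] at h1
      have hpos : 0 < Nat.card K := Nat.card_pos
      have : T.index = 1 := by
        have := Nat.eq_of_mul_eq_mul_left hpos (h1.trans (mul_one _).symm)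
        exact this
      rw [this]
      exact hr.out.one_lt.ne' ∘ Nat.dvd_one.mp
    exact ⟨hT.toSylow hidx, le_of_eq (IsPGroup.toSylow_coe hT hidx).symm, by
      rw [IsPGroup.toSylow_coe]; exact hTinv⟩
  | succ m ih =>
    intro T hT hTinv hm
    by_cases hidx : r ∣ T.index
    · obtain ⟨n, hn⟩ := IsPGroup.iff_card.mp hT
      have hdvd : r ^ (n + 1) ∣ Nat.card K := by
        rw [← T.card_mul_index, hn, pow_succ]
        exact Nat.mul_dvd_mul_left _ hidx
      have hLdvd := Sylow.prime_pow_dvd_card_normalizer hdvd hn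
      set L := Subgroup.normalizer (T : Set K) with hLdef
      have hL : IsInv φ L := isInv_normalizer φ hTinv
      have hLp : ¬ p ∣ Nat.card L := fun h => hK (dvd_trans h (Subgroup.card_subgroup_dvd_card L))
      obtain ⟨RL, hRL⟩ := exists_inv_sylow hA (resHom φ L hL) hLp r
      set T₁ := (RL : Subgroup L).map L.subtype with hT₁
      have hT₁p : IsPGroup r T₁ := RL.2.map _
      have hT₁inv : IsInv φ T₁ := by
        rintro a _ ⟨y, hy, rfl⟩
        exact ⟨resHom φ L hL a y, hRL a y hy, rfl⟩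
      have hTT₁ : T ≤ T₁ := by
        intro t ht
        have hnormal : (T.subgroupOf L).Normal := by
          rw [hLdef]; exact Subgroup.normal_in_normalizer
        have hpg : IsPGroup r (T.subgroupOf L) := hT.comap_subtype
        have hle := IsPGroup.le_sylow_of_normal hpg RL
        have htL : t ∈ L := Subgroup.le_normalizer ht
        exact ⟨⟨t, htL⟩, hle (Subgroup.mem_subgroupOf.mpr ht), rfl⟩
      have hcardT₁ : Nat.card T₁ = r ^ (Nat.card L).factorization r := by
        rw [hT₁, Nat.card_congr (Subgroup.equivMapOfInjective _ _ L.subtype_injective).toEquiv.symm]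
        exact Sylow.card_eq_multiplicity RL
      have hlt : Nat.card T < Nat.card T₁ := by
        rw [hcardT₁, hn]
        apply Nat.pow_lt_pow_right hr.out.one_lt
        have hL0 : Nat.card L ≠ 0 := Nat.card_pos.ne'
        have := (hr.out.pow_dvd_iff_le_factorization hL0).mp hLdvd
        omega
      have hle : Nat.card T₁ ≤ Nat.card K := Subgroup.card_le_card_group T₁
      obtain ⟨R, hR1, hR2⟩ := ih T₁ hT₁p hT₁inv (by omega)
      exact ⟨R, le_trans hTT₁ hR1, hR2⟩
    · exact ⟨hT.toSylow hidx, le_of_eq (IsPGroup.toSylow_coe hT hidx).symm, by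
        rw [IsPGroup.toSylow_coe]; exact hTinv⟩

theorem exists_inv_sylow_ge {p : ℕ} [Fact p.Prime] [Finite K] (hA : IsPGroup p A)
    (φ : A →* MulAut K) (hK : ¬ p ∣ Nat.card K) {r : ℕ} [Fact r.Prime] (T : Subgroup K)
    (hT : IsPGroup r T) (hTinv : IsInv φ T) :
    ∃ R : Sylow r K, T ≤ (R : Subgroup K) ∧ IsInv φ (R : Subgroup K) :=
  exists_inv_sylow_ge_aux hA φ hK _ T hT hTinv le_rfl

end sylow

end Cfsg.Agent.Lib.Helper91
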