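import Mathlib
import Cfsg.Agent.Lib.Helper91.CoprimeFixC

set_option autoImplicit false

/-!
# Coprime action of a `p`-group on a `p'`-group: Sylow subgroups of the fixed points
-/

namespace Cfsg.Agent.Lib.Helper91

section sylowfix

variable {A K : Type*} [Group A] [Group K]

/-- the fixed points in an invariant Sylow subgroup form a Sylow subgroup of the fixed points -/
theorem card_fix_inf_sylow {p : ℕ} [Fact p.Prime] [Finite K] (hA : IsPGroup p A) (φ : A →* MulAut K)
    (hK : ¬ p ∣ Nat.card K) {r : ℕ} [hr : Fact r.Prime] (R : Sylow r K)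
    (hR : IsInv φ (R : Subgroup K)) :
    Nat.card ↥(fixS φ Set.univ ⊓ (R : Subgroup K)) =
      r ^ (Nat.card (fixS φ Set.univ)).factorization r := by
  set C := fixS φ Set.univ with hC
  obtain ⟨T₀⟩ : Nonempty (Sylow r C) := inferInstance
  set T := (T₀ : Subgroup C).map C.subtype with hT
  have hTp : IsPGroup r T := T₀.2.map _
  have hTC : T ≤ C := by
    rintro _ ⟨y, _, rfl⟩
    exact y.2
  have hTinv : IsInv φ T := by
    intro a t ht
    have := hTC ht a (Set.mem_univ a)
    rw [this]
    exact ht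
  have hcardT : Nat.card T = r ^ (Nat.card C).factorization r := by
    rw [hT, Nat.card_congr (Subgroup.equivMapOfInjective _ _ C.subtype_injective).toEquiv.symm]
    exact Sylow.card_eq_multiplicity T₀
  obtain ⟨R', hTR', hR'⟩ := exists_inv_sylow_ge hA φ hK T hTp hTinv
  obtain ⟨c, hc1, hc2⟩ := inv_sylow_conj hA φ hK R R' hR hR'
  have hcC : c ∈ C := fun a _ => hc1 a
  apply le_antisymm
  · -- `C ⊓ R` is an `r`-subgroup of `C`
    have hpg : IsPGroup r ((C ⊓ (R : Subgroup K)).subgroupOf C) :=
      (R.2.to_le inf_le_right).comap_subtype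
    obtain ⟨Q, hQ⟩ := hpg.exists_le_sylow
    have h1 : Nat.card ((C ⊓ (R : Subgroup K)).subgroupOf C) ≤ Nat.card (Q : Subgroup C) :=
      Subgroup.card_le_of_le hQ
    rw [Sylow.card_eq_multiplicity Q] at h1
    have h2 : Nat.card ((C ⊓ (R : Subgroup K)).subgroupOf C) = Nat.card ↥(C ⊓ (R : Subgroup K)) :=
      Nat.card_congr (Subgroup.subgroupOfEquivOfLe inf_le_left).toEquiv
    rw [h2] at h1
    exact h1
  · rw [← hcardT]
    apply Nat.card_le_card_of_injective
      (fun t : T => (⟨c⁻¹ * t.1 * c, by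
        refine ⟨?_, ?_⟩
        · exact C.mul_mem (C.mul_mem (C.inv_mem hcC) (hTC t.2)) hcC
        · exact (hc2 t.1).mp (hTR' t.2)⟩ : ↥(C ⊓ (R : Subgroup K))))
    intro t t' h
    have := congrArg Subtype.val h
    simp only [mul_left_inj, mul_right_inj] at this
    exact Subtype.ext this

theorem fixS_comp_subtype_univ (φ : A →* MulAut K) (B : Subgroup A) :
    fixS (φ.comp B.subtype) Set.univ = fixS φ (B : Set A) := by
  ext k
  constructor
  · intro h b hb
    exact h ⟨b, hb⟩ (Set.mem_univ _)
  · intro h b _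
    exact h b.1 b.2

/-- the fixed points of any set of operators in an invariant Sylow subgroup -/
theorem card_fixS_inf_sylow {p : ℕ} [Fact p.Prime] [Finite K] (hA : IsPGroup p A) (φ : A →* MulAut K)
    (hK : ¬ p ∣ Nat.card K) {r : ℕ} [hr : Fact r.Prime] (R : Sylow r K)
    (hR : IsInv φ (R : Subgroup K)) (S : Set A) :
    Nat.card ↥(fixS φ S ⊓ (R : Subgroup K)) = r ^ (Nat.card (fixS φ S)).factorization r := by
  have h := card_fix_inf_sylow (hA.to_subgroup (Subgroup.closure S))
    (φ.comp (Subgroup.closure S).subtype) hK R (fun b => hR b)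
  rw [fixS_comp_subtype_univ, fixS_closure] at h
  exact h

end sylowfix

end Cfsg.Agent.Lib.Helper91
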