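import Mathlib
import Cfsg.Agent.Lib.Helper91.CoprimeFixA

set_option autoImplicit false

/-!
# The fixed point inequality for two commuting operators on an abelian `p'`-group
-/

namespace Cfsg.Agent.Lib.Helper91

section abelian

variable {V : Type*} [CommGroup V]

/-- the `p`-fold "trace" along the powers of an automorphism -/
def trp (p : ℕ) (α : MulAut V) : V →* V :=
  ∏ a ∈ Finset.range p, ((α ^ a : MulAut V) : V ≃* V).toMonoidHom

theorem trp_apply (p : ℕ) (α : MulAut V) (v : V) :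
    trp p α v = ∏ a ∈ Finset.range p, (α ^ a) v := by
  simp [trp]

theorem trp_one (p : ℕ) (v : V) : trp p (1 : MulAut V) v = v ^ p := by
  rw [trp_apply]; simp

theorem apply_trp_of_pow_eq_one (p : ℕ) (α : MulAut V) (h : α ^ p = 1) (v : V) :
    α (trp p α v) = trp p α v := by
  rw [trp_apply, map_prod]
  have h1 : ∀ a : ℕ, α ((α ^ a) v) = (α ^ (a + 1)) v := by
    intro a; rw [pow_succ', MulAut.mul_apply]
  simp_rw [h1]
  have h2 := Finset.prod_range_succ' (fun a => (α ^ a) v) p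
  have h3 := Finset.prod_range_succ (fun a => (α ^ a) v) p
  rw [h3] at h2
  simp only [h, pow_zero, MulAut.one_apply] at h2
  exact (mul_right_cancel h2).symm

theorem mem_fix_of_prod_eq {p : ℕ} [hp : Fact p.Prime] [Finite V] (hV : ¬ p ∣ Nat.card V)
    (ξ ζ : MulAut V) (hcomm : ξ * ζ = ζ * ξ) (hζ : ζ ^ p = 1)
    (e : Fin p → V) (he : ∀ i : Fin p, ξ ((ζ ^ (i : ℕ)) (e i)) = e i) (y : V) (hy : ζ y = y)
    (hprod : ∏ i, e i = y) (j : Fin p) : ζ (e j) = e j := by
  have hc : Commute ξ ζ := hcomm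
  have hξe : ∀ i : Fin p, ξ (e i) = (ζ ^ (-(i : ℤ))) (e i) := by
    intro i
    have h1 := he i
    have h2 : (ζ ^ (i : ℕ)) (ξ (e i)) = e i := by
      have h3 : (ζ ^ (i : ℕ) * ξ) (e i) = (ξ * ζ ^ (i : ℕ)) (e i) := by rw [(hc.pow_right _).eq]
      rw [MulAut.mul_apply, MulAut.mul_apply, h1] at h3
      exact h3
    calc ξ (e i) = (ζ ^ (-(i : ℤ))) ((ζ ^ (i : ℕ)) (ξ (e i))) := by
          rw [← MulAut.mul_apply, ← zpow_natCast, ← zpow_add]; simp
      _ = _ := by rw [h2]
  set σ : MulAut V := ζ ^ (j : ℕ) * ξ with hσ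
  let θ : Fin p → MulAut V := fun i => ζ ^ ((j : ℤ) - (i : ℤ))
  have hσe : ∀ i, σ (e i) = θ i (e i) := by
    intro i
    show (ζ ^ (j : ℕ) * ξ) (e i) = (ζ ^ ((j : ℤ) - (i : ℤ))) (e i)
    rw [MulAut.mul_apply, hξe, ← MulAut.mul_apply, ← zpow_natCast, ← zpow_add, sub_eq_add_neg]
  have hζσ : Commute ζ σ := by
    rw [hσ]
    exact (Commute.pow_right (Commute.refl ζ) _).mul_right hc.symm
  have hσθ : ∀ i, Commute σ (θ i) := fun i => (hζσ.symm).zpow_right _
  have hσpow : ∀ (i : Fin p) (a : ℕ), (σ ^ a) (e i) = ((θ i) ^ a) (e i) := by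
    intro i a
    induction a with
    | zero => simp
    | succ a ih =>
      rw [pow_succ', MulAut.mul_apply, ih]
      have h1 : σ (((θ i) ^ a) (e i)) = ((θ i) ^ a) (σ (e i)) :=
        congrArg (fun f : MulAut V => f (e i)) ((hσθ i).pow_right a).eq
      rw [h1, hσe, ← MulAut.mul_apply, ← pow_succ]
  have htr : ∀ i, trp p σ (e i) = trp p (θ i) (e i) := by
    intro i
    rw [trp_apply, trp_apply]
    exact Finset.prod_congr rfl (fun a _ => hσpow i a)
  have hθjj : θ j = 1 := by simp [θ]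
  have hθp : ∀ i, (θ i) ^ p = 1 := by
    intro i
    show (ζ ^ ((j : ℤ) - (i : ℤ))) ^ p = 1
    rw [← zpow_natCast, ← zpow_mul, mul_comm, zpow_mul, zpow_natCast, hζ, one_zpow]
  have hfix : ∀ i, i ≠ j → ζ (trp p (θ i) (e i)) = trp p (θ i) (e i) := by
    intro i hij
    set w := trp p (θ i) (e i) with hw
    have h1 : θ i w = w := apply_trp_of_pow_eq_one p (θ i) (hθp i) (e i)
    have hndvd : ¬ (p : ℤ) ∣ (j : ℤ) - (i : ℤ) := by
      intro hd
      have hlt : |(j : ℤ) - (i : ℤ)| < (p : ℤ) := by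
        have hi : ((i : ℕ) : ℤ) < p := by exact_mod_cast i.2
        have hj : ((j : ℕ) : ℤ) < p := by exact_mod_cast j.2
        have hi0 : (0 : ℤ) ≤ ((i : ℕ) : ℤ) := Int.natCast_nonneg _
        have hj0 : (0 : ℤ) ≤ ((j : ℕ) : ℤ) := Int.natCast_nonneg _
        rw [abs_lt]; constructor <;> linarith
      have h0 := Int.eq_zero_of_abs_lt_dvd hd hlt
      apply hij
      apply Fin.ext
      have : ((j : ℕ) : ℤ) = ((i : ℕ) : ℤ) := by linarith
      exact_mod_cast this.symm
    have hcop : IsCoprime ((j : ℤ) - (i : ℤ)) (p : ℤ) := by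
      rw [Int.isCoprime_iff_gcd_eq_one, Int.gcd_comm]
      have hpz : Prime (p : ℤ) := Nat.prime_iff_prime_int.mp hp.out
      rw [← Int.isCoprime_iff_gcd_eq_one]
      exact (Prime.coprime_iff_not_dvd hpz).mpr hndvd
    obtain ⟨s, t, hst⟩ := hcop
    have hζeq : ζ = (θ i) ^ s := by
      show ζ = (ζ ^ ((j : ℤ) - (i : ℤ))) ^ s
      rw [← zpow_mul]
      have e1 : ((j : ℤ) - (i : ℤ)) * s = 1 - (p : ℤ) * t := by linarith
      rw [e1, zpow_sub, zpow_one, zpow_mul, zpow_natCast, hζ, one_zpow, inv_one, mul_one]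
    have hmem : θ i ∈ MulAction.stabilizer (MulAut V) w := h1
    have h2 := (MulAction.stabilizer (MulAut V) w).zpow_mem hmem s
    rw [← hζeq] at h2
    exact h2
  have hmain : trp p σ y = e j ^ p * ∏ i ∈ Finset.univ.erase j, trp p (θ i) (e i) := by
    rw [← hprod, map_prod, ← Finset.mul_prod_erase Finset.univ _ (Finset.mem_univ j), htr j, hθjj,
      trp_one]
    congr 1
    exact Finset.prod_congr rfl (fun i _ => htr i)
  have hC : ∀ v, ζ v = v → ζ (trp p σ v) = trp p σ v := by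
    intro v hv
    rw [trp_apply, map_prod]
    apply Finset.prod_congr rfl
    intro a _
    have h1 : ζ ((σ ^ a) v) = (σ ^ a) (ζ v) :=
      congrArg (fun f : MulAut V => f v) (hζσ.pow_right a).eq
    rw [h1, hv]
  have hW : ζ (∏ i ∈ Finset.univ.erase j, trp p (θ i) (e i)) =
      ∏ i ∈ Finset.univ.erase j, trp p (θ i) (e i) := by
    rw [map_prod]
    exact Finset.prod_congr rfl (fun i hi => hfix i (Finset.ne_of_mem_erase hi))
  have hep : ζ (e j ^ p) = e j ^ p := by
    have h1 : e j ^ p = trp p σ y * (∏ i ∈ Finset.univ.erase j, trp p (θ i) (e i))⁻¹ := by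
      rw [hmain, mul_inv_cancel_right]
    rw [h1, map_mul, map_inv, hC y hy, hW]
  have hd : (e j)⁻¹ * ζ (e j) = 1 := by
    have hpow : ((e j)⁻¹ * ζ (e j)) ^ p = 1 := by
      rw [mul_pow, inv_pow, ← map_pow, hep, inv_mul_cancel]
    have hord := orderOf_dvd_of_pow_eq_one hpow
    have hord2 := orderOf_dvd_natCard ((e j)⁻¹ * ζ (e j))
    rcases (Nat.dvd_prime hp.out).mp hord with h | h
    · exact orderOf_eq_one_iff.mp h
    · exact absurd (h ▸ hord2) hV
  exact (inv_mul_eq_one.mp hd).symm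

/-- the fixed point inequality for two commuting operators on an abelian `p'`-group -/
theorem kc_comm {p : ℕ} [hp : Fact p.Prime] [Finite V] (hV : ¬ p ∣ Nat.card V)
    {A : Type*} [Group A] (φ : A →* MulAut V) (a z : A) (haz : a * z = z * a) (hz : z ^ p = 1) :
    Nat.card (fixS φ {z}) * ∏ i ∈ Finset.range p, Nat.card (fixS φ {a * z ^ i}) ≤
      Nat.card V * Nat.card (fixS φ {a, z}) ^ p := by
  set C := fixS φ {z} with hC
  set D := fixS φ {a, z} with hD
  let E : Fin p → Subgroup V := fun i => fixS φ {a * z ^ (i : ℕ)}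
  have hcomm : φ a * φ z = φ z * φ a := by rw [← map_mul, ← map_mul, haz]
  have hζp : φ z ^ p = 1 := by rw [← map_pow, hz, map_one]
  let Ψ : ↥C × ((i : Fin p) → ↥(E i)) →* V :=
    (C.subtype.comp (MonoidHom.fst _ _)) *
      ((∏ i : Fin p, (E i).subtype.comp (Pi.evalMonoidHom _ i)).comp (MonoidHom.snd _ _))
  have hΨ : ∀ x, Ψ x = (x.1 : V) * ∏ i, ((x.2 i : ↥(E i)) : V) := by
    intro x
    simp [Ψ, MonoidHom.mul_apply, MonoidHom.finsetProd_apply]
  have hker : ∀ x ∈ Ψ.ker, ∀ j, ((x.2 j : ↥(E j)) : V) ∈ D := by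
    intro x hx j
    have h1 : (x.1 : V) * ∏ i, ((x.2 i : ↥(E i)) : V) = 1 := by
      rw [← hΨ]; exact MonoidHom.mem_ker.mp hx
    have hy : ∏ i, ((x.2 i : ↥(E i)) : V) = (x.1 : V)⁻¹ := eq_inv_of_mul_eq_one_right h1
    have hfixz : φ z ((x.2 j : ↥(E j)) : V) = ((x.2 j : ↥(E j)) : V) :=
      mem_fix_of_prod_eq hV (φ a) (φ z) hcomm hζp (fun i => ((x.2 i : ↥(E i)) : V)) (fun i => by
        have h2 := (x.2 i).2 (a * z ^ (i : ℕ)) rfl
        rw [map_mul, map_pow, MulAut.mul_apply] at h2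
        exact h2) ((x.1 : V)⁻¹) (by rw [map_inv, x.1.2 z rfl]) hy j
    intro s hs
    rcases hs with rfl | hs
    · have h2 := (x.2 j).2 (s * z ^ (j : ℕ)) rfl
      rw [map_mul, map_pow, MulAut.mul_apply] at h2
      have h3 : (φ z ^ (j : ℕ)) ((x.2 j : ↥(E j)) : V) = ((x.2 j : ↥(E j)) : V) := by
        have hmem : φ z ∈ MulAction.stabilizer (MulAut V) (((x.2 j : ↥(E j)) : V)) := hfixz
        exact (MulAction.stabilizer (MulAut V) _).pow_mem hmem _
      rw [h3] at h2
      exact h2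
    · rw [Set.mem_singleton_iff] at hs
      rw [hs]
      exact hfixz
  have hcardker : Nat.card Ψ.ker ≤ Nat.card D ^ p := by
    have h1 : Nat.card (Fin p → ↥D) = Nat.card D ^ p := by
      rw [Nat.card_fun]; simp
    rw [← h1]
    apply Nat.card_le_card_of_injective
      (fun x : Ψ.ker => fun j : Fin p => (⟨_, hker x.1 x.2 j⟩ : ↥D))
    intro x x' h
    have h2 : ∀ j, ((x.1.2 j : ↥(E j)) : V) = ((x'.1.2 j : ↥(E j)) : V) := by
      intro j
      have := congrArg Subtype.val (congrFun h j)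
      exact this
    have h3 : x.1.2 = x'.1.2 := by
      funext j
      exact Subtype.ext (h2 j)
    have h4 : (x.1.1 : V) = (x'.1.1 : V) := by
      have e1 : (x.1.1 : V) * ∏ i, ((x.1.2 i : ↥(E i)) : V) = 1 := by
        rw [← hΨ]; exact MonoidHom.mem_ker.mp x.2
      have e2 : (x'.1.1 : V) * ∏ i, ((x'.1.2 i : ↥(E i)) : V) = 1 := by
        rw [← hΨ]; exact MonoidHom.mem_ker.mp x'.2
      rw [← h3] at e2
      exact mul_right_cancel (e1.trans e2.symm)
    apply Subtype.ext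
    exact Prod.ext (Subtype.ext h4) h3
  have hdom : Nat.card (↥C × ((i : Fin p) → ↥(E i))) =
      Nat.card C * ∏ i ∈ Finset.range p, Nat.card (fixS φ {a * z ^ i}) := by
    rw [Nat.card_prod, Nat.card_pi,
      ← Fin.prod_univ_eq_prod_range (fun i => Nat.card (fixS φ {a * z ^ i})) p]
  rw [← hdom, ← Subgroup.card_mul_index Ψ.ker, Subgroup.index_ker, mul_comm (Nat.card V)]
  exact Nat.mul_le_mul hcardker (Subgroup.card_le_card_group _)

end abelian

end Cfsg.Agent.Lib.Helper91
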