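import Mathlib
import Cfsg.Agent.Lib.Helper91.CoprimeFixD
import Cfsg.Agent.Lib.Helper91.CoprimeFixE

set_option autoImplicit false

/-!
# The fixed point inequality for two commuting operators of `p`-power order on a `p'`-group
-/

namespace Cfsg.Agent.Lib.Helper91

section general

universe u v

/-- multiplicativity of fixed point numbers along an invariant normal subgroup -/
theorem card_fixS_eq_res_mul_quot {A : Type v} {K : Type u} [Group A] [Group K]
    {p : ℕ} [Fact p.Prime] (hA : IsPGroup p A) (φ : A →* MulAut K)
    (N : Subgroup K) [N.Normal] (hN : IsInv φ N) (hNp : ¬ p ∣ Nat.card N) (S : Set A) :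
    Nat.card (fixS φ S) = Nat.card (fixS (resHom φ N hN) S) * Nat.card (fixS (quotHom φ N hN) S) := by
  rw [card_fixS_resHom]
  exact card_fixS_eq_mul hA φ N hN hNp S

theorem kc_general {p : ℕ} [hp : Fact p.Prime] {A : Type v} [Group A] (hA : IsPGroup p A) (a z : A)
    (haz : a * z = z * a) (hz : z ^ p = 1) :
    ∀ (n : ℕ) (K : Type u) [Group K] [Finite K], Nat.card K ≤ n → ¬ p ∣ Nat.card K →
      ∀ φ : A →* MulAut K,
        Nat.card (fixS φ {z}) * ∏ i ∈ Finset.range p, Nat.card (fixS φ {a * z ^ i}) ≤
          Nat.card K * Nat.card (fixS φ {a, z}) ^ p := by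
  intro n
  induction n with
  | zero =>
    intro K _ _ hn
    have : 0 < Nat.card K := Nat.card_pos
    omega
  | succ n ih =>
    intro K _ _ hn hK φ
    by_cases hcommK : ∀ x y : K, x * y = y * x
    · letI : CommGroup K := { ‹Group K› with mul_comm := hcommK }
      exact kc_comm hK φ a z haz hz
    · by_cases hr : ∃ r : ℕ, r.Prime ∧ IsPGroup r K
      · obtain ⟨r, hrp, hrK⟩ := hr
        have _ : Fact r.Prime := ⟨hrp⟩
        set N := Subgroup.center K with hNdef
        have hNinv : IsInv φ N := isInv_center φ
        have hNtop : N ≠ ⊤ := by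
          intro h
          apply hcommK
          intro x y
          have hx : x ∈ N := by rw [h]; exact Subgroup.mem_top x
          exact (Subgroup.mem_center_iff.mp hx y).symm
        have _ : Nontrivial K := by
          by_contra hnt
          rw [not_nontrivial_iff_subsingleton] at hnt
          apply hcommK
          intro x y
          exact Subsingleton.elim _ _
        have hNbot : Nontrivial N := hrK.center_nontrivial
        have hcardN : 1 < Nat.card N := Finite.one_lt_card
        have hcardK := Subgroup.card_eq_card_quotient_mul_card_subgroup N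
        have hNlt : Nat.card N < Nat.card K := by
          have hle : Nat.card N ≤ Nat.card K := Subgroup.card_le_card_group N
          have hne : Nat.card N ≠ Nat.card K := fun h => hNtop ((Subgroup.card_eq_iff_eq_top N).mp h)
          omega
        have hQpos : 0 < Nat.card (K ⧸ N) := Nat.card_pos
        have hQlt : Nat.card (K ⧸ N) < Nat.card K := by
          rw [hcardK]
          nlinarith
        have hNp : ¬ p ∣ Nat.card N := fun h => hK (dvd_trans h (Subgroup.card_subgroup_dvd_card N))
        have hQp : ¬ p ∣ Nat.card (K ⧸ N) := fun h => hK (by rw [hcardK]; exact Dvd.dvd.mul_right h _)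
        have ihN := ih ↥N (by omega) hNp (resHom φ N hNinv)
        have ihQ := ih (K ⧸ N) (by omega) hQp (quotHom φ N hNinv)
        have hm := card_fixS_eq_res_mul_quot hA φ N hNinv hNp
        rw [hm {z}, hm {a, z}, hcardK]
        have hprod : ∏ i ∈ Finset.range p, Nat.card (fixS φ {a * z ^ i}) =
            (∏ i ∈ Finset.range p, Nat.card (fixS (resHom φ N hNinv) {a * z ^ i})) *
            ∏ i ∈ Finset.range p, Nat.card (fixS (quotHom φ N hNinv) {a * z ^ i}) := by
          rw [← Finset.prod_mul_distrib]
          exact Finset.prod_congr rfl (fun i _ => hm {a * z ^ i})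
        rw [hprod]
        calc Nat.card (fixS (resHom φ N hNinv) {z}) * Nat.card (fixS (quotHom φ N hNinv) {z}) *
              ((∏ i ∈ Finset.range p, Nat.card (fixS (resHom φ N hNinv) {a * z ^ i})) *
                ∏ i ∈ Finset.range p, Nat.card (fixS (quotHom φ N hNinv) {a * z ^ i}))
            = (Nat.card (fixS (resHom φ N hNinv) {z}) *
                ∏ i ∈ Finset.range p, Nat.card (fixS (resHom φ N hNinv) {a * z ^ i})) *
              (Nat.card (fixS (quotHom φ N hNinv) {z}) *
                ∏ i ∈ Finset.range p, Nat.card (fixS (quotHom φ N hNinv) {a * z ^ i})) := by ring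
          _ ≤ (Nat.card N * Nat.card (fixS (resHom φ N hNinv) {a, z}) ^ p) *
              (Nat.card (K ⧸ N) * Nat.card (fixS (quotHom φ N hNinv) {a, z}) ^ p) :=
              Nat.mul_le_mul ihN ihQ
          _ = _ := by ring
      · -- Sylow reduction
        have hL0 : Nat.card (fixS φ {z}) * ∏ i ∈ Finset.range p, Nat.card (fixS φ {a * z ^ i}) ≠ 0 := by
          apply mul_ne_zero Nat.card_pos.ne'
          exact Finset.prod_ne_zero_iff.mpr (fun i _ => Nat.card_pos.ne')
        have hR0 : Nat.card K * Nat.card (fixS φ {a, z}) ^ p ≠ 0 :=
          mul_ne_zero Nat.card_pos.ne' (pow_ne_zero _ Nat.card_pos.ne')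
        apply Nat.le_of_dvd (Nat.pos_of_ne_zero hR0)
        rw [← Nat.factorization_le_iff_dvd hL0 hR0]
        intro r
        by_cases hrp : r.Prime
        · have _ : Fact r.Prime := ⟨hrp⟩
          obtain ⟨R, hR⟩ := exists_inv_sylow hA φ hK r
          have hRcard : Nat.card (R : Subgroup K) = r ^ (Nat.card K).factorization r :=
            Sylow.card_eq_multiplicity R
          have hRlt : Nat.card (R : Subgroup K) < Nat.card K := by
            by_contra hcon
            push Not at hcon
            have hle : Nat.card (R : Subgroup K) ≤ Nat.card K := Subgroup.card_le_card_group _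
            have heq : Nat.card K = r ^ (Nat.card K).factorization r := by
              rw [← hRcard]; omega
            exact hr ⟨r, hrp, IsPGroup.of_card heq⟩
          have hRp : ¬ p ∣ Nat.card (R : Subgroup K) :=
            fun h => hK (dvd_trans h (Subgroup.card_subgroup_dvd_card _))
          have ihR := ih ↥(R : Subgroup K) (by omega) hRp (resHom φ (R : Subgroup K) hR)
          have hc : ∀ S : Set A, Nat.card (fixS (resHom φ (R : Subgroup K) hR) S) =
              r ^ (Nat.card (fixS φ S)).factorization r := by
            intro S
            rw [card_fixS_resHom]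
            exact card_fixS_inf_sylow hA φ hK R hR S
          rw [hc {z}, hc {a, z}, hRcard] at ihR
          have hprod : ∏ i ∈ Finset.range p, Nat.card (fixS (resHom φ (R : Subgroup K) hR) {a * z ^ i}) =
              r ^ ∑ i ∈ Finset.range p, (Nat.card (fixS φ {a * z ^ i})).factorization r := by
            rw [← Finset.prod_pow_eq_pow_sum]
            exact Finset.prod_congr rfl (fun i _ => hc {a * z ^ i})
          rw [hprod, ← pow_mul, ← pow_add, ← pow_add] at ihR
          have hexp := (Nat.pow_le_pow_iff_right hrp.one_lt).mp ihR
          rw [Nat.factorization_mul Nat.card_pos.ne'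
              (Finset.prod_ne_zero_iff.mpr (fun i _ => Nat.card_pos.ne')),
            Nat.factorization_mul Nat.card_pos.ne' (pow_ne_zero _ Nat.card_pos.ne'),
            Nat.factorization_prod (fun i _ => Nat.card_pos.ne'), Nat.factorization_pow]
          simp only [Finsupp.coe_add, Pi.add_apply, Finsupp.coe_finsetSum, Finset.sum_apply,
            Finsupp.coe_smul, Pi.smul_apply, smul_eq_mul]
          rw [mul_comm p]
          exact hexp
        · rw [Nat.factorization_eq_zero_of_not_prime _ hrp, Nat.factorization_eq_zero_of_not_prime _ hrp]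

end general

end Cfsg.Agent.Lib.Helper91
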