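import Mathlib
import Cfsg.Agent.Lib.Helper91.CoprimeFixF

set_option autoImplicit false

/-!
# The product inequality for the fixed points of a `p`-group acting on a `p'`-group
-/

namespace Cfsg.Agent.Lib.Helper91

section prodineq

universe u v

theorem prod_comp_quotient_mk {A : Type*} [Group A] [Fintype A] (Z : Subgroup A) [Z.Normal]
    [Fintype (A ⧸ Z)] {M : Type*} [CommMonoid M] (F : A ⧸ Z → M) :
    ∏ a : A, F (a : A ⧸ Z) = (∏ q : A ⧸ Z, F q) ^ Nat.card Z := by
  classical
  rw [Finset.prod_comp F (fun a : A => (a : A ⧸ Z))]
  have himg : (Finset.univ : Finset A).image (fun a : A => (a : A ⧸ Z)) = Finset.univ := by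
    apply Finset.eq_univ_of_forall
    intro q
    obtain ⟨a, rfl⟩ := QuotientGroup.mk_surjective q
    exact Finset.mem_image_of_mem _ (Finset.mem_univ a)
  rw [himg, ← Finset.prod_pow]
  apply Finset.prod_congr rfl
  intro q _
  congr 1
  obtain ⟨a₀, rfl⟩ := QuotientGroup.mk_surjective q
  rw [← Nat.card_eq_finsetCard]
  apply Nat.card_congr
  exact
    { toFun := fun a => ⟨a₀⁻¹ * a.1, by
        have := (Finset.mem_filter.mp a.2).2
        exact QuotientGroup.eq.mp this.symm⟩
      invFun := fun x => ⟨a₀ * x.1, by
        rw [Finset.mem_filter]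
        refine ⟨Finset.mem_univ _, ?_⟩
        apply (QuotientGroup.eq.mpr _).symm
        rw [inv_mul_cancel_left]
        exact x.2⟩
      left_inv := fun a => by apply Subtype.ext; simp
      right_inv := fun x => by apply Subtype.ext; simp }

theorem fixS_pair_eq_inf {A K : Type*} [Group A] [Group K] (φ : A →* MulAut K) (a z : A) :
    fixS φ {a, z} = fixS φ {a} ⊓ fixS φ {z} := by
  ext k
  constructor
  · intro h
    exact ⟨fun s hs => h s (by rw [Set.mem_singleton_iff.mp hs]; exact Set.mem_insert _ _),
      fun s hs => h s (by rw [Set.mem_singleton_iff.mp hs]; exact Set.mem_insert_of_mem _ rfl)⟩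
  · rintro ⟨h1, h2⟩ s hs
    rcases hs with rfl | hs
    · exact h1 s rfl
    · exact h2 s hs

theorem pi_ord {p : ℕ} [hp : Fact p.Prime] :
    ∀ (n : ℕ) (K : Type u) [Group K] [Finite K] (A : Type v) [Group A] [Fintype A],
      Nat.card K + Nat.card A ≤ n → IsPGroup p A → ¬ p ∣ Nat.card K → ∀ φ : A →* MulAut K,
      ∏ a : A, Nat.card (fixS φ {a}) ^ p ≤
        Nat.card K ^ Nat.card A * Nat.card (fixS φ Set.univ) ^ (Nat.card A * (p - 1)) := by
  intro n
  induction n with
  | zero =>
    intro K _ _ A _ _ hn
    have : 0 < Nat.card K := Nat.card_pos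
    omega
  | succ n ih =>
    intro K _ _ A _ _ hn hA hK φ
    have hp1 : p - 1 + 1 = p := Nat.sub_add_cancel hp.out.one_le
    by_cases hA1 : Subsingleton A
    · have hcard : Nat.card A = 1 := Nat.card_of_subsingleton (1 : A)
      have huniv : (Finset.univ : Finset A) = {1} := by
        ext a
        simp [Subsingleton.elim a 1]
      have h1 : fixS φ {(1 : A)} = ⊤ := by
        ext k
        simp [mem_fixS]
      have h2 : fixS φ (Set.univ : Set A) = ⊤ := by
        ext k
        simp only [mem_fixS, Set.mem_univ, forall_const, Subgroup.mem_top, iff_true]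
        intro a
        rw [Subsingleton.elim a 1]
        simp
      rw [huniv, Finset.prod_singleton, hcard, h1, h2, Subgroup.card_top, pow_one, one_mul,
        ← pow_succ', hp1]
    · rw [not_subsingleton_iff_nontrivial] at hA1
      have hcn : Nontrivial (Subgroup.center A) := hA.center_nontrivial
      have hpc : p ∣ Nat.card (Subgroup.center A) := by
        rcases (hA.to_subgroup (Subgroup.center A)).card_eq_or_dvd with h | h
        · exact absurd h (Finite.one_lt_card).ne'
        · exact h
      obtain ⟨z₀, hz₀⟩ := exists_prime_orderOf_dvd_card' p hpc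
      set z : A := (z₀ : A) with hzdef
      have hzord : orderOf z = p := by rw [hzdef, Subgroup.orderOf_coe]; exact hz₀
      have hzc : ∀ a : A, a * z = z * a := fun a => (Subgroup.mem_center_iff.mp z₀.2 a)
      have hzp : z ^ p = 1 := by rw [← hzord]; exact pow_orderOf_eq_one z
      have hz1 : z ≠ 1 := by
        intro h
        rw [h, orderOf_one] at hzord
        exact hp.out.one_lt.ne hzord
      have hApos : 0 < Nat.card A := Nat.card_pos
      by_cases hφz : φ z = 1
      · -- `z` acts trivially: pass to the quotient of `A`
        set Z := Subgroup.zpowers z with hZ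
        haveI hZn : Z.Normal := by
          refine ⟨fun x hx g => ?_⟩
          obtain ⟨k, rfl⟩ := Subgroup.mem_zpowers_iff.mp hx
          have : g * z ^ k * g⁻¹ = z ^ k := by
            have hc : Commute g (z ^ k) := Commute.zpow_right (hzc g) k
            rw [hc.eq, mul_inv_cancel_right]
          rw [this]
          exact Subgroup.zpow_mem_zpowers z k
        have hZker : Z ≤ φ.ker := by
          rw [hZ, Subgroup.zpowers_le]
          exact MonoidHom.mem_ker.mpr hφz
        have hZcard : Nat.card Z = p := by rw [hZ, Nat.card_zpowers, hzord]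
        let φq : A ⧸ Z →* MulAut K := QuotientGroup.lift Z φ hZker
        have hφq : ∀ a : A, φq (a : A ⧸ Z) = φ a := fun a => rfl
        letI : Fintype (A ⧸ Z) := Fintype.ofFinite _
        have hcardA : Nat.card A = Nat.card (A ⧸ Z) * p := by
          rw [← hZcard]; exact Subgroup.card_eq_card_quotient_mul_card_subgroup Z
        have hQlt : Nat.card (A ⧸ Z) < Nat.card A := by
          have hQpos : 0 < Nat.card (A ⧸ Z) := Nat.card_pos
          have := hp.out.one_lt
          rw [hcardA]; nlinarith
        have hQp : IsPGroup p (A ⧸ Z) := hA.to_quotient Z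
        have ihq := ih K (A ⧸ Z) (by omega) hQp hK φq
        have hfa : ∀ a : A, fixS φq {(a : A ⧸ Z)} = fixS φ {a} := by
          intro a
          ext k
          simp only [mem_fixS, Set.mem_singleton_iff, forall_eq, hφq]
        have hfu : fixS φq (Set.univ : Set (A ⧸ Z)) = fixS φ (Set.univ : Set A) := by
          ext k
          constructor
          · intro h a _
            have := h (a : A ⧸ Z) (Set.mem_univ _)
            rwa [hφq] at this
          · intro h q _
            obtain ⟨a, rfl⟩ := QuotientGroup.mk_surjective q
            rw [hφq]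
            exact h a (Set.mem_univ _)
        have h1 : ∏ a : A, Nat.card (fixS φ {a}) ^ p =
            (∏ q : A ⧸ Z, Nat.card (fixS φq {q}) ^ p) ^ p := by
          rw [← hZcard, ← prod_comp_quotient_mk Z (fun q => Nat.card (fixS φq {q}) ^ Nat.card Z)]
          apply Finset.prod_congr rfl
          intro a _
          rw [hfa]
        rw [h1, ← hfu, hcardA]
        calc (∏ q : A ⧸ Z, Nat.card (fixS φq {q}) ^ p) ^ p
            ≤ (Nat.card K ^ Nat.card (A ⧸ Z) *
                Nat.card (fixS φq Set.univ) ^ (Nat.card (A ⧸ Z) * (p - 1))) ^ p :=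
              Nat.pow_le_pow_left ihq p
          _ = _ := by
            rw [mul_pow, ← pow_mul, ← pow_mul]
            congr 2
            ring
      · -- `z` acts nontrivially: pass to its fixed points
        set K₀ := fixS φ {z} with hK₀
        have hK₀inv : IsInv φ K₀ := isInv_fixS_of_comm φ {z} (by
          intro a s hs
          rw [Set.mem_singleton_iff.mp hs]
          exact hzc a)
        have hK₀top : K₀ ≠ ⊤ := by
          intro h
          apply hφz
          ext k
          have : k ∈ K₀ := by rw [h]; exact Subgroup.mem_top k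
          exact this z rfl
        have hK₀lt : Nat.card K₀ < Nat.card K := by
          have hle : Nat.card K₀ ≤ Nat.card K := Subgroup.card_le_card_group K₀
          have hne : Nat.card K₀ ≠ Nat.card K := fun h => hK₀top ((Subgroup.card_eq_iff_eq_top K₀).mp h)
          omega
        have hK₀p : ¬ p ∣ Nat.card K₀ := fun h => hK (dvd_trans h (Subgroup.card_subgroup_dvd_card K₀))
        have ih0 := ih ↥K₀ A (by omega) hA hK₀p (resHom φ K₀ hK₀inv)
        have hf1 : ∀ a : A, Nat.card (fixS (resHom φ K₀ hK₀inv) {a}) = Nat.card (fixS φ {a, z}) := by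
          intro a
          rw [card_fixS_resHom, fixS_pair_eq_inf]
        have hf2 : Nat.card (fixS (resHom φ K₀ hK₀inv) Set.univ) = Nat.card (fixS φ (Set.univ : Set A)) := by
          rw [card_fixS_resHom]
          have : fixS φ (Set.univ : Set A) ⊓ K₀ = fixS φ (Set.univ : Set A) :=
            inf_eq_left.mpr (fixS_anti φ (Set.subset_univ _))
          rw [this]
        rw [hf2] at ih0
        simp_rw [hf1] at ih0
        -- the inequality for commuting pairs
        have hkc : ∀ a : A, Nat.card K₀ * ∏ i ∈ Finset.range p, Nat.card (fixS φ {a * z ^ i}) ≤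
            Nat.card K * Nat.card (fixS φ {a, z}) ^ p :=
          fun a => kc_general hA a z (hzc a) hzp _ K le_rfl hK φ
        have hprod := Finset.prod_le_prod' (s := (Finset.univ : Finset A)) (fun a _ => hkc a)
        rw [Finset.prod_mul_distrib, Finset.prod_mul_distrib, Finset.prod_const, Finset.prod_const,
          Finset.card_univ, ← Nat.card_eq_fintype_card] at hprod
        have hre : ∏ a : A, ∏ i ∈ Finset.range p, Nat.card (fixS φ {a * z ^ i}) =
            ∏ a : A, Nat.card (fixS φ {a}) ^ p := by
          rw [Finset.prod_comm]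
          have : ∀ i ∈ Finset.range p, ∏ a : A, Nat.card (fixS φ {a * z ^ i}) =
              ∏ a : A, Nat.card (fixS φ {a}) := by
            intro i _
            exact Fintype.prod_equiv (Equiv.mulRight (z ^ i)) _ _ (fun a => rfl)
          rw [Finset.prod_congr rfl this, Finset.prod_const, Finset.card_range, Finset.prod_pow]
        rw [hre] at hprod
        have hK₀pos : 0 < Nat.card K₀ ^ Nat.card A := pow_pos Nat.card_pos _
        apply Nat.le_of_mul_le_mul_left _ hK₀pos
        calc Nat.card K₀ ^ Nat.card A * ∏ a : A, Nat.card (fixS φ {a}) ^ p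
            ≤ Nat.card K ^ Nat.card A * ∏ a : A, Nat.card (fixS φ {a, z}) ^ p := hprod
          _ ≤ Nat.card K ^ Nat.card A * (Nat.card K₀ ^ Nat.card A *
                Nat.card (fixS φ (Set.univ : Set A)) ^ (Nat.card A * (p - 1))) :=
              Nat.mul_le_mul_left _ ih0
          _ = _ := by ring

end prodineq

end Cfsg.Agent.Lib.Helper91
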