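import Cfsg.Agent.Lib.Helper12.D3Defs
import Cfsg.Agent.Lib.Helper65.D4gCOMM

/-! # D3 hive (S2183, helper12): a collection engine for positive root words of `D₄` in characteristic 2 (helper91)

Right-associated words `x_{r₁}(t₁) * (x_{r₂}(t₂) * ( ⋯ * w))` are sorted into the order
`18,13,12,14,19,16,15,21,17,20,22,23` by `simp only [d3col_simps]`-style rewriting with the lemmas `d3col_r_s`
(swap an adjacent inversion `x_s x_r`, `r` before `s`, creating `x_{r+s}(t u)` when `r + s` is a root) and `d3col_m`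
(merge equal roots).  `d3col_pad` pads with the trivial full word `d3col_Z0`, `d3col_nf` compares two sorted full words. -/

set_option autoImplicit false

namespace Cfsg.Agent.Lib.Helper12.D3

open Cfsg Cfsg.Lie Cfsg.Agent.Lib.Helper36 Cfsg.Agent.Lib.Helper75.D4g

variable (K : Type*) [Field K]

/-- swap of commuting root elements inside a right-associated word -/
theorem d3col_c (r s : ℕ)
    (h : r < chevD4.nroots ∧ s < chevD4.nroots ∧ s ≠ r ∧ s ≠ chevD4.neg r ∧ chevD4.commTerms r s = [])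
    (t u : K) (w : GL chevD4.Idx K) : xg K s u * (xg K r t * w) = xg K r t * (xg K s u * w) := by
  have h1 := d4gcomm_nil (K := K) r s h.1 h.2.1 h.2.2.1 h.2.2.2.1 h.2.2.2.2 t u
  rw [← mul_assoc, ← h1, mul_assoc]

/-- swap of non-commuting root elements (characteristic 2) inside a right-associated word -/
theorem d3col_n [CharP K 2] (r s c : ℕ) (e : ℤ) (he : e = 1 ∨ e = -1)
    (h : r < chevD4.nroots ∧ s < chevD4.nroots ∧ s ≠ r ∧ s ≠ chevD4.neg r ∧
      chevD4.commTerms r s = [(c, e, 1, 1)])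
    (t u : K) (w : GL chevD4.Idx K) :
    xg K s u * (xg K r t * w) = xg K r t * (xg K s u * (xg K c (t * u) * w)) := by
  have h1 := d4gcomm_single (K := K) r s c e h.1 h.2.1 h.2.2.1 h.2.2.2.1 h.2.2.2.2 t u
  have e1 : (e : K) * (-t) * u = t * u := by
    rcases he with rfl | rfl
    · push_cast; rw [CharTwo.neg_eq]; ring
    · push_cast; ring
  rw [e1] at h1
  rw [← mul_assoc, h1]
  simp only [mul_assoc]

/-- merge two adjacent elements of the same root -/
theorem d3col_m (r : ℕ) (t u : K) (w : GL chevD4.Idx K) :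
    xg K r t * (xg K r u * w) = xg K r (t + u) * w := by
  unfold xg
  rw [← mul_assoc, ← xGL_add]

theorem d3col_18_13 (t u : K) (w : GL chevD4.Idx K) :
    xg K 13 u * (xg K 18 t * w) = xg K 18 t * (xg K 13 u * w) :=
  d3col_c K 18 13 (by decide +kernel) t u w

theorem d3col_18_12 (t u : K) (w : GL chevD4.Idx K) :
    xg K 12 u * (xg K 18 t * w) = xg K 18 t * (xg K 12 u * w) :=
  d3col_c K 18 12 (by decide +kernel) t u w

theorem d3col_18_14 [CharP K 2] (t u : K) (w : GL chevD4.Idx K) :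
    xg K 14 u * (xg K 18 t * w) = xg K 18 t * (xg K 14 u * (xg K 19 (t * u) * w)) :=
  d3col_n K 18 14 19 (-1) (Or.inr rfl) (by decide +kernel) t u w

theorem d3col_18_19 (t u : K) (w : GL chevD4.Idx K) :
    xg K 19 u * (xg K 18 t * w) = xg K 18 t * (xg K 19 u * w) :=
  d3col_c K 18 19 (by decide +kernel) t u w

theorem d3col_18_16 [CharP K 2] (t u : K) (w : GL chevD4.Idx K) :
    xg K 16 u * (xg K 18 t * w) = xg K 18 t * (xg K 16 u * (xg K 21 (t * u) * w)) :=
  d3col_n K 18 16 21 (-1) (Or.inr rfl) (by decide +kernel) t u w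

theorem d3col_18_15 [CharP K 2] (t u : K) (w : GL chevD4.Idx K) :
    xg K 15 u * (xg K 18 t * w) = xg K 18 t * (xg K 15 u * (xg K 20 (t * u) * w)) :=
  d3col_n K 18 15 20 (-1) (Or.inr rfl) (by decide +kernel) t u w

theorem d3col_18_21 (t u : K) (w : GL chevD4.Idx K) :
    xg K 21 u * (xg K 18 t * w) = xg K 18 t * (xg K 21 u * w) :=
  d3col_c K 18 21 (by decide +kernel) t u w

theorem d3col_18_17 [CharP K 2] (t u : K) (w : GL chevD4.Idx K) :
    xg K 17 u * (xg K 18 t * w) = xg K 18 t * (xg K 17 u * (xg K 22 (t * u) * w)) :=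
  d3col_n K 18 17 22 (-1) (Or.inr rfl) (by decide +kernel) t u w

theorem d3col_18_20 (t u : K) (w : GL chevD4.Idx K) :
    xg K 20 u * (xg K 18 t * w) = xg K 18 t * (xg K 20 u * w) :=
  d3col_c K 18 20 (by decide +kernel) t u w

theorem d3col_18_22 (t u : K) (w : GL chevD4.Idx K) :
    xg K 22 u * (xg K 18 t * w) = xg K 18 t * (xg K 22 u * w) :=
  d3col_c K 18 22 (by decide +kernel) t u w

theorem d3col_18_23 (t u : K) (w : GL chevD4.Idx K) :
    xg K 23 u * (xg K 18 t * w) = xg K 18 t * (xg K 23 u * w) :=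
  d3col_c K 18 23 (by decide +kernel) t u w

theorem d3col_13_12 (t u : K) (w : GL chevD4.Idx K) :
    xg K 12 u * (xg K 13 t * w) = xg K 13 t * (xg K 12 u * w) :=
  d3col_c K 13 12 (by decide +kernel) t u w

theorem d3col_13_14 [CharP K 2] (t u : K) (w : GL chevD4.Idx K) :
    xg K 14 u * (xg K 13 t * w) = xg K 13 t * (xg K 14 u * (xg K 16 (t * u) * w)) :=
  d3col_n K 13 14 16 (1) (Or.inl rfl) (by decide +kernel) t u w

theorem d3col_13_19 [CharP K 2] (t u : K) (w : GL chevD4.Idx K) :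
    xg K 19 u * (xg K 13 t * w) = xg K 13 t * (xg K 19 u * (xg K 21 (t * u) * w)) :=
  d3col_n K 13 19 21 (1) (Or.inl rfl) (by decide +kernel) t u w

theorem d3col_13_16 (t u : K) (w : GL chevD4.Idx K) :
    xg K 16 u * (xg K 13 t * w) = xg K 13 t * (xg K 16 u * w) :=
  d3col_c K 13 16 (by decide +kernel) t u w

theorem d3col_13_15 [CharP K 2] (t u : K) (w : GL chevD4.Idx K) :
    xg K 15 u * (xg K 13 t * w) = xg K 13 t * (xg K 15 u * (xg K 17 (t * u) * w)) :=
  d3col_n K 13 15 17 (1) (Or.inl rfl) (by decide +kernel) t u w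

theorem d3col_13_21 (t u : K) (w : GL chevD4.Idx K) :
    xg K 21 u * (xg K 13 t * w) = xg K 13 t * (xg K 21 u * w) :=
  d3col_c K 13 21 (by decide +kernel) t u w

theorem d3col_13_17 (t u : K) (w : GL chevD4.Idx K) :
    xg K 17 u * (xg K 13 t * w) = xg K 13 t * (xg K 17 u * w) :=
  d3col_c K 13 17 (by decide +kernel) t u w

theorem d3col_13_20 [CharP K 2] (t u : K) (w : GL chevD4.Idx K) :
    xg K 20 u * (xg K 13 t * w) = xg K 13 t * (xg K 20 u * (xg K 22 (t * u) * w)) :=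
  d3col_n K 13 20 22 (1) (Or.inl rfl) (by decide +kernel) t u w

theorem d3col_13_22 (t u : K) (w : GL chevD4.Idx K) :
    xg K 22 u * (xg K 13 t * w) = xg K 13 t * (xg K 22 u * w) :=
  d3col_c K 13 22 (by decide +kernel) t u w

theorem d3col_13_23 (t u : K) (w : GL chevD4.Idx K) :
    xg K 23 u * (xg K 13 t * w) = xg K 13 t * (xg K 23 u * w) :=
  d3col_c K 13 23 (by decide +kernel) t u w

theorem d3col_12_14 [CharP K 2] (t u : K) (w : GL chevD4.Idx K) :
    xg K 14 u * (xg K 12 t * w) = xg K 12 t * (xg K 14 u * (xg K 15 (t * u) * w)) :=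
  d3col_n K 12 14 15 (1) (Or.inl rfl) (by decide +kernel) t u w

theorem d3col_12_19 [CharP K 2] (t u : K) (w : GL chevD4.Idx K) :
    xg K 19 u * (xg K 12 t * w) = xg K 12 t * (xg K 19 u * (xg K 20 (t * u) * w)) :=
  d3col_n K 12 19 20 (1) (Or.inl rfl) (by decide +kernel) t u w

theorem d3col_12_16 [CharP K 2] (t u : K) (w : GL chevD4.Idx K) :
    xg K 16 u * (xg K 12 t * w) = xg K 12 t * (xg K 16 u * (xg K 17 (t * u) * w)) :=
  d3col_n K 12 16 17 (1) (Or.inl rfl) (by decide +kernel) t u w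

theorem d3col_12_15 (t u : K) (w : GL chevD4.Idx K) :
    xg K 15 u * (xg K 12 t * w) = xg K 12 t * (xg K 15 u * w) :=
  d3col_c K 12 15 (by decide +kernel) t u w

theorem d3col_12_21 [CharP K 2] (t u : K) (w : GL chevD4.Idx K) :
    xg K 21 u * (xg K 12 t * w) = xg K 12 t * (xg K 21 u * (xg K 22 (t * u) * w)) :=
  d3col_n K 12 21 22 (1) (Or.inl rfl) (by decide +kernel) t u w

theorem d3col_12_17 (t u : K) (w : GL chevD4.Idx K) :
    xg K 17 u * (xg K 12 t * w) = xg K 12 t * (xg K 17 u * w) :=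
  d3col_c K 12 17 (by decide +kernel) t u w

theorem d3col_12_20 (t u : K) (w : GL chevD4.Idx K) :
    xg K 20 u * (xg K 12 t * w) = xg K 12 t * (xg K 20 u * w) :=
  d3col_c K 12 20 (by decide +kernel) t u w

theorem d3col_12_22 (t u : K) (w : GL chevD4.Idx K) :
    xg K 22 u * (xg K 12 t * w) = xg K 12 t * (xg K 22 u * w) :=
  d3col_c K 12 22 (by decide +kernel) t u w

theorem d3col_12_23 (t u : K) (w : GL chevD4.Idx K) :
    xg K 23 u * (xg K 12 t * w) = xg K 12 t * (xg K 23 u * w) :=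
  d3col_c K 12 23 (by decide +kernel) t u w

theorem d3col_14_19 (t u : K) (w : GL chevD4.Idx K) :
    xg K 19 u * (xg K 14 t * w) = xg K 14 t * (xg K 19 u * w) :=
  d3col_c K 14 19 (by decide +kernel) t u w

theorem d3col_14_16 (t u : K) (w : GL chevD4.Idx K) :
    xg K 16 u * (xg K 14 t * w) = xg K 14 t * (xg K 16 u * w) :=
  d3col_c K 14 16 (by decide +kernel) t u w

theorem d3col_14_15 (t u : K) (w : GL chevD4.Idx K) :
    xg K 15 u * (xg K 14 t * w) = xg K 14 t * (xg K 15 u * w) :=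
  d3col_c K 14 15 (by decide +kernel) t u w

theorem d3col_14_21 (t u : K) (w : GL chevD4.Idx K) :
    xg K 21 u * (xg K 14 t * w) = xg K 14 t * (xg K 21 u * w) :=
  d3col_c K 14 21 (by decide +kernel) t u w

theorem d3col_14_17 (t u : K) (w : GL chevD4.Idx K) :
    xg K 17 u * (xg K 14 t * w) = xg K 14 t * (xg K 17 u * w) :=
  d3col_c K 14 17 (by decide +kernel) t u w

theorem d3col_14_20 (t u : K) (w : GL chevD4.Idx K) :
    xg K 20 u * (xg K 14 t * w) = xg K 14 t * (xg K 20 u * w) :=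
  d3col_c K 14 20 (by decide +kernel) t u w

theorem d3col_14_22 [CharP K 2] (t u : K) (w : GL chevD4.Idx K) :
    xg K 22 u * (xg K 14 t * w) = xg K 14 t * (xg K 22 u * (xg K 23 (t * u) * w)) :=
  d3col_n K 14 22 23 (1) (Or.inl rfl) (by decide +kernel) t u w

theorem d3col_14_23 (t u : K) (w : GL chevD4.Idx K) :
    xg K 23 u * (xg K 14 t * w) = xg K 14 t * (xg K 23 u * w) :=
  d3col_c K 14 23 (by decide +kernel) t u w

theorem d3col_19_16 (t u : K) (w : GL chevD4.Idx K) :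
    xg K 16 u * (xg K 19 t * w) = xg K 19 t * (xg K 16 u * w) :=
  d3col_c K 19 16 (by decide +kernel) t u w

theorem d3col_19_15 (t u : K) (w : GL chevD4.Idx K) :
    xg K 15 u * (xg K 19 t * w) = xg K 19 t * (xg K 15 u * w) :=
  d3col_c K 19 15 (by decide +kernel) t u w

theorem d3col_19_21 (t u : K) (w : GL chevD4.Idx K) :
    xg K 21 u * (xg K 19 t * w) = xg K 19 t * (xg K 21 u * w) :=
  d3col_c K 19 21 (by decide +kernel) t u w

theorem d3col_19_17 [CharP K 2] (t u : K) (w : GL chevD4.Idx K) :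
    xg K 17 u * (xg K 19 t * w) = xg K 19 t * (xg K 17 u * (xg K 23 (t * u) * w)) :=
  d3col_n K 19 17 23 (-1) (Or.inr rfl) (by decide +kernel) t u w

theorem d3col_19_20 (t u : K) (w : GL chevD4.Idx K) :
    xg K 20 u * (xg K 19 t * w) = xg K 19 t * (xg K 20 u * w) :=
  d3col_c K 19 20 (by decide +kernel) t u w

theorem d3col_19_22 (t u : K) (w : GL chevD4.Idx K) :
    xg K 22 u * (xg K 19 t * w) = xg K 19 t * (xg K 22 u * w) :=
  d3col_c K 19 22 (by decide +kernel) t u w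

theorem d3col_19_23 (t u : K) (w : GL chevD4.Idx K) :
    xg K 23 u * (xg K 19 t * w) = xg K 19 t * (xg K 23 u * w) :=
  d3col_c K 19 23 (by decide +kernel) t u w

theorem d3col_16_15 (t u : K) (w : GL chevD4.Idx K) :
    xg K 15 u * (xg K 16 t * w) = xg K 16 t * (xg K 15 u * w) :=
  d3col_c K 16 15 (by decide +kernel) t u w

theorem d3col_16_21 (t u : K) (w : GL chevD4.Idx K) :
    xg K 21 u * (xg K 16 t * w) = xg K 16 t * (xg K 21 u * w) :=
  d3col_c K 16 21 (by decide +kernel) t u w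

theorem d3col_16_17 (t u : K) (w : GL chevD4.Idx K) :
    xg K 17 u * (xg K 16 t * w) = xg K 16 t * (xg K 17 u * w) :=
  d3col_c K 16 17 (by decide +kernel) t u w

theorem d3col_16_20 [CharP K 2] (t u : K) (w : GL chevD4.Idx K) :
    xg K 20 u * (xg K 16 t * w) = xg K 16 t * (xg K 20 u * (xg K 23 (t * u) * w)) :=
  d3col_n K 16 20 23 (-1) (Or.inr rfl) (by decide +kernel) t u w

theorem d3col_16_22 (t u : K) (w : GL chevD4.Idx K) :
    xg K 22 u * (xg K 16 t * w) = xg K 16 t * (xg K 22 u * w) :=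
  d3col_c K 16 22 (by decide +kernel) t u w

theorem d3col_16_23 (t u : K) (w : GL chevD4.Idx K) :
    xg K 23 u * (xg K 16 t * w) = xg K 16 t * (xg K 23 u * w) :=
  d3col_c K 16 23 (by decide +kernel) t u w

theorem d3col_15_21 [CharP K 2] (t u : K) (w : GL chevD4.Idx K) :
    xg K 21 u * (xg K 15 t * w) = xg K 15 t * (xg K 21 u * (xg K 23 (t * u) * w)) :=
  d3col_n K 15 21 23 (-1) (Or.inr rfl) (by decide +kernel) t u w

theorem d3col_15_17 (t u : K) (w : GL chevD4.Idx K) :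
    xg K 17 u * (xg K 15 t * w) = xg K 15 t * (xg K 17 u * w) :=
  d3col_c K 15 17 (by decide +kernel) t u w

theorem d3col_15_20 (t u : K) (w : GL chevD4.Idx K) :
    xg K 20 u * (xg K 15 t * w) = xg K 15 t * (xg K 20 u * w) :=
  d3col_c K 15 20 (by decide +kernel) t u w

theorem d3col_15_22 (t u : K) (w : GL chevD4.Idx K) :
    xg K 22 u * (xg K 15 t * w) = xg K 15 t * (xg K 22 u * w) :=
  d3col_c K 15 22 (by decide +kernel) t u w

theorem d3col_15_23 (t u : K) (w : GL chevD4.Idx K) :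
    xg K 23 u * (xg K 15 t * w) = xg K 15 t * (xg K 23 u * w) :=
  d3col_c K 15 23 (by decide +kernel) t u w

theorem d3col_21_17 (t u : K) (w : GL chevD4.Idx K) :
    xg K 17 u * (xg K 21 t * w) = xg K 21 t * (xg K 17 u * w) :=
  d3col_c K 21 17 (by decide +kernel) t u w

theorem d3col_21_20 (t u : K) (w : GL chevD4.Idx K) :
    xg K 20 u * (xg K 21 t * w) = xg K 21 t * (xg K 20 u * w) :=
  d3col_c K 21 20 (by decide +kernel) t u w

theorem d3col_21_22 (t u : K) (w : GL chevD4.Idx K) :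
    xg K 22 u * (xg K 21 t * w) = xg K 21 t * (xg K 22 u * w) :=
  d3col_c K 21 22 (by decide +kernel) t u w

theorem d3col_21_23 (t u : K) (w : GL chevD4.Idx K) :
    xg K 23 u * (xg K 21 t * w) = xg K 21 t * (xg K 23 u * w) :=
  d3col_c K 21 23 (by decide +kernel) t u w

theorem d3col_17_20 (t u : K) (w : GL chevD4.Idx K) :
    xg K 20 u * (xg K 17 t * w) = xg K 17 t * (xg K 20 u * w) :=
  d3col_c K 17 20 (by decide +kernel) t u w

theorem d3col_17_22 (t u : K) (w : GL chevD4.Idx K) :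
    xg K 22 u * (xg K 17 t * w) = xg K 17 t * (xg K 22 u * w) :=
  d3col_c K 17 22 (by decide +kernel) t u w

theorem d3col_17_23 (t u : K) (w : GL chevD4.Idx K) :
    xg K 23 u * (xg K 17 t * w) = xg K 17 t * (xg K 23 u * w) :=
  d3col_c K 17 23 (by decide +kernel) t u w

theorem d3col_20_22 (t u : K) (w : GL chevD4.Idx K) :
    xg K 22 u * (xg K 20 t * w) = xg K 20 t * (xg K 22 u * w) :=
  d3col_c K 20 22 (by decide +kernel) t u w

theorem d3col_20_23 (t u : K) (w : GL chevD4.Idx K) :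
    xg K 23 u * (xg K 20 t * w) = xg K 20 t * (xg K 23 u * w) :=
  d3col_c K 20 23 (by decide +kernel) t u w

theorem d3col_22_23 (t u : K) (w : GL chevD4.Idx K) :
    xg K 23 u * (xg K 22 t * w) = xg K 22 t * (xg K 23 u * w) :=
  d3col_c K 22 23 (by decide +kernel) t u w

theorem d3col_m_18 (t u : K) (w : GL chevD4.Idx K) :
    xg K 18 t * (xg K 18 u * w) = xg K 18 (t + u) * w := d3col_m K 18 t u w

theorem d3col_m_13 (t u : K) (w : GL chevD4.Idx K) :
    xg K 13 t * (xg K 13 u * w) = xg K 13 (t + u) * w := d3col_m K 13 t u w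

theorem d3col_m_12 (t u : K) (w : GL chevD4.Idx K) :
    xg K 12 t * (xg K 12 u * w) = xg K 12 (t + u) * w := d3col_m K 12 t u w

theorem d3col_m_14 (t u : K) (w : GL chevD4.Idx K) :
    xg K 14 t * (xg K 14 u * w) = xg K 14 (t + u) * w := d3col_m K 14 t u w

theorem d3col_m_19 (t u : K) (w : GL chevD4.Idx K) :
    xg K 19 t * (xg K 19 u * w) = xg K 19 (t + u) * w := d3col_m K 19 t u w

theorem d3col_m_16 (t u : K) (w : GL chevD4.Idx K) :
    xg K 16 t * (xg K 16 u * w) = xg K 16 (t + u) * w := d3col_m K 16 t u w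

theorem d3col_m_15 (t u : K) (w : GL chevD4.Idx K) :
    xg K 15 t * (xg K 15 u * w) = xg K 15 (t + u) * w := d3col_m K 15 t u w

theorem d3col_m_21 (t u : K) (w : GL chevD4.Idx K) :
    xg K 21 t * (xg K 21 u * w) = xg K 21 (t + u) * w := d3col_m K 21 t u w

theorem d3col_m_17 (t u : K) (w : GL chevD4.Idx K) :
    xg K 17 t * (xg K 17 u * w) = xg K 17 (t + u) * w := d3col_m K 17 t u w

theorem d3col_m_20 (t u : K) (w : GL chevD4.Idx K) :
    xg K 20 t * (xg K 20 u * w) = xg K 20 (t + u) * w := d3col_m K 20 t u w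

theorem d3col_m_22 (t u : K) (w : GL chevD4.Idx K) :
    xg K 22 t * (xg K 22 u * w) = xg K 22 (t + u) * w := d3col_m K 22 t u w

theorem d3col_m_23 (t u : K) (w : GL chevD4.Idx K) :
    xg K 23 t * (xg K 23 u * w) = xg K 23 (t + u) * w := d3col_m K 23 t u w

/-- the trivial full word -/
noncomputable def d3col_Z0 : GL chevD4.Idx K :=
  xg K 18 0 * (xg K 13 0 * (xg K 12 0 * (xg K 14 0 * (xg K 19 0 * (xg K 16 0 * (xg K 15 0 * (xg K 21 0 * (xg K 17 0 * (xg K 20 0 * (xg K 22 0 * (xg K 23 0 * 1)))))))))))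

theorem d3col_Z0_eq : d3col_Z0 K = 1 := by
  unfold d3col_Z0 xg
  simp only [xGL_zero, mul_one]

/-- padding: to prove `L = R` it suffices to prove `L * Z0 = R * Z0` -/
theorem d3col_pad (L R : GL chevD4.Idx K) (h : L * d3col_Z0 K = R * d3col_Z0 K) : L = R :=
  mul_right_cancel h

/-- comparison of two sorted full words -/
theorem d3col_nf (a0 a1 a2 a3 a4 a5 a6 a7 a8 a9 a10 a11 b0 b1 b2 b3 b4 b5 b6 b7 b8 b9 b10 b11 : K)
    (h0 : a0 = b0) (h1 : a1 = b1) (h2 : a2 = b2) (h3 : a3 = b3) (h4 : a4 = b4) (h5 : a5 = b5)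
    (h6 : a6 = b6) (h7 : a7 = b7) (h8 : a8 = b8) (h9 : a9 = b9) (h10 : a10 = b10) (h11 : a11 = b11) :
    xg K 18 a0 * (xg K 13 a1 * (xg K 12 a2 * (xg K 14 a3 * (xg K 19 a4 * (xg K 16 a5 * (xg K 15 a6 * (xg K 21 a7 * (xg K 17 a8 * (xg K 20 a9 * (xg K 22 a10 * (xg K 23 a11 * 1))))))))))) =
    xg K 18 b0 * (xg K 13 b1 * (xg K 12 b2 * (xg K 14 b3 * (xg K 19 b4 * (xg K 16 b5 * (xg K 15 b6 * (xg K 21 b7 * (xg K 17 b8 * (xg K 20 b9 * (xg K 22 b10 * (xg K 23 b11 * 1))))))))))) := by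
  rw [h0, h1, h2, h3, h4, h5, h6, h7, h8, h9, h10, h11]

/-- even numerals vanish in characteristic 2 -/
theorem d3col_two [CharP K 2] : (2 : K) = 0 ∧ (4 : K) = 0 ∧ (6 : K) = 0 ∧ (8 : K) = 0 ∧ (10 : K) = 0 ∧
    (12 : K) = 0 ∧ (14 : K) = 0 ∧ (16 : K) = 0 := by
  have h2 : (2 : K) = 0 := CharP.ofNat_eq_zero K 2
  refine ⟨h2, ?_, ?_, ?_, ?_, ?_, ?_, ?_⟩
  · rw [show (4 : K) = 2 * 2 by norm_num, h2, mul_zero]
  · rw [show (6 : K) = 2 * 3 by norm_num, h2, zero_mul]
  · rw [show (8 : K) = 2 * 4 by norm_num, h2, zero_mul]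
  · rw [show (10 : K) = 2 * 5 by norm_num, h2, zero_mul]
  · rw [show (12 : K) = 2 * 6 by norm_num, h2, zero_mul]
  · rw [show (14 : K) = 2 * 7 by norm_num, h2, zero_mul]
  · rw [show (16 : K) = 2 * 8 by norm_num, h2, zero_mul]

/-! ## Recipe (see `Cfsg/Agent/Lib/Helper91/D3ColEx.lean` for a complete example)

To prove `A * X * A⁻¹ = Y` (all of `A`, `X`, `Y` products of positive root elements `xg K r _`):
```
  obtain ⟨h2, h4, h6, h8, h10, h12, h14, h16⟩ := d3col_two K
  rw [mul_inv_eq_iff_eq_mul]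
  apply d3col_pad
  unfold W V T xa xab x2ab d3col_Z0
  simp only [mul_assoc]
  simp only [SIMPSET]          -- needs `set_option maxHeartbeats 0 in` (about 10 s)
  apply d3col_nf
  all_goals (try simp only [map_add, map_mul, map_zero, h3, ht, tr3, nm])
  all_goals (rw [← CharTwo.add_eq_zero]; ring_nf;
    try simp only [h2, h4, h6, h8, h10, h12, h14, h16, mul_zero, add_zero])
```
where SIMPSET is the following list of 78 lemmas:
d3col_18_13 K, d3col_18_12 K, d3col_18_14 K, d3col_18_19 K, d3col_18_16 K, d3col_18_15 K, d3col_18_21 K,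
d3col_18_17 K, d3col_18_20 K, d3col_18_22 K, d3col_18_23 K, d3col_13_12 K, d3col_13_14 K, d3col_13_19 K,
d3col_13_16 K, d3col_13_15 K, d3col_13_21 K, d3col_13_17 K, d3col_13_20 K, d3col_13_22 K, d3col_13_23 K,
d3col_12_14 K, d3col_12_19 K, d3col_12_16 K, d3col_12_15 K, d3col_12_21 K, d3col_12_17 K, d3col_12_20 K,
d3col_12_22 K, d3col_12_23 K, d3col_14_19 K, d3col_14_16 K, d3col_14_15 K, d3col_14_21 K, d3col_14_17 K,
d3col_14_20 K, d3col_14_22 K, d3col_14_23 K, d3col_19_16 K, d3col_19_15 K, d3col_19_21 K, d3col_19_17 K,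
d3col_19_20 K, d3col_19_22 K, d3col_19_23 K, d3col_16_15 K, d3col_16_21 K, d3col_16_17 K, d3col_16_20 K,
d3col_16_22 K, d3col_16_23 K, d3col_15_21 K, d3col_15_17 K, d3col_15_20 K, d3col_15_22 K, d3col_15_23 K,
d3col_21_17 K, d3col_21_20 K, d3col_21_22 K, d3col_21_23 K, d3col_17_20 K, d3col_17_22 K, d3col_17_23 K,
d3col_20_22 K, d3col_20_23 K, d3col_22_23 K, d3col_m_18 K, d3col_m_13 K, d3col_m_12 K, d3col_m_14 K,
d3col_m_19 K, d3col_m_16 K, d3col_m_15 K, d3col_m_21 K, d3col_m_17 K, d3col_m_20 K, d3col_m_22 K, d3col_m_23 K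
-/

end Cfsg.Agent.Lib.Helper12.D3
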