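import Cfsg.Agent.Lib.Helper91.D3Col
set_option autoImplicit false
set_option linter.unusedSimpArgs false

/-! # D3 hive (S2183): the formula `conj_a` (tag D3-CA) proved with the collection engine `D3Col` (helper91),
under the name `d3colex_conj_a` (same statement as the skeleton's `conj_a`). -/
namespace Cfsg.Agent.Lib.Helper12.D3
open Cfsg Cfsg.Lie Cfsg.Agent.Lib.Helper36 Cfsg.Agent.Lib.Helper75.D4g
variable (K : Type*) [Field K] (φ : K →+* K)

set_option maxHeartbeats 0 in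
theorem d3colex_conj_a [CharP K 2] (h3 : ∀ x : K, φ (φ (φ x)) = x) (σ t : K) (ht : φ t = t) (S c d e : K) :
    ∃ e' : K, xa K φ σ * V K φ t S c d e * (xa K φ σ)⁻¹ =
      V K φ t (S + σ * t) (c + φ S * σ + S * φ σ + σ * φ σ * t)
        (d + (φ (φ S) * σ * φ σ + φ S * σ * φ (φ σ) + S * φ σ * φ (φ σ)) + tr3 K φ c σ + nm K φ σ * t) e' := by
  refine ⟨φ (φ S) * σ * φ σ * t + φ S * φ (φ S) * σ + φ S * σ * φ (φ σ) * t + S * φ (φ S) * φ σ + S * φ S * φ (φ σ)
    + S * φ σ * φ (φ σ) * t + e + σ * φ σ * φ (φ σ) * t ^ 2, ?_⟩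
  obtain ⟨h2, h4, h6, h8, h10, h12, h14, h16⟩ := d3col_two K
  rw [mul_inv_eq_iff_eq_mul]
  apply d3col_pad
  unfold V T xa xab x2ab d3col_Z0
  simp only [mul_assoc]
  simp only [d3col_18_13 K, d3col_18_12 K, d3col_18_14 K, d3col_18_19 K, d3col_18_16 K, d3col_18_15 K, d3col_18_21 K, d3col_18_17 K, d3col_18_20 K, d3col_18_22 K, d3col_18_23 K, d3col_13_12 K, d3col_13_14 K, d3col_13_19 K, d3col_13_16 K, d3col_13_15 K, d3col_13_21 K, d3col_13_17 K, d3col_13_20 K, d3col_13_22 K, d3col_13_23 K, d3col_12_14 K, d3col_12_19 K, d3col_12_16 K, d3col_12_15 K, d3col_12_21 K, d3col_12_17 K, d3col_12_20 K, d3col_12_22 K, d3col_12_23 K, d3col_14_19 K, d3col_14_16 K, d3col_14_15 K, d3col_14_21 K, d3col_14_17 K, d3col_14_20 K, d3col_14_22 K, d3col_14_23 K, d3col_19_16 K, d3col_19_15 K, d3col_19_21 K, d3col_19_17 K, d3col_19_20 K, d3col_19_22 K, d3col_19_23 K, d3col_16_15 K, d3col_16_21 K, d3col_16_17 K, d3col_16_20 K, d3col_16_22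 K, d3col_16_23 K, d3col_15_21 K, d3col_15_17 K, d3col_15_20 K, d3col_15_22 K, d3col_15_23 K, d3col_21_17 K, d3col_21_20 K, d3col_21_22 K, d3col_21_23 K, d3col_17_20 K, d3col_17_22 K, d3col_17_23 K, d3col_20_22 K, d3col_20_23 K, d3col_22_23 K, d3col_m_18 K, d3col_m_13 K, d3col_m_12 K, d3col_m_14 K, d3col_m_19 K, d3col_m_16 K, d3col_m_15 K, d3col_m_21 K, d3col_m_17 K, d3col_m_20 K, d3col_m_22 K, d3col_m_23 K]
  apply d3col_nf
  all_goals (try simp only [map_add, map_mul, h3, ht, tr3, nm])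
  all_goals (rw [← CharTwo.add_eq_zero]; ring_nf; try simp only [h2, h4, h6, h8, h10, h12, h14, h16, mul_zero, add_zero])
end Cfsg.Agent.Lib.Helper12.D3
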