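import Mathlib
import Cfsg.Prelude.Def_Local
import Cfsg.Agent.Lib.Helper91.Components
import Cfsg.Agent.Lib.Helper22.FStar

set_option autoImplicit false

namespace Cfsg.Agent.Lib.Helper91

open Cfsg
open scoped commutatorElement

universe u

section diagonal

variable {G : Type u} [Group G]

theorem commutatorElement_mul_left_of_commute {k z y : G} (hz : z * y = y * z) :
    ⁅k * z, y⁆ = ⁅k, y⁆ := by
  rw [commutatorElement_def, commutatorElement_def, mul_inv_rev]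
  calc k * z * y * (z⁻¹ * k⁻¹) * y⁻¹ = k * (z * y) * z⁻¹ * k⁻¹ * y⁻¹ := by group
    _ = k * (y * z) * z⁻¹ * k⁻¹ * y⁻¹ := by rw [hz]
    _ = k * y * k⁻¹ * y⁻¹ := by group

theorem commutatorElement_mul_right_of_commute {k z y : G} (hz : z * y = y * z) :
    ⁅y, k * z⁆ = ⁅y, k⁆ := by
  rw [← commutatorElement_inv (k * z) y, commutatorElement_mul_left_of_commute hz,
    commutatorElement_inv]

/-- If `Z` commutes elementwise with `M ⊇ K ⊔ Z`-elements, then `⁅K ⊔ Z, K ⊔ Z⁆ ≤ K`. -/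
theorem commutator_sup_central_le {K Z M : Subgroup G} (hKM : K ≤ M) (hZM : Z ≤ M)
    (hZ : ∀ z ∈ Z, ∀ m ∈ M, z * m = m * z) : ⁅K ⊔ Z, K ⊔ Z⁆ ≤ K := by
  rw [Subgroup.commutator_le]
  intro g1 hg1 g2 hg2
  have hc : ∀ k ∈ K, ∀ z ∈ Z, k * z = z * k := fun k hk z hz => (hZ z hz k (hKM hk)).symm
  obtain ⟨k1, hk1, z1, hz1, rfl⟩ := exists_mul_of_mem_sup_of_commute hc hg1
  obtain ⟨k2, hk2, z2, hz2, rfl⟩ := exists_mul_of_mem_sup_of_commute hc hg2
  have h1 : ⁅k1 * z1, k2 * z2⁆ = ⁅k1, k2 * z2⁆ :=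
    commutatorElement_mul_left_of_commute
      (hZ z1 hz1 (k2 * z2) (M.mul_mem (hKM hk2) (hZM hz2)))
  have h2 : ⁅k1, k2 * z2⁆ = ⁅k1, k2⁆ :=
    commutatorElement_mul_right_of_commute (hZ z2 hz2 k1 (hKM hk1))
  rw [h1, h2]
  exact Subgroup.commutator_mem_commutator hk1 hk2 |> fun h => by
    have : ⁅K, K⁆ ≤ K := Subgroup.commutator_le_self K
    exact this h

variable [Finite G]

/-- The "diagonal" of `L L^a` is maximal modulo the centre. -/
theorem diagonal_sup_zpowers_eq (a : G) (L : Subgroup G) (hL : IsComponent L)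
    (hLa : L.map (MulAut.conj a).toMonoidHom ≠ L) (x : G)
    (hxM : x ∈ L ⊔ L.map (MulAut.conj a).toMonoidHom)
    (hxJ : x ∉ Subgroup.closure {y : G | ∃ l ∈ L, y = l * (a * l * a⁻¹)} ⊔
      ((L ⊔ L.map (MulAut.conj a).toMonoidHom) ⊓
        Subgroup.centralizer ((L ⊔ L.map (MulAut.conj a).toMonoidHom : Subgroup G) : Set G))) :
    Subgroup.closure {y : G | ∃ l ∈ L, y = l * (a * l * a⁻¹)} ⊔ Subgroup.zpowers x =
      L ⊔ L.map (MulAut.conj a).toMonoidHom := by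
  set L' : Subgroup G := L.map (MulAut.conj a).toMonoidHom with hL'def
  set M : Subgroup G := L ⊔ L' with hM
  set J : Subgroup G := Subgroup.closure {y : G | ∃ l ∈ L, y = l * (a * l * a⁻¹)} with hJ
  set Z : Subgroup G := M ⊓ Subgroup.centralizer (M : Set G) with hZ
  set K : Subgroup G := J ⊔ Subgroup.zpowers x with hK
  have hL'c : IsComponent L' := Cfsg.Agent.Lib.Helper22.isComponent_map_equiv (MulAut.conj a) hL
  have hcomm : ∀ l ∈ L, ∀ l' ∈ L', l * l' = l' * l := component_commute_of_ne hL hL'c (Ne.symm hLa)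
  have hconj : ∀ l ∈ L, a * l * a⁻¹ ∈ L' := fun l hl => ⟨l, hl, by simp [MulAut.conj_apply]⟩
  have hLM : L ≤ M := le_sup_left
  have hL'M : L' ≤ M := le_sup_right
  have hJgen : ∀ l ∈ L, l * (a * l * a⁻¹) ∈ J := fun l hl => Subgroup.subset_closure ⟨l, hl, rfl⟩
  have hJM : J ≤ M := by
    rw [hJ, Subgroup.closure_le]
    rintro y ⟨l, hl, rfl⟩
    exact M.mul_mem (hLM hl) (hL'M (hconj l hl))
  have hKM : K ≤ M := sup_le hJM (by rw [Subgroup.zpowers_le]; exact hxM)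
  have hZM : Z ≤ M := inf_le_left
  have hZc : ∀ z ∈ Z, ∀ m ∈ M, z * m = m * z := fun z hz m hm =>
    (Subgroup.mem_centralizer_iff.mp (Subgroup.mem_inf.mp hz).2 m hm).symm
  apply le_antisymm hKM
  -- the subgroup N of L
  have hNnormal : (((K ⊔ Z) ⊓ L).subgroupOf L).Normal := by
    refine ⟨fun n hn l => ?_⟩
    rw [Subgroup.mem_subgroupOf] at hn ⊢
    obtain ⟨hn1, hn2⟩ := Subgroup.mem_inf.mp hn
    refine Subgroup.mem_inf.mpr ⟨?_, ?_⟩
    · -- conjugation by l agrees with conjugation by l * l^a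
      have hla : (a * (l : G) * a⁻¹) * (n : G) = (n : G) * (a * (l : G) * a⁻¹) :=
        (hcomm n n.2 _ (hconj l l.2)).symm
      have heq : ((l * n * l⁻¹ : L) : G) =
          ((l : G) * (a * l * a⁻¹)) * n * ((l : G) * (a * l * a⁻¹))⁻¹ := by
        simp only [Subgroup.coe_mul, Subgroup.coe_inv]
        calc (l : G) * n * (l : G)⁻¹
            = (l : G) * ((n : G) * (a * (l : G) * a⁻¹)) * (a * (l : G) * a⁻¹)⁻¹ * (l : G)⁻¹ := by
              group
          _ = (l : G) * ((a * (l : G) * a⁻¹) * (n : G)) * (a * (l : G) * a⁻¹)⁻¹ * (l : G)⁻¹ := by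
              rw [hla]
          _ = (l : G) * (a * (l : G) * a⁻¹) * n * ((l : G) * (a * (l : G) * a⁻¹))⁻¹ := by
              group
      rw [heq]
      have hJK : (l : G) * (a * l * a⁻¹) ∈ K ⊔ Z :=
        (le_sup_left : K ≤ K ⊔ Z) ((le_sup_left : J ≤ K) (hJgen l l.2))
      exact (K ⊔ Z).mul_mem ((K ⊔ Z).mul_mem hJK hn1) ((K ⊔ Z).inv_mem hJK)
    · exact (l * n * l⁻¹).2
  have := hNnormal
  rcases normal_eq_top_or_le_center_of_isQuasisimple hL.2 (((K ⊔ Z) ⊓ L).subgroupOf L) with h | h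
  · -- L ≤ K ⊔ Z
    have hLKZ : L ≤ K ⊔ Z := by
      have : L ≤ (K ⊔ Z) ⊓ L := by
        rw [← Subgroup.subgroupOf_eq_top]; exact h
      exact this.trans inf_le_left
    have hL'KZ : L' ≤ K ⊔ Z := by
      rintro y ⟨l, hl, rfl⟩
      have h1 : l * (a * l * a⁻¹) ∈ K ⊔ Z :=
        (le_sup_left : K ≤ K ⊔ Z) ((le_sup_left : J ≤ K) (hJgen l hl))
      have h2 : a * l * a⁻¹ = l⁻¹ * (l * (a * l * a⁻¹)) := by group
      show (MulAut.conj a) l ∈ K ⊔ Z
      rw [MulAut.conj_apply, h2]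
      exact (K ⊔ Z).mul_mem ((K ⊔ Z).inv_mem (hLKZ hl)) h1
    have hcl := commutator_sup_central_le hKM hZM hZc
    have h1 : L ≤ K := by
      calc L = ⁅L, L⁆ := (Cfsg.Agent.Lib.Helper22.component_perfect hL).symm
        _ ≤ ⁅K ⊔ Z, K ⊔ Z⁆ := Subgroup.commutator_mono hLKZ hLKZ
        _ ≤ K := hcl
    have h2 : L' ≤ K := by
      calc L' = ⁅L', L'⁆ := (Cfsg.Agent.Lib.Helper22.component_perfect hL'c).symm
        _ ≤ ⁅K ⊔ Z, K ⊔ Z⁆ := Subgroup.commutator_mono hL'KZ hL'KZ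
        _ ≤ K := hcl
    exact sup_le h1 h2
  · -- contradiction
    exfalso
    apply hxJ
    obtain ⟨l1, hl1, l2', hl2', hx⟩ := exists_mul_of_mem_sup_of_commute hcomm hxM
    obtain ⟨l2, hl2, rfl⟩ := hl2'
    have hl2a : (MulAut.conj a).toMonoidHom l2 = a * l2 * a⁻¹ := by simp [MulAut.conj_apply]
    rw [hl2a] at hx
    set y : G := l1 * l2⁻¹ with hy
    have hyL : y ∈ L := L.mul_mem hl1 (L.inv_mem hl2)
    have hxeq : x = y * (l2 * (a * l2 * a⁻¹)) := by rw [hx, hy]; group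
    have hyK : y ∈ K ⊔ Z := by
      have : y = x * (l2 * (a * l2 * a⁻¹))⁻¹ := by rw [hxeq]; group
      rw [this]
      apply (le_sup_left : K ≤ K ⊔ Z)
      exact K.mul_mem ((le_sup_right : Subgroup.zpowers x ≤ K) (Subgroup.mem_zpowers x))
        (K.inv_mem ((le_sup_left : J ≤ K) (hJgen l2 hl2)))
    have hyN : (⟨y, hyL⟩ : L) ∈ ((K ⊔ Z) ⊓ L).subgroupOf L :=
      Subgroup.mem_subgroupOf.mpr (Subgroup.mem_inf.mpr ⟨hyK, hyL⟩)
    have hycen := Subgroup.mem_center_iff.mp (h hyN)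
    have hyZ : y ∈ Z := by
      refine Subgroup.mem_inf.mpr ⟨hLM hyL, ?_⟩
      have hMy : M ≤ Subgroup.centralizer ({y} : Set G) := by
        apply sup_le
        · intro l hl
          rw [Subgroup.mem_centralizer_singleton_iff]
          have := hycen ⟨l, hl⟩
          exact congrArg Subtype.val this
        · intro l' hl'
          rw [Subgroup.mem_centralizer_singleton_iff]
          exact (hcomm y hyL l' hl').symm
      rw [Subgroup.mem_centralizer_iff]
      intro m hm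
      have := hMy hm
      rw [Subgroup.mem_centralizer_singleton_iff] at this
      exact this
    rw [hxeq]
    exact Subgroup.mul_mem _ ((le_sup_right : Z ≤ J ⊔ Z) hyZ) ((le_sup_left : J ≤ J ⊔ Z) (hJgen l2 hl2))

end diagonal

end Cfsg.Agent.Lib.Helper91
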