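import Mathlib
import Cfsg.Prelude.Def_Solvable
import Cfsg.Agent.Lib.Helper91.WielandtCriterion
import Cfsg.Agent.Lib.Helper91.Matsuyama
import Cfsg.Agent.Lib.Helper22.FStar

set_option autoImplicit false

namespace Cfsg.Agent.Lib.Helper91

open Cfsg
open scoped commutatorElement

universe u

section engel
open scoped Pointwise

variable {G : Type u} [Group G]

/-- the Engel sequence `[x, g, g, …, g]` -/
def engelSeq (g x : G) (n : ℕ) : G :=
  (List.replicate n g).foldl (fun a b => a * b * a⁻¹ * b⁻¹) x

theorem engelSeq_zero (g x : G) : engelSeq g x 0 = x := rfl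

theorem engelSeq_succ (g x : G) (n : ℕ) :
    engelSeq g x (n + 1) = engelSeq g (x * g * x⁻¹ * g⁻¹) n := by
  unfold engelSeq
  rw [List.replicate_succ, List.foldl_cons]

theorem map_engelSeq {G' : Type*} [Group G'] (f : G →* G') (g x : G) (n : ℕ) :
    f (engelSeq g x n) = engelSeq (f g) (f x) n := by
  induction n generalizing x with
  | zero => rfl
  | succ n ih =>
    rw [engelSeq_succ, engelSeq_succ, ih]
    simp only [map_mul, map_inv]

theorem engelSeq_mem_lowerCentralSeries {F : Subgroup G} {g : G} (hg : g ∈ F) :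
    ∀ (m k : ℕ) (y : G), y ∈ F.lowerCentralSeries k → engelSeq g y m ∈ F.lowerCentralSeries (k + m) := by
  intro m
  induction m with
  | zero => intro k y hy; exact hy
  | succ m ih =>
    intro k y hy
    rw [engelSeq_succ]
    have h1 : y * g * y⁻¹ * g⁻¹ ∈ F.lowerCentralSeries (k + 1) := by
      rw [Subgroup.lowerCentralSeries_succ]
      exact Subgroup.commutator_mem_commutator hy hg
    have := ih (k + 1) _ h1
    rwa [show k + 1 + m = k + (m + 1) by omega] at this

theorem conj_smul_zpowers (y g : G) :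
    MulAut.conj y • Subgroup.zpowers g = Subgroup.zpowers (y * g * y⁻¹) := by
  have : MulAut.conj y • Subgroup.zpowers g = (Subgroup.zpowers g).map (MulAut.conj y).toMonoidHom := rfl
  rw [this, MonoidHom.map_zpowers]
  simp [MulAut.conj_apply]

/-- A left Engel element of a finite group generates a subnormal subgroup. -/
theorem isSubnormal_zpowers_of_engel_aux : ∀ (n : ℕ) (G : Type u) [Group G] [Finite G], Nat.card G = n →
    ∀ g : G, (∀ x : G, ∃ m : ℕ, engelSeq g x m = 1) → (Subgroup.zpowers g).IsSubnormal := by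
  intro n
  induction n using Nat.strong_induction_on with
  | _ n ih =>
  intro G _ _ hn g hE
  set A : Subgroup G := Subgroup.zpowers g with hA
  by_contra hAsn
  have hprop : ∀ V : Subgroup G, A ≤ V → V ≠ ⊤ → (A.subgroupOf V).IsSubnormal := by
    intro V hAV hV
    have hc : Nat.card V < n := hn ▸ card_subgroup_lt_of_ne_top' hV
    have hgV : g ∈ V := hAV (Subgroup.mem_zpowers g)
    have hE' : ∀ x : V, ∃ m : ℕ, engelSeq (⟨g, hgV⟩ : V) x m = 1 := by
      intro x
      obtain ⟨m, hm⟩ := hE x
      refine ⟨m, ?_⟩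
      apply Subtype.ext
      have := map_engelSeq V.subtype (⟨g, hgV⟩ : V) x m
      simp only [Subgroup.coe_subtype] at this
      rw [this, hm]; rfl
    have h1 := ih _ hc V rfl ⟨g, hgV⟩ hE'
    have h2 : Subgroup.zpowers (⟨g, hgV⟩ : V) = A.subgroupOf V := by
      ext x
      rw [Subgroup.mem_subgroupOf, hA, Subgroup.mem_zpowers_iff, Subgroup.mem_zpowers_iff]
      constructor
      · rintro ⟨k, hk⟩
        exact ⟨k, by rw [← hk]; simp⟩
      · rintro ⟨k, hk⟩
        exact ⟨k, Subtype.ext (by simpa using hk)⟩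
    rwa [h2] at h1
  obtain ⟨M, hAM, hMtop, hM⟩ := zipper_lemma A hprop hAsn
  have hgM : g ∈ M := hAM (Subgroup.mem_zpowers g)
  have hNM : Subgroup.normalizer (M : Set G) ≤ M := by
    apply hM _ (hAM.trans Subgroup.le_normalizer)
    intro hN
    have hMn : M.Normal := Subgroup.normalizer_eq_top_iff.mp hN
    exact hAsn ((hprop M hAM hMtop).trans hAM hMn.isSubnormal)
  have hkey : ∀ y : G, y * g * y⁻¹ * g⁻¹ ∈ M → y ∈ M := by
    intro y hy
    have h1 : y * g * y⁻¹ ∈ M := by
      have := M.mul_mem hy hgM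
      simpa using this
    have h2 : MulAut.conj y • A ≤ M := by
      rw [hA, conj_smul_zpowers, Subgroup.zpowers_le]; exact h1
    have h3 : A ≤ MulAut.conj y⁻¹ • M := by
      rw [map_inv, ← Subgroup.pointwise_smul_subset_iff]; exact h2
    have h4 : MulAut.conj y⁻¹ • M ≠ ⊤ := by
      intro h
      apply hMtop
      have h5 : Nat.card (MulAut.conj y⁻¹ • M : Subgroup G) = Nat.card M := card_conj_smul y⁻¹ M
      rw [h, Subgroup.card_top] at h5
      exact (Subgroup.card_eq_iff_eq_top M).mp h5.symm
    have h5 : y⁻¹ ∈ Subgroup.normalizer (M : Set G) := mem_normalizer_of_conj_smul_le (hM _ h3 h4)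
    have := hNM (Subgroup.inv_mem _ h5)
    rwa [inv_inv] at this
  have hback : ∀ (m : ℕ) (x : G), engelSeq g x m ∈ M → x ∈ M := by
    intro m
    induction m with
    | zero => intro x hx; exact hx
    | succ m ihm =>
      intro x hx
      rw [engelSeq_succ] at hx
      exact hkey x (ihm _ hx)
  apply hMtop
  rw [eq_top_iff]
  intro x _
  obtain ⟨m, hm⟩ := hE x
  exact hback m x (hm ▸ M.one_mem)

/-- Baer: the left Engel elements of a finite group are exactly the elements of the Fitting subgroup. -/
theorem mem_fittingSubgroup_iff_engel [Finite G] (g : G) :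
    g ∈ Cfsg.fittingSubgroup G ↔ ∀ x : G, ∃ n : ℕ, engelSeq g x n = 1 := by
  constructor
  · intro hg x
    have hFn := Cfsg.Agent.Lib.Helper22.fittingSubgroup_normal G
    have hFnil : Group.IsNilpotent (Cfsg.fittingSubgroup G) :=
      Cfsg.Agent.Lib.Helper22.fittingSubgroup_isNilpotent
    obtain ⟨c, hc⟩ := (Subgroup.isNilpotent_iff_lowerCentralSeries (Cfsg.fittingSubgroup G)).mp hFnil
    refine ⟨c + 1, ?_⟩
    rw [engelSeq_succ]
    have h0 : x * g * x⁻¹ * g⁻¹ ∈ (Cfsg.fittingSubgroup G).lowerCentralSeries 0 := by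
      rw [Subgroup.lowerCentralSeries_zero]
      exact Subgroup.mul_mem _ (hFn.conj_mem g hg x) (Subgroup.inv_mem _ hg)
    have := engelSeq_mem_lowerCentralSeries hg c 0 _ h0
    rw [zero_add, hc, Subgroup.mem_bot] at this
    exact this
  · intro hE
    have hsn := isSubnormal_zpowers_of_engel_aux (Nat.card G) G rfl g hE
    have hnil : Group.IsNilpotent (Subgroup.zpowers g) :=
      Cfsg.Agent.Lib.Helper22.isNilpotent_of_isMulCommutative ↥(Subgroup.zpowers g)
    exact Cfsg.Agent.Lib.Helper22.subnormal_nilpotent_le_fitting _ hsn hnil (Subgroup.mem_zpowers g)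

end engel

end Cfsg.Agent.Lib.Helper91
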