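import Mathlib
import Cfsg.Agent.Lib.Helper91.CoprimeFixG
import Cfsg.Agent.Lib.Helper91.CasoloF

set_option autoImplicit false

/-!
# Towards Gheri's inequality: the sections of a `p`-series
-/

namespace Cfsg.Agent.Lib.Helper91

section amgm

/-- AM-GM with integer powers -/
theorem amgm_pow {ι : Type*} (s : Finset ι) (z : ι → ℝ) (hz : ∀ i ∈ s, 0 ≤ z i) (hs : s.Nonempty) :
    (s.card : ℝ) ^ s.card * ∏ i ∈ s, z i ≤ (∑ i ∈ s, z i) ^ s.card := by
  have hq : (0 : ℝ) < s.card := by exact_mod_cast hs.card_pos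
  have hq0 : (s.card : ℝ) ≠ 0 := hq.ne'
  have h := Real.geom_mean_le_arith_mean_weighted s (fun _ => (1 : ℝ) / s.card) z
    (fun i _ => by positivity) (by rw [Finset.sum_const, nsmul_eq_mul]; field_simp) hz
  have hl : 0 ≤ ∏ i ∈ s, z i ^ ((1 : ℝ) / s.card) :=
    Finset.prod_nonneg (fun i hi => Real.rpow_nonneg (hz i hi) _)
  have h2 := pow_le_pow_left₀ hl h s.card
  have h3 : (∏ i ∈ s, z i ^ ((1 : ℝ) / s.card)) ^ s.card = ∏ i ∈ s, z i := by
    rw [← Finset.prod_pow]
    apply Finset.prod_congr rfl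
    intro i hi
    rw [← Real.rpow_natCast, ← Real.rpow_mul (hz i hi)]
    rw [one_div, inv_mul_cancel₀ hq0, Real.rpow_one]
  have h4 : (∑ i ∈ s, (1 : ℝ) / s.card * z i) = (∑ i ∈ s, z i) / s.card := by
    rw [← Finset.mul_sum]; ring
  rw [h3, h4, div_pow] at h2
  rw [le_div_iff₀ (pow_pos hq _)] at h2
  linarith

end amgm

section sections

variable {G : Type*} [Group G]

/-- the image of `N'` in `G/N` is normal -/
instance mapMkNormal (N N' : Subgroup G) [N.Normal] [hN' : N'.Normal] :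
    (N'.map (QuotientGroup.mk' N)).Normal :=
  Subgroup.Normal.map hN' _ (QuotientGroup.mk'_surjective N)

/-- the action of `G` on the section `N'/N` -/
noncomputable def sectionHom (N N' : Subgroup G) [N.Normal] [N'.Normal] :
    G →* MulAut ↥(N'.map (QuotientGroup.mk' N)) :=
  (MulAut.conjNormal).comp (QuotientGroup.mk' N)

theorem sectionHom_apply_coe (N N' : Subgroup G) [N.Normal] [N'.Normal] (g : G)
    (k : ↥(N'.map (QuotientGroup.mk' N))) :
    ((sectionHom N N' g k : ↥(N'.map (QuotientGroup.mk' N))) : G ⧸ N) =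
      (g : G ⧸ N) * k * (g : G ⧸ N)⁻¹ := rfl

theorem mk_mem_map_iff (N N' : Subgroup G) [N.Normal] (hNN' : N ≤ N') (u : G) :
    (u : G ⧸ N) ∈ N'.map (QuotientGroup.mk' N) ↔ u ∈ N' := by
  constructor
  · rintro ⟨v, hv, hvu⟩
    have h1 : v⁻¹ * u ∈ N := QuotientGroup.eq.mp hvu
    have : u = v * (v⁻¹ * u) := by group
    rw [this]
    exact N'.mul_mem hv (hNN' h1)
  · intro hu
    exact ⟨u, hu, rfl⟩

/-- the fixed points on a section, counted in `G` -/
theorem card_cstar_eq_mul_fixS [Finite G] (N N' : Subgroup G) [hN : N.Normal] [N'.Normal] (hNN' : N ≤ N')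
    (H : Subgroup G) :
    Nat.card {u : G // u ∈ N' ∧ ∀ h ∈ H, h * u * h⁻¹ * u⁻¹ ∈ N} =
      Nat.card N * Nat.card (fixS (sectionHom N N') (H : Set G)) := by
  let Z : Set (G ⧸ N) := {q | q ∈ N'.map (QuotientGroup.mk' N) ∧
    ∀ h ∈ H, (h : G ⧸ N) * q * (h : G ⧸ N)⁻¹ = q}
  have h1 := card_preimage_eq_mul (fun x : G => (x : G ⧸ N)) N (fun x y => QuotientGroup.eq) Z
    (fun q _ => QuotientGroup.mk_surjective q)
  have h2 : Nat.card {u : G // u ∈ N' ∧ ∀ h ∈ H, h * u * h⁻¹ * u⁻¹ ∈ N} =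
      Nat.card {x : G // (x : G ⧸ N) ∈ Z} := by
    apply Nat.card_congr
    apply Equiv.subtypeEquivRight
    intro u
    show _ ↔ ((u : G ⧸ N) ∈ N'.map (QuotientGroup.mk' N) ∧
      ∀ h ∈ H, (h : G ⧸ N) * (u : G ⧸ N) * (h : G ⧸ N)⁻¹ = (u : G ⧸ N))
    rw [mk_mem_map_iff N N' hNN']
    apply and_congr Iff.rfl
    apply forall₂_congr
    intro h _
    rw [← mul_inv_eq_one, ← QuotientGroup.mk_inv, ← QuotientGroup.mk_inv, ← QuotientGroup.mk_mul,
      ← QuotientGroup.mk_mul, ← QuotientGroup.mk_mul, QuotientGroup.eq_one_iff]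
  have h3 : Nat.card Z = Nat.card (fixS (sectionHom N N') (H : Set G)) := by
    apply Nat.card_congr
    exact
      { toFun := fun q => ⟨⟨q.1, q.2.1⟩, by
          intro h hh
          apply Subtype.ext
          rw [sectionHom_apply_coe]
          exact q.2.2 h hh⟩
        invFun := fun k => ⟨(k.1 : G ⧸ N), k.1.2, by
          intro h hh
          have := congrArg Subtype.val (k.2 h hh)
          rw [sectionHom_apply_coe] at this
          exact this⟩
        left_inv := fun q => rfl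
        right_inv := fun k => rfl }
  rw [h2, h1, h3, mul_comm]

theorem card_map_mk_eq_relIndex [Finite G] (N N' : Subgroup G) [hN : N.Normal] [N'.Normal] (hNN' : N ≤ N') :
    Nat.card ↥(N'.map (QuotientGroup.mk' N)) = N.relIndex N' := by
  have h1 := card_cstar_eq_mul_fixS N N' hNN' ⊥
  have h2 : fixS (sectionHom N N') ((⊥ : Subgroup G) : Set G) = ⊤ := by
    ext k
    simp only [Subgroup.mem_top, iff_true]
    intro h hh
    have : h = 1 := hh
    rw [this, map_one]
    rfl
  have h3 : Nat.card {u : G // u ∈ N' ∧ ∀ h ∈ (⊥ : Subgroup G), h * u * h⁻¹ * u⁻¹ ∈ N} = Nat.card N' := by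
    apply Nat.card_congr
    apply Equiv.subtypeEquivRight
    intro u
    constructor
    · exact fun h => h.1
    · intro hu
      refine ⟨hu, ?_⟩
      intro h hh
      have : h = 1 := hh
      rw [this]
      simp [N.one_mem]
  rw [h2, h3, Subgroup.card_top] at h1
  have h4 := card_mul_relIndex_eq hNN'
  have hpos : 0 < Nat.card N := Nat.card_pos
  exact Nat.eq_of_mul_eq_mul_left hpos (h1.symm.trans h4.symm)

end sections

end Cfsg.Agent.Lib.Helper91
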