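import Mathlib
import Cfsg.Agent.Lib.Helper91.GheriA

set_option autoImplicit false

/-!
# Towards Gheri's inequality: the product inequality on a section of a `p`-series
-/

namespace Cfsg.Agent.Lib.Helper91

section factor

variable {G : Type*} [Group G] [Finite G]

theorem psolvFactor_eq_card_fixS {p : ℕ} (N N' : Subgroup G) [hN : N.Normal] [N'.Normal] (hNN' : N ≤ N')
    (hcop : (N.relIndex N').Coprime p) (H : Subgroup G) :
    psolvFactor p H N N' = Nat.card (fixS (sectionHom N N') (H : Set G)) := by
  unfold psolvFactor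
  rw [if_pos hcop, card_cstar_eq_mul_fixS N N' hNN' H]
  exact Nat.mul_div_cancel_left _ Nat.card_pos

/-- the product inequality for the factor of a section -/
theorem prod_psolvFactor_le {p : ℕ} [hp : Fact p.Prime] (Q : Sylow p G) [Fintype ↥(Q : Subgroup G)]
    (N N' : Subgroup G) [hN : N.Normal] [N'.Normal] (hNN' : N ≤ N') :
    ∏ x : ↥(Q : Subgroup G), psolvFactor p (Subgroup.zpowers (x : G)) N N' ^ p ≤
      psolvIdx p N N' ^ Nat.card (Q : Subgroup G) *
        psolvFactor p (Q : Subgroup G) N N' ^ (Nat.card (Q : Subgroup G) * (p - 1)) := by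
  by_cases hcop : (N.relIndex N').Coprime p
  · have hidx : psolvIdx p N N' = Nat.card ↥(N'.map (QuotientGroup.mk' N)) := by
      unfold psolvIdx
      rw [if_pos hcop, card_map_mk_eq_relIndex N N' hNN']
    have hK : ¬ p ∣ Nat.card ↥(N'.map (QuotientGroup.mk' N)) := by
      rw [card_map_mk_eq_relIndex N N' hNN']
      intro h
      have := Nat.Coprime.eq_one_of_dvd hcop.symm h
      exact hp.out.one_lt.ne' this
    have hpi := pi_ord (p := p) _ ↥(N'.map (QuotientGroup.mk' N)) ↥(Q : Subgroup G) le_rfl Q.2 hK
      ((sectionHom N N').comp (Q : Subgroup G).subtype)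
    have h1 : ∀ x : ↥(Q : Subgroup G),
        fixS ((sectionHom N N').comp (Q : Subgroup G).subtype) {x} =
          fixS (sectionHom N N') ((Subgroup.zpowers (x : G) : Subgroup G) : Set G) := by
      intro x
      rw [Subgroup.zpowers_eq_closure, fixS_closure]
      ext k
      simp only [mem_fixS, Set.mem_singleton_iff, forall_eq]
      rfl
    have h2 : fixS ((sectionHom N N').comp (Q : Subgroup G).subtype) Set.univ =
        fixS (sectionHom N N') ((Q : Subgroup G) : Set G) :=
      fixS_comp_subtype_univ _ _
    rw [hidx, psolvFactor_eq_card_fixS N N' hNN' hcop, ← h2]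
    calc ∏ x : ↥(Q : Subgroup G), psolvFactor p (Subgroup.zpowers (x : G)) N N' ^ p
        = ∏ x : ↥(Q : Subgroup G),
            Nat.card (fixS ((sectionHom N N').comp (Q : Subgroup G).subtype) {x}) ^ p := by
          apply Finset.prod_congr rfl
          intro x _
          rw [psolvFactor_eq_card_fixS N N' hNN' hcop, h1]
      _ ≤ _ := hpi
  · have h1 : ∀ H : Subgroup G, psolvFactor p H N N' = 1 := by
      intro H; unfold psolvFactor; rw [if_neg hcop]
    have h2 : psolvIdx p N N' = 1 := by unfold psolvIdx; rw [if_neg hcop]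
    simp [h1, h2]

end factor

end Cfsg.Agent.Lib.Helper91
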