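import Mathlib
import Cfsg.Agent.Lib.Helper91.GheriB

set_option autoImplicit false

/-!
# Towards Gheri's inequality: the global formulas
-/

namespace Cfsg.Agent.Lib.Helper91

section glob

variable {G : Type*} [Group G]

/-- elements of a Sylow `p`-subgroup have `p`-power order -/
theorem exists_orderOf_eq_pow_of_mem_sylow {p : ℕ} [hp : Fact p.Prime] (Q : Sylow p G) {g : G}
    (hg : g ∈ (Q : Subgroup G)) : ∃ k : ℕ, orderOf g = p ^ k := by
  obtain ⟨k, hk⟩ := Q.2 ⟨g, hg⟩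
  have h1 : g ^ p ^ k = 1 := by
    have := congrArg Subtype.val hk
    simpa using this
  have h2 := orderOf_dvd_of_pow_eq_one h1
  obtain ⟨j, _, hj⟩ := (Nat.dvd_prime_pow hp.out).mp h2
  exact ⟨j, hj⟩

theorem isPGroup_zpowers_of_orderOf {p : ℕ} [Fact p.Prime] {g : G} (hg : ∃ k : ℕ, orderOf g = p ^ k) :
    IsPGroup p (Subgroup.zpowers g) := by
  obtain ⟨k, hk⟩ := hg
  apply IsPGroup.of_card (n := k)
  rw [Nat.card_zpowers, hk]

variable [Finite G]

/-- `|G| = |P| · ∏ (p'-indices)`, along a series indexed by `Fin (n + 1)` -/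
theorem card_eq_card_sylow_mul_prod_fin {p : ℕ} [Fact p.Prime] (P : Sylow p G) (n : ℕ)
    (M : Fin (n + 1) → Subgroup G) (h0 : M 0 = ⊥) (hn : M (Fin.last n) = ⊤) (hmono : Monotone M)
    (hfac : ∀ i : Fin n, (∃ m : ℕ, (M i.castSucc).relIndex (M i.succ) = p ^ m) ∨
      ((M i.castSucc).relIndex (M i.succ)).Coprime p) :
    Nat.card G = Nat.card (P : Subgroup G) *
      ∏ i : Fin n, psolvIdx p (M i.castSucc) (M i.succ) := by
  set Mn : ℕ → Subgroup G := fun i => if h : i < n + 1 then M ⟨i, h⟩ else ⊤ with hMn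
  have hMn_lt : ∀ i (h : i < n + 1), Mn i = M ⟨i, h⟩ := by
    intro i h; simp only [hMn, dif_pos h]
  have hMn_ge : ∀ i, ¬ i < n + 1 → Mn i = ⊤ := by
    intro i h; simp only [hMn, dif_neg h]
  have hMn0 : Mn 0 = ⊥ := by rw [hMn_lt 0 (by omega)]; exact h0
  have hMnn : Mn n = ⊤ := by rw [hMn_lt n (by omega)]; exact hn
  have hMnmono : ∀ i, Mn i ≤ Mn (i + 1) := by
    intro i
    by_cases h : i + 1 < n + 1
    · rw [hMn_lt i (by omega), hMn_lt (i + 1) h]
      apply hmono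
      rw [Fin.le_def]
      simp
    · rw [hMn_ge (i + 1) h]; exact le_top
  have hcast : ∀ i : Fin n, Mn i = M i.castSucc := by
    intro i
    rw [hMn_lt i (by omega)]
    rfl
  have hsucc : ∀ i : Fin n, Mn (i + 1) = M i.succ := by
    intro i
    rw [hMn_lt (i + 1) (by omega)]
    rfl
  have hMnfac : ∀ i < n, (∃ m : ℕ, (Mn i).relIndex (Mn (i + 1)) = p ^ m) ∨
      ((Mn i).relIndex (Mn (i + 1))).Coprime p := by
    intro i hi
    have := hfac ⟨i, hi⟩
    rw [← hcast ⟨i, hi⟩, ← hsucc ⟨i, hi⟩] at this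
    exact this
  have hG := card_eq_card_sylow_mul_prod P Mn hMnmono n hMn0 hMnn hMnfac
  rw [hG, ← Fin.prod_univ_eq_prod_range (fun j => psolvIdx p (Mn j) (Mn (j + 1))) n]
  congr 1
  apply Finset.prod_congr rfl
  intro i _
  rw [hcast i, hsucc i]

/-- only one Sylow subgroup contains a given Sylow subgroup -/
theorem card_sylow_ge_sylow {p : ℕ} [Fact p.Prime] (Q : Sylow p G) :
    Nat.card {Q' : Sylow p G // (Q : Subgroup G) ≤ (Q' : Subgroup G)} = 1 := by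
  rw [Nat.card_eq_one_iff_unique]
  refine ⟨⟨?_⟩, ⟨⟨Q, le_rfl⟩⟩⟩
  rintro ⟨Q₁, h₁⟩ ⟨Q₂, h₂⟩
  apply Subtype.ext
  have e1 : Q₁ = Q := Sylow.ext (Q.is_maximal' Q₁.2 h₁)
  have e2 : Q₂ = Q := Sylow.ext (Q.is_maximal' Q₂.2 h₂)
  show Q₁ = Q₂
  rw [e1, e2]

end glob

end Cfsg.Agent.Lib.Helper91
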