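import Mathlib
import Cfsg.Agent.Lib.Helper91.GheriC

set_option autoImplicit false

/-!
# Gheri's inequality along a `p`-series
-/

namespace Cfsg.Agent.Lib.Helper91

section main

variable {G : Type*} [Group G] [Finite G]

theorem psolvFactor_pos (p : ℕ) (H N N' : Subgroup G) [hN : N.Normal] (hNN' : N ≤ N') :
    0 < psolvFactor p H N N' := by
  unfold psolvFactor
  split_ifs with h
  · obtain ⟨c, hc⟩ := card_dvd_card_cstarSet H N N' hNN'
    have hc' : Nat.card {u : G // u ∈ N' ∧ ∀ h ∈ H, h * u * h⁻¹ * u⁻¹ ∈ N} = Nat.card N * c := hc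
    rw [hc', Nat.mul_div_cancel_left c Nat.card_pos]
    have hne : Nonempty {u : G // u ∈ N' ∧ ∀ h ∈ H, h * u * h⁻¹ * u⁻¹ ∈ N} :=
      ⟨⟨1, N'.one_mem, fun h _ => by simp [N.one_mem]⟩⟩
    have hpos : 0 < Nat.card {u : G // u ∈ N' ∧ ∀ h ∈ H, h * u * h⁻¹ * u⁻¹ ∈ N} := Nat.card_pos
    rw [hc'] at hpos
    exact Nat.pos_of_mul_pos_left hpos
  · exact Nat.one_pos

/-- the product inequality for the whole series -/
theorem prod_CF_le {p : ℕ} [hp : Fact p.Prime] (Q : Sylow p G) [Fintype ↥(Q : Subgroup G)] (n : ℕ)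
    (M : Fin (n + 1) → Subgroup G) (hmono : Monotone M) (hnormal : ∀ i, (M i).Normal) :
    ∏ x : ↥(Q : Subgroup G),
        (∏ i : Fin n, psolvFactor p (Subgroup.zpowers (x : G)) (M i.castSucc) (M i.succ)) ^ p ≤
      (∏ i : Fin n, psolvIdx p (M i.castSucc) (M i.succ)) ^ Nat.card (Q : Subgroup G) *
        (∏ i : Fin n, psolvFactor p (Q : Subgroup G) (M i.castSucc) (M i.succ)) ^
          (Nat.card (Q : Subgroup G) * (p - 1)) := by
  simp_rw [← Finset.prod_pow]
  rw [Finset.prod_comm, ← Finset.prod_mul_distrib]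
  apply Finset.prod_le_prod'
  intro i _
  haveI := hnormal i.castSucc
  haveI := hnormal i.succ
  exact prod_psolvFactor_le Q (M i.castSucc) (M i.succ) (hmono (Fin.castSucc_le_succ i))

end main

end Cfsg.Agent.Lib.Helper91
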