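import Mathlib
import Cfsg.Agent.Lib.Helper91.GheriD

set_option autoImplicit false

/-!
# Gheri's inequality along a `p`-series: the final count
-/

namespace Cfsg.Agent.Lib.Helper91

section main

variable {G : Type*} [Group G] [Finite G]

open scoped Classical in
/-- the number of `p`-elements as a weighted sum over the Sylow subgroups -/
theorem card_pElements_eq_sum {p : ℕ} [hp : Fact p.Prime] [Fintype G] [Fintype (Sylow p G)]
    (w : G → ℝ)
    (hw : ∀ g : G, (∃ k : ℕ, orderOf g = p ^ k) →
      (Nat.card {Q' : Sylow p G // Subgroup.zpowers g ≤ (Q' : Subgroup G)} : ℝ) * w g = 1) :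
    (Nat.card {g : G // ∃ k : ℕ, orderOf g = p ^ k} : ℝ) =
      ∑ Q : Sylow p G, ∑ x : ↥(Q : Subgroup G), w (x : G) := by
  have h1 : ∀ Q : Sylow p G, ∑ x : ↥(Q : Subgroup G), w (x : G) =
      ∑ g : G, if g ∈ (Q : Subgroup G) then w g else 0 := by
    intro Q
    rw [← Finset.sum_filter]
    exact (Finset.sum_subtype (Finset.univ.filter (fun g : G => g ∈ (Q : Subgroup G)))
      (fun x => by simp) w).symm
  simp_rw [h1]
  rw [Finset.sum_comm]
  have h2 : ∀ g : G, ∑ Q : Sylow p G, (if g ∈ (Q : Subgroup G) then w g else 0) =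
      if (∃ k : ℕ, orderOf g = p ^ k) then 1 else 0 := by
    intro g
    rw [← Finset.sum_filter, Finset.sum_const, nsmul_eq_mul]
    have hcard : (Finset.univ.filter (fun Q : Sylow p G => g ∈ (Q : Subgroup G))).card =
        Nat.card {Q' : Sylow p G // Subgroup.zpowers g ≤ (Q' : Subgroup G)} := by
      rw [Nat.card_eq_fintype_card, Fintype.card_subtype]
      congr 1
      ext Q
      simp only [Finset.mem_filter, Finset.mem_univ, true_and]
      exact (Subgroup.zpowers_le).symm
    split_ifs with hg
    · rw [hcard]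
      exact hw g hg
    · have : (Finset.univ.filter (fun Q : Sylow p G => g ∈ (Q : Subgroup G))) = ∅ := by
        rw [Finset.filter_eq_empty_iff]
        intro Q _ hQ
        exact hg (exists_orderOf_eq_pow_of_mem_sylow Q hQ)
      rw [this]
      simp
  simp_rw [h2]
  rw [Finset.sum_boole, Nat.card_eq_fintype_card, Fintype.card_subtype]

end main

end Cfsg.Agent.Lib.Helper91
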