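import Mathlib
import Cfsg.Agent.Lib.Helper91.GheriE

set_option autoImplicit false

namespace Cfsg.Agent.Lib.Helper91

/-- the lower bound for the weighted sum over one Sylow subgroup -/
theorem pow_div_le_sum_weights_pow {q np p : ℕ} (hq : 0 < q) (hnp : 0 < np) (hp : 0 < p)
    {ι : Type*} [Fintype ι] (hcard : Fintype.card ι = q)
    (c : ℝ) (hc : 0 < c) (d : ι → ℝ) (hd : ∀ x, 0 < d x) (Iv : ℝ) (hI : Iv = np * c)
    (hprod : ∏ x, d x ^ p ≤ Iv ^ q * c ^ (q * (p - 1))) :
    (q : ℝ) ^ p / np ≤ (∑ x, c / d x) ^ p := by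
  have hne : Nonempty ι := by
    rw [← Fintype.card_pos_iff, hcard]; exact hq
  set S := ∑ x, c / d x with hS
  set D := ∏ x, d x with hD
  have hS0 : 0 ≤ S := Finset.sum_nonneg (fun x _ => (div_pos hc (hd x)).le)
  have hD0 : 0 < D := Finset.prod_pos (fun x _ => hd x)
  have hnp0 : (0 : ℝ) < np := by exact_mod_cast hnp
  have hq0 : (0 : ℝ) < q := by exact_mod_cast hq
  have h1 := amgm_pow Finset.univ (fun x => c / d x) (fun x _ => (div_pos hc (hd x)).le)
    Finset.univ_nonempty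
  rw [Finset.card_univ, hcard] at h1
  have h2 : ∏ x, c / d x = c ^ q / D := by
    rw [Finset.prod_div_distrib, Finset.prod_const, Finset.card_univ, hcard]
  have hp1 : p - 1 + 1 = p := Nat.sub_add_cancel hp
  have hDp : D ^ p ≤ (np : ℝ) ^ q * c ^ (q * p) := by
    rw [hD, ← Finset.prod_pow]
    refine hprod.trans (le_of_eq ?_)
    rw [hI, mul_pow, mul_assoc, ← pow_add]
    congr 2
    calc q + q * (p - 1) = q * (p - 1 + 1) := by ring
      _ = q * p := by rw [hp1]
  have h3 : (q : ℝ) ^ q * (c ^ q / D) ≤ S ^ q := by rw [← h2]; exact h1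
  have h4 := pow_le_pow_left₀ (by positivity) h3 p
  have h5 : ((q : ℝ) ^ p / np) ^ q ≤ ((q : ℝ) ^ q * (c ^ q / D)) ^ p := by
    rw [div_pow, mul_pow, div_pow, ← pow_mul, ← pow_mul, ← pow_mul, mul_comm p q,
      div_le_iff₀ (by positivity)]
    have h6 : 1 ≤ c ^ (q * p) / D ^ p * (np : ℝ) ^ q := by
      rw [div_mul_eq_mul_div, le_div_iff₀ (by positivity)]
      linarith [hDp]
    have h7 : (0 : ℝ) < (q : ℝ) ^ (q * p) := by positivity
    nlinarith [h6, h7]
  have h8 : ((q : ℝ) ^ p / np) ^ q ≤ (S ^ p) ^ q := by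
    rw [← pow_mul S, mul_comm p q, pow_mul S]
    exact h5.trans h4
  exact (pow_le_pow_iff_left₀ (by positivity) (by positivity) hq.ne').mp h8


section main

variable {G : Type*} [Group G] [Finite G]

/-- **Gheri's inequality** along a `p`-series -/
theorem gheri_of_series {p : ℕ} [hp : Fact p.Prime] (P : Sylow p G) (n : ℕ)
    (M : Fin (n + 1) → Subgroup G) (h0 : M 0 = ⊥) (hn : M (Fin.last n) = ⊤) (hmono : Monotone M)
    (hnormal : ∀ i, (M i).Normal)
    (hfac : ∀ i : Fin n, (∃ m : ℕ, (M i.castSucc).relIndex (M i.succ) = p ^ m) ∨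
      ((M i.castSucc).relIndex (M i.succ)).Coprime p) :
    Nat.card (P : Subgroup G) ^ p * Nat.card (Sylow p G) ^ (p - 1) ≤
      Nat.card {g : G // ∃ k : ℕ, orderOf g = p ^ k} ^ p := by
  classical
  haveI : Fintype G := Fintype.ofFinite G
  haveI : Fintype (Sylow p G) := Fintype.ofFinite _
  set CF : Subgroup G → ℕ := fun H => ∏ i : Fin n, psolvFactor p H (M i.castSucc) (M i.succ) with hCF
  set I : ℕ := ∏ i : Fin n, psolvIdx p (M i.castSucc) (M i.succ) with hI
  set q := Nat.card (P : Subgroup G) with hq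
  set ν := Nat.card (Subgroup.normalizer ((P : Subgroup G) : Set G)) with hν
  set np := Nat.card (Sylow p G) with hnp
  have hqQ : ∀ Q : Sylow p G, Nat.card (Q : Subgroup G) = q := fun Q => by
    rw [hq, Sylow.card_eq_multiplicity, Sylow.card_eq_multiplicity]
  have hqpos : 0 < q := Nat.card_pos
  have hnppos : 0 < np := Nat.card_pos
  have hppos : 0 < p := hp.out.pos
  have hCFpos : ∀ H, 0 < CF H := by
    intro H
    apply Finset.prod_pos
    intro i _
    haveI := hnormal i.castSucc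
    exact psolvFactor_pos p H _ _ (hmono (Fin.castSucc_le_succ i))
  -- Casolo's formulas
  have hA1 : ∀ (H : Subgroup G), IsPGroup p H → ∀ Q : Sylow p G,
      Nat.card {Q' : Sylow p G // H ≤ (Q' : Subgroup G)} * ν = q * CF H := by
    intro H hH Q
    have e1 := card_subnormalizer_eq p H hH Q
    have e2 := card_subnormalizer_psolvable p H hH Q n M h0 hn hmono hnormal hfac
    rw [e1, card_normalizer_sylow_eq P Q, hqQ Q] at e2
    exact e2
  have hA2 : ∀ Q : Sylow p G, ν = q * CF (Q : Subgroup G) := by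
    intro Q
    have := hA1 (Q : Subgroup G) Q.2 Q
    rw [card_sylow_ge_sylow Q, one_mul] at this
    exact this
  have hA3 : Nat.card G = q * I := card_eq_card_sylow_mul_prod_fin P n M h0 hn hmono hfac
  have hA4 : ν * np = Nat.card G := by
    rw [hnp, Sylow.card_eq_index_normalizer P]
    exact Subgroup.card_mul_index _
  have hA5 : ∀ Q : Sylow p G, I = np * CF (Q : Subgroup G) := by
    intro Q
    have h1 : q * I = q * (np * CF (Q : Subgroup G)) := by
      rw [← hA3, ← hA4, hA2 Q]; ring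
    exact Nat.eq_of_mul_eq_mul_left hqpos h1
  -- the weights
  set w : G → ℝ := fun g => ((ν : ℝ) / q) / (CF (Subgroup.zpowers g) : ℝ) with hw
  have hB1 : ∀ g : G, (∃ k : ℕ, orderOf g = p ^ k) →
      (Nat.card {Q' : Sylow p G // Subgroup.zpowers g ≤ (Q' : Subgroup G)} : ℝ) * w g = 1 := by
    intro g hg
    have h1 := hA1 (Subgroup.zpowers g) (isPGroup_zpowers_of_orderOf hg) P
    have h2 : (Nat.card {Q' : Sylow p G // Subgroup.zpowers g ≤ (Q' : Subgroup G)} : ℝ) * ν =
        q * CF (Subgroup.zpowers g) := by exact_mod_cast h1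
    have hq0 : (q : ℝ) ≠ 0 := by exact_mod_cast hqpos.ne'
    have hc0 : (CF (Subgroup.zpowers g) : ℝ) ≠ 0 := by exact_mod_cast (hCFpos _).ne'
    rw [hw]
    field_simp
    linarith [h2]
  have hB2 := card_pElements_eq_sum w hB1
  -- the bound for each Sylow subgroup
  have hB3 : ∀ Q : Sylow p G, (q : ℝ) ^ p / np ≤ (∑ x : ↥(Q : Subgroup G), w (x : G)) ^ p := by
    intro Q
    have hcardQ : Fintype.card ↥(Q : Subgroup G) = q := by
      rw [← Nat.card_eq_fintype_card]; exact hqQ Q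
    have hνq : (ν : ℝ) / q = (CF (Q : Subgroup G) : ℝ) := by
      have hq0 : (q : ℝ) ≠ 0 := by exact_mod_cast hqpos.ne'
      rw [hA2 Q]
      push_cast
      field_simp
    have hprod := prod_CF_le Q n M hmono hnormal
    rw [hqQ Q] at hprod
    have hprod' : ∏ x : ↥(Q : Subgroup G), ((CF (Subgroup.zpowers (x : G)) : ℕ) : ℝ) ^ p ≤
        (I : ℝ) ^ q * ((CF (Q : Subgroup G) : ℕ) : ℝ) ^ (q * (p - 1)) := by
      exact_mod_cast hprod
    have := pow_div_le_sum_weights_pow hqpos hnppos hppos hcardQ (CF (Q : Subgroup G) : ℝ)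
      (by exact_mod_cast hCFpos _) (fun x : ↥(Q : Subgroup G) => (CF (Subgroup.zpowers (x : G)) : ℝ))
      (fun x => by exact_mod_cast hCFpos _) (I : ℝ) (by rw [hA5 Q]; push_cast; ring) hprod'
    simp only [hw, hνq]
    exact this
  -- the final count
  obtain ⟨Q₀, _, hQ₀⟩ := Finset.exists_min_image (Finset.univ : Finset (Sylow p G))
    (fun Q => ∑ x : ↥(Q : Subgroup G), w (x : G)) Finset.univ_nonempty
  set s := ∑ x : ↥(Q₀ : Subgroup G), w (x : G) with hs
  have hs0 : 0 ≤ s := by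
    apply Finset.sum_nonneg
    intro x _
    rw [hw]
    have : (0 : ℝ) < (CF (Subgroup.zpowers (x : G)) : ℝ) := by exact_mod_cast hCFpos _
    positivity
  have hu : (np : ℝ) * s ≤ (Nat.card {g : G // ∃ k : ℕ, orderOf g = p ^ k} : ℝ) := by
    rw [hB2]
    have h1 : ∑ _Q : Sylow p G, s ≤ ∑ Q : Sylow p G, ∑ x : ↥(Q : Subgroup G), w (x : G) :=
      Finset.sum_le_sum (fun Q hQ => hQ₀ Q hQ)
    rw [Finset.sum_const, Finset.card_univ, ← Nat.card_eq_fintype_card, nsmul_eq_mul] at h1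
    exact h1
  have hnp0 : (0 : ℝ) < np := by exact_mod_cast hnppos
  have h2 : ((np : ℝ) * s) ^ p ≤ (Nat.card {g : G // ∃ k : ℕ, orderOf g = p ^ k} : ℝ) ^ p :=
    pow_le_pow_left₀ (by positivity) hu p
  have h3 : (q : ℝ) ^ p * (np : ℝ) ^ (p - 1) ≤ ((np : ℝ) * s) ^ p := by
    have h4 := hB3 Q₀
    rw [div_le_iff₀ hnp0] at h4
    have hp1 : p - 1 + 1 = p := Nat.sub_add_cancel hppos
    rw [mul_pow]
    calc (q : ℝ) ^ p * (np : ℝ) ^ (p - 1) ≤ (s ^ p * np) * (np : ℝ) ^ (p - 1) :=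
          mul_le_mul_of_nonneg_right h4 (by positivity)
      _ = (np : ℝ) ^ (p - 1 + 1) * s ^ p := by rw [pow_succ]; ring
      _ = (np : ℝ) ^ p * s ^ p := by rw [hp1]
  have h5 := h3.trans h2
  exact_mod_cast h5

end main

end Cfsg.Agent.Lib.Helper91
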