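import Cfsg.Prelude.Def_FusionComponents
import Cfsg.Prelude.Def_LocalEven
import Cfsg.Agent.Lib.Helper88.FactorSystem

set_option autoImplicit false
open Cfsg Cfsg.FusionSystem

namespace Cfsg.Agent.Lib.Helper91

theorem gff_mem_smul_sylow {H : Type*} [Group H] {p : ℕ} (T : Sylow p H) (h x : H) :
    x ∈ ((h • T : Sylow p H) : Subgroup H) ↔ h⁻¹ * x * h ∈ (T : Subgroup H) := by
  rw [Sylow.coe_subgroup_smul, Subgroup.mem_pointwise_smul_iff_inv_smul_mem]
  simp [MulAut.smul_def]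

theorem gff_mem_map_conj {H : Type*} [Group H] (U : Subgroup H) (h y : H) :
    y ∈ U.map (MulAut.conj h).toMonoidHom ↔ h⁻¹ * y * h ∈ U := by
  constructor
  · rintro ⟨u, hu, rfl⟩
    have : h⁻¹ * ((MulAut.conj h).toMonoidHom u) * h = u := by
      simp [mul_assoc]
    rw [this]; exact hu
  · intro hy
    exact ⟨h⁻¹ * y * h, hy, by simp [mul_assoc]⟩

theorem gff_mem_normalizer_of_conj_le {G : Type*} [Group G] [Finite G] (R : Subgroup G) (g : G)
    (h : ∀ r ∈ R, g * r * g⁻¹ ∈ R) : g ∈ Subgroup.normalizer (R : Set G) := by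
  rw [Subgroup.mem_normalizer_iff]
  intro x
  refine ⟨h x, fun hx => ?_⟩
  let f : R → R := fun r => ⟨g * r * g⁻¹, h r r.2⟩
  have hf : Function.Injective f := by
    intro a b hab
    have h1 : g * a * g⁻¹ = g * b * g⁻¹ := congrArg Subtype.val hab
    exact Subtype.ext (mul_left_cancel (mul_right_cancel h1))
  obtain ⟨r, hr⟩ := (Finite.injective_iff_surjective.mp hf) ⟨g * x * g⁻¹, hx⟩
  have h1 : g * r * g⁻¹ = g * x * g⁻¹ := congrArg Subtype.val hr
  have h2 : (r : G) = x := mul_left_cancel (mul_right_cancel h1)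
  rw [← h2]; exact r.2

/-- Control of strong fusion by `N(U)` in some Sylow subgroup can be moved to any Sylow subgroup,
replacing `U` by a conjugate. -/
theorem gff_csf_transport {H : Type*} [Group H] [Finite H] {p : ℕ} [Fact p.Prime] (U : Subgroup H)
    (hU : ControlsStrongFusion p U) (hU1 : U ≠ ⊥) (T : Sylow p H) :
    ∃ U1 : Subgroup H, U1 ≠ ⊥ ∧ U1 ≤ (T : Subgroup H) ∧
      ∀ A : Set H, (∀ a ∈ A, a ∈ (T : Subgroup H)) → ∀ g : H,
        (∀ a ∈ A, g * a * g⁻¹ ∈ (T : Subgroup H)) →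
        ∃ x ∈ Subgroup.normalizer (U1 : Set H), ∀ a ∈ A, g * a * g⁻¹ = x * a * x⁻¹ := by
  obtain ⟨T', hUT', hc⟩ := hU
  obtain ⟨h, hh⟩ := MulAction.exists_smul_eq H T' T
  refine ⟨U.map (MulAut.conj h).toMonoidHom, ?_, ?_, ?_⟩
  · intro hbot
    apply hU1
    exact (Subgroup.map_eq_bot_iff_of_injective U (MulAut.conj h).injective).mp hbot
  · intro y hy
    rw [gff_mem_map_conj] at hy
    rw [← hh, gff_mem_smul_sylow]
    exact hUT' hy
  · intro A hA g hg
    have hA' : ((fun a => h⁻¹ * a * h) '' A) ⊆ ((T' : Subgroup H) : Set H) := by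
      rintro _ ⟨a, ha, rfl⟩
      have := hA a ha
      rw [← hh, gff_mem_smul_sylow] at this
      exact this
    obtain ⟨-, h2⟩ := hc _ hA'
    obtain ⟨x, hx, hxa⟩ := h2 (h⁻¹ * g * h) (by
      rintro _ ⟨_, ⟨a, ha, rfl⟩, rfl⟩
      have := hg a ha
      rw [← hh, gff_mem_smul_sylow] at this
      have h3 : h⁻¹ * g * h * (h⁻¹ * a * h) * (h⁻¹ * g * h)⁻¹ = h⁻¹ * (g * a * g⁻¹) * h := by
        group
      show h⁻¹ * g * h * (h⁻¹ * a * h) * (h⁻¹ * g * h)⁻¹ ∈ (T' : Subgroup H)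
      rw [h3]; exact this)
    refine ⟨h * x * h⁻¹, ?_, ?_⟩
    · rw [Subgroup.mem_normalizer_iff]
      intro y
      rw [gff_mem_map_conj, gff_mem_map_conj]
      rw [Subgroup.mem_normalizer_iff] at hx
      rw [hx (h⁻¹ * y * h)]
      have h3 : h⁻¹ * (h * x * h⁻¹ * y * (h * x * h⁻¹)⁻¹) * h = x * (h⁻¹ * y * h) * x⁻¹ := by
        group
      rw [h3]
    · intro a ha
      have h4 := hxa (h⁻¹ * a * h) ⟨a, ha, rfl⟩
      have h5 : g * a * g⁻¹ = h * (h⁻¹ * g * h * (h⁻¹ * a * h) * (h⁻¹ * g * h)⁻¹) * h⁻¹ := by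
        group
      rw [h5, h4]
      group


open Cfsg.Agent.Lib.Helper88 in
/-- If, in `N_G(R)/R`, the normalizer of a nontrivial subgroup `U1` of the image of `S` controls
strong fusion in that image, then every factor system of `F_S(G)` modulo the strongly closed
subgroup `R` has a nontrivial normal subgroup. -/
theorem gff_core_ne_bot {G : Type*} [Group G] [Finite G] (S R : Subgroup G)
    (hsc : (groupFusionSystem S).StronglyClosed R)
    [hn : (R.subgroupOf S).Normal]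
    (U1 : Subgroup (↥(Subgroup.normalizer (R : Set G)) ⧸
      R.subgroupOf (Subgroup.normalizer (R : Set G))))
    (hU1 : U1 ≠ ⊥)
    (hSN : S ≤ Subgroup.normalizer (R : Set G))
    (hU1S : U1 ≤ (S.subgroupOf (Subgroup.normalizer (R : Set G))).map
      (QuotientGroup.mk' (R.subgroupOf (Subgroup.normalizer (R : Set G)))))
    (hctl : ∀ A : Set (↥(Subgroup.normalizer (R : Set G)) ⧸
        R.subgroupOf (Subgroup.normalizer (R : Set G))),
      (∀ a ∈ A, a ∈ (S.subgroupOf (Subgroup.normalizer (R : Set G))).map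
        (QuotientGroup.mk' (R.subgroupOf (Subgroup.normalizer (R : Set G))))) →
      ∀ g, (∀ a ∈ A, g * a * g⁻¹ ∈ (S.subgroupOf (Subgroup.normalizer (R : Set G))).map
        (QuotientGroup.mk' (R.subgroupOf (Subgroup.normalizer (R : Set G))))) →
      ∃ x ∈ Subgroup.normalizer (U1 : Set (↥(Subgroup.normalizer (R : Set G)) ⧸
        R.subgroupOf (Subgroup.normalizer (R : Set G)))), ∀ a ∈ A, g * a * g⁻¹ = x * a * x⁻¹)
    (E : FusionSystem (⊤ : Subgroup (↥S ⧸ R.subgroupOf S)))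
    (hE : (groupFusionSystem S).IsFactorSystem R (QuotientGroup.mk' (R.subgroupOf S)) E) :
    E.core ≠ ⊥ := by
  classical
  obtain ⟨hRS, hker, hrange, hHom⟩ := hE
  set N : Subgroup G := Subgroup.normalizer (R : Set G) with hN
  set π : ↥N →* (↥N ⧸ R.subgroupOf N) := QuotientGroup.mk' (R.subgroupOf N) with hπ
  set θ : ↥S →* (↥S ⧸ R.subgroupOf S) := QuotientGroup.mk' (R.subgroupOf S) with hθ
  set Sb : Subgroup (↥N ⧸ R.subgroupOf N) := (S.subgroupOf N).map π with hSb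
  have hπ1 : ∀ n : N, π n = 1 ↔ (n : G) ∈ R := by
    intro n
    rw [hπ, QuotientGroup.mk'_apply, QuotientGroup.eq_one_iff]
    exact Subgroup.mem_subgroupOf
  have hk : R.subgroupOf S ≤ (π.comp (Subgroup.inclusion hSN)).ker := by
    intro s hs
    rw [MonoidHom.mem_ker, MonoidHom.comp_apply, hπ1]
    exact hs
  let ι : (↥S ⧸ R.subgroupOf S) →* (↥N ⧸ R.subgroupOf N) :=
    QuotientGroup.lift (R.subgroupOf S) (π.comp (Subgroup.inclusion hSN)) hk
  have hιθ : ∀ s : S, ι (θ s) = π (Subgroup.inclusion hSN s) := fun s => rfl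
  have hθsurj : Function.Surjective θ := QuotientGroup.mk'_surjective _
  have hιinj : Function.Injective ι := by
    rw [injective_iff_map_eq_one]
    intro y hy
    obtain ⟨s, rfl⟩ := hθsurj y
    rw [hιθ, hπ1] at hy
    exact (hker s).mpr hy
  -- basic facts on `Sb`
  have ha : ∀ s : S, π (Subgroup.inclusion hSN s) ∈ Sb := fun s =>
    ⟨Subgroup.inclusion hSN s, Subgroup.mem_subgroupOf.mpr s.2, rfl⟩
  have hb : ∀ n : N, π n ∈ Sb → (n : G) ∈ S := by
    rintro n ⟨t, ht, htn⟩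
    have h1 : π (t⁻¹ * n) = 1 := by rw [map_mul, map_inv, htn, inv_mul_cancel]
    rw [hπ1] at h1
    have h2 : (t : G) ∈ S := Subgroup.mem_subgroupOf.mp ht
    have h3 : (n : G) = (t : G) * ((t⁻¹ * n : N) : G) := by
      simp
    rw [h3]
    exact S.mul_mem h2 (hRS h1)
  have hc : ∀ z ∈ Sb, ∃ y, ι y = z := by
    rintro z ⟨t, ht, rfl⟩
    refine ⟨θ ⟨(t : G), Subgroup.mem_subgroupOf.mp ht⟩, ?_⟩
    rw [hιθ]
    rfl
  have hrange' : ∀ P' : Subgroup (↥S ⧸ R.subgroupOf S), P' ≤ θ.range := by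
    intro P' y _
    exact hθsurj y
  -- the candidate normal subgroup
  set Q' : Subgroup (↥S ⧸ R.subgroupOf S) := U1.comap ι with hQ'
  have hQ'ne : Q' ≠ ⊥ := by
    obtain ⟨u, hu, hu1⟩ := (Subgroup.ne_bot_iff_exists_ne_one).mp hU1 |> fun ⟨u, hu⟩ =>
      (⟨(u : _), u.2, fun h => hu (Subtype.ext h)⟩ : ∃ u ∈ U1, u ≠ 1)
    obtain ⟨y, hy⟩ := hc u (hU1S hu)
    intro hbot
    have hyQ : y ∈ Q' := by
      rw [hQ', Subgroup.mem_comap, hy]; exact hu
    rw [hbot, Subgroup.mem_bot] at hyQ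
    apply hu1
    rw [← hy, hyQ, map_one]
  have hnormal : E.IsNormal Q' := by
    refine ⟨le_top, ?_⟩
    intro P' φ' hφ'
    obtain ⟨-, φ, hφF, hind⟩ := (hHom P' φ').mp hφ'
    obtain ⟨hPS, hφS, g, hg⟩ := hφF
    obtain ⟨hP1, hφ1, hP'1, hind⟩ := hind
    -- `g` normalizes `R`
    have hRP : R ≤ preimageAlong θ P' := by
      intro r hr
      rw [mem_preimageAlong]
      refine ⟨hRS hr, ?_⟩
      have : θ ⟨r, hRS hr⟩ = 1 := (hker _).mpr hr
      rw [this]; exact P'.one_mem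
    have hgN : g ∈ N := by
      apply gff_mem_normalizer_of_conj_le
      intro r hr
      have hmem : (φ.comp (Subgroup.inclusion hRP)) ∈ (groupFusionSystem S).Hom R :=
        ⟨hRS, fun x => hφS _, g, fun x => hg _⟩
      have := hsc.2 R le_rfl _ hmem ⟨r, hr⟩
      have h2 : (φ.comp (Subgroup.inclusion hRP)) ⟨r, hr⟩ = g * r * g⁻¹ := hg _
      rw [h2] at this
      exact this
    set gb : (↥N ⧸ R.subgroupOf N) := π ⟨g, hgN⟩ with hgb
    -- key identity K1
    have K1 : ∀ x : preimageAlong θ P',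
        gb * ι (θ ⟨x, hPS x.2⟩) * gb⁻¹ = ι (θ ⟨φ x, hφS x⟩) := by
      intro x
      rw [hιθ, hιθ, hgb, ← map_inv, ← map_mul, ← map_mul]
      congr 1
      apply Subtype.ext
      exact (hg x).symm
    let A : Set (↥N ⧸ R.subgroupOf N) := ι '' (P' : Set (↥S ⧸ R.subgroupOf S))
    have hA : ∀ a ∈ A, a ∈ Sb := by
      rintro _ ⟨y, -, rfl⟩
      obtain ⟨s, rfl⟩ := hθsurj y
      rw [hιθ]; exact ha s
    have hgA : ∀ a ∈ A, gb * a * gb⁻¹ ∈ Sb := by
      rintro _ ⟨y, hy, rfl⟩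
      obtain ⟨x, hx⟩ := exists_preimage (hrange' P') ⟨y, hy⟩
      have hx' : y = θ ⟨x, hPS x.2⟩ := hx.symm
      rw [hx', K1 x, hιθ]
      exact ha _
    obtain ⟨xb, hxbN, hxb⟩ := hctl A hA gb hgA
    obtain ⟨xN, rfl⟩ := QuotientGroup.mk'_surjective (R.subgroupOf N) xb
    change π xN ∈ _ at hxbN
    change ∀ a ∈ A, gb * a * gb⁻¹ = π xN * a * (π xN)⁻¹ at hxb
    have hnorm : ∀ u, u ∈ U1 ↔ π xN * u * (π xN)⁻¹ ∈ U1 :=
      Subgroup.mem_normalizer_iff.mp hxbN
    -- (V)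
    have hV : ∀ y ∈ P' ⊔ Q', π xN * ι y * (π xN)⁻¹ ∈ Sb := by
      have hle : P' ⊔ Q' ≤ (Sb.comap (MulAut.conj (π xN)).toMonoidHom).comap ι := by
        apply sup_le
        · intro y hy
          rw [Subgroup.mem_comap, Subgroup.mem_comap]
          show π xN * ι y * (π xN)⁻¹ ∈ Sb
          rw [← hxb (ι y) ⟨y, hy, rfl⟩]
          exact hgA _ ⟨y, hy, rfl⟩
        · intro y hy
          rw [Subgroup.mem_comap, Subgroup.mem_comap]
          show π xN * ι y * (π xN)⁻¹ ∈ Sb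
          exact hU1S ((hnorm _).mp hy)
      intro y hy
      exact hle hy
    have hψ0S : ∀ z : preimageAlong θ (P' ⊔ Q'), (xN : G) * z * (xN : G)⁻¹ ∈ S := by
      intro z
      obtain ⟨hzS, hz⟩ := mem_preimageAlong.mp z.2
      have h1 := hV _ hz
      rw [hιθ, ← map_inv, ← map_mul, ← map_mul] at h1
      exact hb _ h1
    let ψ0 : preimageAlong θ (P' ⊔ Q') →* G := conjHom (preimageAlong θ (P' ⊔ Q')) (xN : G)
    have hψ0 : ∀ z, ψ0 z = (xN : G) * z * (xN : G)⁻¹ := fun z => rfl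
    have hψ0mem : ψ0 ∈ (groupFusionSystem S).Hom (preimageAlong θ (P' ⊔ Q')) :=
      ⟨preimageAlong_le θ _, hψ0S, (xN : G), hψ0⟩
    obtain ⟨ψ', hψ'⟩ := exists_induced (hrange' (P' ⊔ Q')) ψ0 hψ0S (by
      intro z hz
      rw [hker] at hz ⊢
      exact (Subgroup.mem_normalizer_iff.mp xN.2 _).mp hz)
    have hψ'ind := hψ'
    obtain ⟨hPle, hψS, hP'2, hψ'⟩ := hψ'
    -- key identity K2
    have K2 : ∀ y : ↥(P' ⊔ Q'), ι (ψ' y) = π xN * ι y * (π xN)⁻¹ := by
      intro y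
      obtain ⟨z, hz⟩ := exists_preimage (hrange' (P' ⊔ Q')) y
      have hy : y = ⟨θ ⟨z, hPle z.2⟩, hP'2 z⟩ := Subtype.ext hz.symm
      rw [hy, hψ' z]
      show ι (θ ⟨ψ0 z, hψS z⟩) = π xN * ι (θ ⟨z, hPle z.2⟩) * (π xN)⁻¹
      rw [hιθ, hιθ, ← map_inv, ← map_mul, ← map_mul]
      congr 1
    refine ⟨ψ', (hHom _ _).mpr ⟨le_top, ψ0, hψ0mem, hψ'ind⟩, ?_, ?_⟩
    · intro y
      apply hιinj
      rw [K2]
      show π xN * ι (y : ↥S ⧸ R.subgroupOf S) * (π xN)⁻¹ = ι (φ' y)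
      rw [← hxb (ι y) ⟨y, y.2, rfl⟩]
      obtain ⟨x, hx⟩ := exists_preimage (hrange' P') y
      have hy : y = ⟨θ ⟨x, hP1 x.2⟩, hP'1 x⟩ := Subtype.ext hx.symm
      rw [hy, hind x]
      exact K1 x
    · ext w
      constructor
      · rintro ⟨y, hy, rfl⟩
        have hy' : ι (y : ↥S ⧸ R.subgroupOf S) ∈ U1 := hy
        show ι (ψ' y) ∈ U1
        rw [K2]
        exact (hnorm _).mp hy'
      · intro hw
        have hw' : ι w ∈ U1 := hw
        have hv : (π xN)⁻¹ * ι w * π xN ∈ U1 := by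
          rw [hnorm]
          have : π xN * ((π xN)⁻¹ * ι w * π xN) * (π xN)⁻¹ = ι w := by group
          rw [this]; exact hw'
        obtain ⟨y0, hy0⟩ := hc _ (hU1S hv)
        have hy0Q : y0 ∈ Q' := by
          rw [hQ', Subgroup.mem_comap, hy0]; exact hv
        refine ⟨⟨y0, (le_sup_right : Q' ≤ P' ⊔ Q') hy0Q⟩, Subgroup.mem_subgroupOf.mpr hy0Q, ?_⟩
        apply hιinj
        rw [K2]
        show π xN * ι y0 * (π xN)⁻¹ = ι w
        rw [hy0]
        group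
  intro hcore
  have hle : Q' ≤ E.core := le_sSup hnormal
  rw [hcore, le_bot_iff] at hle
  exact hQ'ne hle

end Cfsg.Agent.Lib.Helper91
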