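import Mathlib
import Cfsg.Agent.Lib.Helper71.LbA1Defs

/-!
# Lb hive (S1301), leaf LB-A1, sub-leaf A1-S5 `lba1_step5` (helper91, parallel hand for helper71).
-/

set_option autoImplicit false

namespace Cfsg.Agent.Lib.Helper22.Lb

open Subgroup

section lba1

variable {H : Type*} [Group H] [Finite H]
set_option linter.unusedSectionVars false

/-- an element conjugating `D` into itself, together with its inverse, normalizes `D` -/
theorem lba1s5x_mem_normalizer (D : Subgroup H) (a : H) (h1 : ∀ x ∈ D, a * x * a⁻¹ ∈ D)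
    (h2 : ∀ x ∈ D, a⁻¹ * x * a ∈ D) : a ∈ normalizer (D : Set H) := by
  rw [Subgroup.mem_normalizer_iff]
  intro x
  constructor
  · exact h1 x
  · intro hx
    have := h2 _ hx
    have e : a⁻¹ * (a * x * a⁻¹) * a = x := by group
    rwa [e] at this

theorem lba1s5x_cent_singleton (v d : H) : d ∈ centralizer ({v} : Set H) ↔ v * d = d * v := by
  rw [Subgroup.mem_centralizer_iff]
  constructor
  · intro h; exact h v (Set.mem_singleton v)
  · intro h y hy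
    rw [Set.mem_singleton_iff] at hy
    subst hy
    exact h

/-- SUB-LEAF A1-S5 (Step 4 tail `n = u^j k` + Step 5 + the final bookkeeping). -/
theorem lba1_step5 {K P R : Subgroup H} [K.Normal] {u : H} (hyp : lba1_Hyp K P R u)
    (v : H) (hvP : v ∈ P) (hvu : v ≠ u)
    (hmax : ∀ w ∈ P, (∃ g : H, g * u * g⁻¹ = w) → w ≠ u →
      Nat.card ↥(P ⊓ centralizer ({w} : Set H)) ≤ Nat.card ↥(P ⊓ centralizer ({v} : Set H)))
    (hvc : ∃ g : H, g * u * g⁻¹ = v)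
    (S : Subgroup H) (h n : H)
    (hAS : P ⊓ normalizer ((R ⊓ centralizer ({v} : Set H) : Subgroup H) : Set H) ≤ S)
    (hSN : S ≤ normalizer ((R ⊓ centralizer ({v} : Set H) : Subgroup H) : Set H))
    (hconj : ∀ B : Subgroup H,
      B ≤ normalizer ((R ⊓ centralizer ({v} : Set H) : Subgroup H) : Set H) →
        IsPGroup 2 B → ∃ n' ∈ normalizer ((R ⊓ centralizer ({v} : Set H) : Subgroup H) : Set H),
          ∀ b ∈ B, n'⁻¹ * b * n' ∈ S)
    (hSh : ∀ s ∈ S, h⁻¹ * s * h ∈ P) (hhu : h * u * h⁻¹ = u)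
    (hnN : n ∈ normalizer ((R ⊓ centralizer ({v} : Set H) : Subgroup H) : Set H))
    (hnu : n * u * n⁻¹ = v) :
    ∃ D : Subgroup H, D ≤ R ∧ ∃ k ∈ K, k ∈ normalizer (D : Set H) ∧
      k⁻¹ * u * k * u⁻¹ ∈ D ∧ k⁻¹ * u * k * u⁻¹ ∈ centralizer (D : Set H) ∧
      k⁻¹ * u * k * u⁻¹ ≠ 1 ∧
      ∀ x ∈ K, x ∈ centralizer (D : Set H) → (∃ n : ℕ, x ^ 2 ^ n = 1) → x ∈ D := by
  classical
  have hKn : K.Normal := inferInstance
  -- abbreviations
  obtain ⟨D, hD⟩ : ∃ D : Subgroup H, D = R ⊓ centralizer ({v} : Set H) := ⟨_, rfl⟩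
  rw [← hD] at hAS hSN hconj hnN
  have hRP : R ≤ P := by rw [← hyp.hPK]; exact inf_le_left
  have hRK : R ≤ K := by rw [← hyp.hPK]; exact inf_le_right
  have hDR : D ≤ R := by rw [hD]; exact inf_le_left
  have hDP : D ≤ P := hDR.trans hRP
  have hDv : ∀ d ∈ D, v * d = d * v := by
    intro d hd
    rw [hD] at hd
    exact (lba1s5x_cent_singleton v d).mp hd.2
  have hDu : ∀ d ∈ D, d * u = u * d := fun d hd => hyp.hcen d (hDP hd)
  have hmemD : ∀ d : H, d ∈ P → d ∈ K → v * d = d * v → d ∈ D := by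
    intro d h1 h2 h3
    rw [hD]
    refine ⟨?_, (lba1s5x_cent_singleton v d).mpr h3⟩
    rw [← hyp.hPK]; exact ⟨h1, h2⟩
  have hvuc : v * u = u * v := hyp.hcen v hvP
  -- `u` and `v` centralize `D`, hence normalize it
  have huC : u ∈ centralizer (D : Set H) := by
    rw [Subgroup.mem_centralizer_iff]
    intro d hd
    exact hDu d hd
  have hvC : v ∈ centralizer (D : Set H) := by
    rw [Subgroup.mem_centralizer_iff]
    intro d hd
    exact (hDv d hd).symm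
  have hCN : centralizer (D : Set H) ≤ normalizer (D : Set H) := Subgroup.centralizer_le_normalizer _
  have huN : u ∈ normalizer (D : Set H) := hCN huC
  have hvN : v ∈ normalizer (D : Set H) := hCN hvC
  -- decomposition of `n⁻¹`
  obtain ⟨k, hkK, j, hnk⟩ := hyp.hdec n⁻¹
  have hn_eq : n = k⁻¹ * (u ^ j)⁻¹ := by
    have : n = (u ^ j * k)⁻¹ := by rw [← hnk, inv_inv]
    rw [this, mul_inv_rev]
  have hujc : (u ^ j)⁻¹ * u * u ^ j = u := by
    rw [mul_assoc, ((Commute.refl u).pow_right j).eq, inv_mul_cancel_left]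
  have hkv : k⁻¹ * u * k = v := by
    rw [← hnu, hn_eq]
    calc k⁻¹ * u * k = k⁻¹ * ((u ^ j)⁻¹ * u * u ^ j) * k := by rw [hujc]
      _ = k⁻¹ * (u ^ j)⁻¹ * u * (k⁻¹ * (u ^ j)⁻¹)⁻¹ := by group
  have hkN : k ∈ normalizer (D : Set H) := by
    have hk_eq : k = (u ^ j)⁻¹ * n⁻¹ := by rw [hnk]; group
    rw [hk_eq]
    exact mul_mem (inv_mem (pow_mem huN j)) (inv_mem hnN)
  have ht_eq : k⁻¹ * u * k * u⁻¹ = v * u⁻¹ := by rw [hkv]
  have htP : v * u⁻¹ ∈ P := P.mul_mem hvP (P.inv_mem hyp.huP)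
  have htK : v * u⁻¹ ∈ K := by
    rw [← hkv]
    have h1 : u * k * u⁻¹ ∈ K := hKn.conj_mem k hkK u
    have h2 : k⁻¹ * (u * k * u⁻¹) ∈ K := K.mul_mem (K.inv_mem hkK) h1
    have e : k⁻¹ * u * k * u⁻¹ = k⁻¹ * (u * k * u⁻¹) := by group
    rw [e]; exact h2
  have huinv : v * u⁻¹ = u⁻¹ * v := by
    calc v * u⁻¹ = u⁻¹ * (u * v) * u⁻¹ := by group
      _ = u⁻¹ * (v * u) * u⁻¹ := by rw [hvuc]
      _ = u⁻¹ * v := by group
  have htv : v * (v * u⁻¹) = (v * u⁻¹) * v := by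
    rw [huinv]
    calc v * (u⁻¹ * v) = (v * u⁻¹) * v := by group
      _ = u⁻¹ * v * v := by rw [huinv]
  have htD : v * u⁻¹ ∈ D := hmemD _ htP htK htv
  have htC : v * u⁻¹ ∈ centralizer (D : Set H) := mul_mem hvC (inv_mem huC)
  have htne : v * u⁻¹ ≠ 1 := by
    intro h1
    apply hvu
    calc v = v * u⁻¹ * u := by group
      _ = u := by rw [h1, one_mul]
  refine ⟨D, hDR, k, hkK, hkN, ?_, ?_, ?_, ?_⟩
  · rw [ht_eq]; exact htD
  · rw [ht_eq]; exact htC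
  · rw [ht_eq]; exact htne
  -- Step 5
  intro x hxK hxC hx2
  obtain ⟨e, he⟩ := hx2
  have hxN : zpowers x ≤ normalizer (D : Set H) := by
    rw [zpowers_le]; exact hCN hxC
  have hx2g : IsPGroup 2 (zpowers x) := by
    have hdvd : orderOf x ∣ 2 ^ e := orderOf_dvd_of_pow_eq_one he
    obtain ⟨m, _, hm⟩ := (Nat.dvd_prime_pow Nat.prime_two).mp hdvd
    apply IsPGroup.of_card (n := m)
    rw [Nat.card_zpowers, hm]
  obtain ⟨n', hn'N, hn'⟩ := hconj (zpowers x) hxN hx2g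
  have hyS : n'⁻¹ * x * n' ∈ S := hn' x (mem_zpowers x)
  -- `y` centralizes `D`
  have hn'D : ∀ d ∈ D, n' * d * n'⁻¹ ∈ D := fun d hd =>
    (Subgroup.mem_normalizer_iff.mp hn'N d).mp hd
  have hyC : ∀ d ∈ D, d * (n'⁻¹ * x * n') = (n'⁻¹ * x * n') * d := by
    intro d hd
    have h1 := (Subgroup.mem_centralizer_iff.mp hxC) _ (hn'D d hd)
    -- h1 : n' * d * n'⁻¹ * x = x * (n' * d * n'⁻¹)
    calc d * (n'⁻¹ * x * n') = n'⁻¹ * (n' * d * n'⁻¹ * x) * n' := by group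
      _ = n'⁻¹ * (x * (n' * d * n'⁻¹)) * n' := by rw [h1]
      _ = (n'⁻¹ * x * n') * d := by group
  have hyK : n'⁻¹ * x * n' ∈ K := by
    have := hKn.conj_mem x hxK n'⁻¹
    rwa [inv_inv] at this
  have hyhP : h⁻¹ * (n'⁻¹ * x * n') * h ∈ P := hSh _ hyS
  -- `y` commutes with `u`
  have hyu : (n'⁻¹ * x * n') * u = u * (n'⁻¹ * x * n') := by
    have h1 := hyp.hcen _ hyhP
    -- h⁻¹ y h u = u h⁻¹ y h ; conjugate by h, use h u h⁻¹ = u
    calc (n'⁻¹ * x * n') * u = (n'⁻¹ * x * n') * (h * u * h⁻¹) := by rw [hhu]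
      _ = h * (h⁻¹ * (n'⁻¹ * x * n') * h * u) * h⁻¹ := by group
      _ = h * (u * (h⁻¹ * (n'⁻¹ * x * n') * h)) * h⁻¹ := by rw [h1]
      _ = (h * u * h⁻¹) * (n'⁻¹ * x * n') := by group
      _ = u * (n'⁻¹ * x * n') := by rw [hhu]
  -- `y` commutes with `v = t u`
  have hyt := hyC _ htD
  have hyv : v * (n'⁻¹ * x * n') = (n'⁻¹ * x * n') * v := by
    have hv_eq : v = (v * u⁻¹) * u := by group
    calc v * (n'⁻¹ * x * n') = (v * u⁻¹) * (u * (n'⁻¹ * x * n')) := by group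
      _ = (v * u⁻¹) * ((n'⁻¹ * x * n') * u) := by rw [hyu]
      _ = ((v * u⁻¹) * (n'⁻¹ * x * n')) * u := by group
      _ = ((n'⁻¹ * x * n') * (v * u⁻¹)) * u := by rw [hyt]
      _ = (n'⁻¹ * x * n') * v := by group
  -- the conjugate `w = h⁻¹ v h`
  have hvS : v ∈ S := hAS ⟨hvP, hvN⟩
  have hwP : h⁻¹ * v * h ∈ P := hSh v hvS
  have hwc : ∃ g : H, g * u * g⁻¹ = h⁻¹ * v * h := by
    obtain ⟨g, hg⟩ := hvc
    exact ⟨h⁻¹ * g, by rw [← hg]; group⟩
  have hwu : h⁻¹ * v * h ≠ u := by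
    intro h1
    apply hvu
    calc v = h * (h⁻¹ * v * h) * h⁻¹ := by group
      _ = u := by rw [h1, hhu]
  have hcard := hmax _ hwP hwc hwu
  -- `D1 ≤ S`
  have hD1N : P ⊓ centralizer ({v} : Set H) ≤ normalizer (D : Set H) := by
    intro a ha
    have haP : a ∈ P := ha.1
    have hav : v * a = a * v := (lba1s5x_cent_singleton v a).mp ha.2
    have hconjD : ∀ b : H, b ∈ P → v * b = b * v → ∀ d ∈ D, b * d * b⁻¹ ∈ D := by
      intro b hbP hbv d hd
      apply hmemD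
      · exact P.mul_mem (P.mul_mem hbP (hDP hd)) (P.inv_mem hbP)
      · exact hKn.conj_mem d (hRK (hDR hd)) b
      · have hdv := hDv d hd
        have hbinv : v * b⁻¹ = b⁻¹ * v := by
          calc v * b⁻¹ = b⁻¹ * (b * v) * b⁻¹ := by group
            _ = b⁻¹ * (v * b) * b⁻¹ := by rw [hbv]
            _ = b⁻¹ * v := by group
        calc v * (b * d * b⁻¹) = (v * b) * d * b⁻¹ := by group
          _ = (b * v) * d * b⁻¹ := by rw [hbv]
          _ = b * (v * d) * b⁻¹ := by group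
          _ = b * (d * v) * b⁻¹ := by rw [hdv]
          _ = b * d * (v * b⁻¹) := by group
          _ = b * d * (b⁻¹ * v) := by rw [hbinv]
          _ = b * d * b⁻¹ * v := by group
    have hainv : v * a⁻¹ = a⁻¹ * v := by
      calc v * a⁻¹ = a⁻¹ * (a * v) * a⁻¹ := by group
        _ = a⁻¹ * (v * a) * a⁻¹ := by rw [hav]
        _ = a⁻¹ * v := by group
    apply lba1s5x_mem_normalizer D a (hconjD a haP hav)
    intro d hd
    have := hconjD a⁻¹ (P.inv_mem haP) hainv d hd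
    rwa [inv_inv] at this
  have hD1S : P ⊓ centralizer ({v} : Set H) ≤ S := fun a ha => hAS ⟨ha.1, hD1N ha⟩
  -- the injection `D1 → P ⊓ C(w)`
  let φ : ↥(P ⊓ centralizer ({v} : Set H)) → ↥(P ⊓ centralizer ({h⁻¹ * v * h} : Set H)) :=
    fun d => ⟨h⁻¹ * (d : H) * h, by
      refine ⟨hSh _ (hD1S d.2), ?_⟩
      show h⁻¹ * (d : H) * h ∈ centralizer ({h⁻¹ * v * h} : Set H)
      rw [lba1s5x_cent_singleton]
      have hdv : v * (d : H) = (d : H) * v := (lba1s5x_cent_singleton v _).mp d.2.2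
      calc h⁻¹ * v * h * (h⁻¹ * (d : H) * h) = h⁻¹ * (v * (d : H)) * h := by group
        _ = h⁻¹ * ((d : H) * v) * h := by rw [hdv]
        _ = h⁻¹ * (d : H) * h * (h⁻¹ * v * h) := by group⟩
  have hφinj : Function.Injective φ := by
    intro a b hab
    have h1 : h⁻¹ * (a : H) * h = h⁻¹ * (b : H) * h := congrArg Subtype.val hab
    apply Subtype.ext
    calc (a : H) = h * (h⁻¹ * (a : H) * h) * h⁻¹ := by group
      _ = h * (h⁻¹ * (b : H) * h) * h⁻¹ := by rw [h1]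
      _ = (b : H) := by group
  have hφbij := hφinj.bijective_of_nat_card_le hcard
  -- `h⁻¹ y h ∈ P ⊓ C(w)`
  have hyw : h⁻¹ * (n'⁻¹ * x * n') * h ∈ P ⊓ centralizer ({h⁻¹ * v * h} : Set H) := by
    refine ⟨hyhP, ?_⟩
    show h⁻¹ * (n'⁻¹ * x * n') * h ∈ centralizer ({h⁻¹ * v * h} : Set H)
    rw [lba1s5x_cent_singleton]
    calc h⁻¹ * v * h * (h⁻¹ * (n'⁻¹ * x * n') * h) = h⁻¹ * (v * (n'⁻¹ * x * n')) * h := by group
      _ = h⁻¹ * ((n'⁻¹ * x * n') * v) * h := by rw [hyv]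
      _ = h⁻¹ * (n'⁻¹ * x * n') * h * (h⁻¹ * v * h) := by group
  obtain ⟨d, hd⟩ := hφbij.2 ⟨_, hyw⟩
  have hdy : (d : H) = n'⁻¹ * x * n' := by
    have h1 : h⁻¹ * (d : H) * h = h⁻¹ * (n'⁻¹ * x * n') * h := congrArg Subtype.val hd
    calc (d : H) = h * (h⁻¹ * (d : H) * h) * h⁻¹ := by group
      _ = h * (h⁻¹ * (n'⁻¹ * x * n') * h) * h⁻¹ := by rw [h1]
      _ = n'⁻¹ * x * n' := by group
  have hyP : n'⁻¹ * x * n' ∈ P := by rw [← hdy]; exact d.2.1
  have hyD : n'⁻¹ * x * n' ∈ D := hmemD _ hyP hyK hyv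
  have := hn'D _ hyD
  have e2 : n' * (n'⁻¹ * x * n') * n'⁻¹ = x := by group
  rwa [e2] at this

end lba1

end Cfsg.Agent.Lib.Helper22.Lb
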