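import Mathlib
import Cfsg.Prelude.Def_Transfer
import Cfsg.Agent.Lib.Helper91.Baer0
import Cfsg.Agent.Lib.Helper91.Matsuyama

set_option autoImplicit false

namespace Cfsg.Agent.Lib.Helper91

open Cfsg

universe u

section pResidualSub
open scoped Pointwise

variable {H : Type u} [Group H]

/-- If `B` is subnormal and `P` is a normal `p`-subgroup, every `p'`-element of `BP` lies in `B`. -/
theorem mem_of_coprime_of_mem_sup_normal_pGroup {p : ℕ} [Fact p.Prime] {P : Subgroup H} [P.Normal]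
    (hP : IsPGroup p P) {B : Subgroup H} (hB : B.IsSubnormal) :
    ∀ g ∈ B ⊔ P, Nat.Coprime (orderOf g) p → g ∈ B := by
  induction hB with
  | top => intro g _ _; exact Subgroup.mem_top g
  | step B K hle hK hN ih =>
    intro g hg hcop
    have hgK : g ∈ K := ih g (sup_le_sup_right hle P hg) hcop
    rw [← SetLike.mem_coe, Subgroup.mul_normal] at hg
    obtain ⟨b, hb, x, hx, rfl⟩ := Set.mem_mul.mp hg
    have hxK : x ∈ K := by
      have := K.mul_mem (K.inv_mem (hle hb)) hgK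
      simpa using this
    obtain ⟨k, hk⟩ := hP ⟨x, hx⟩
    have hxk : x ^ p ^ k = 1 := by
      have := congrArg Subtype.val hk
      simpa using this
    have hbmem : (⟨b, hle hb⟩ : K) ∈ B.subgroupOf K := Subgroup.mem_subgroupOf.mpr hb
    have h1 : (QuotientGroup.mk' (B.subgroupOf K)) ⟨b * x, hgK⟩ =
        (QuotientGroup.mk' (B.subgroupOf K)) ⟨x, hxK⟩ := by
      have : (⟨b * x, hgK⟩ : K) = ⟨b, hle hb⟩ * ⟨x, hxK⟩ := rfl
      have hb1 : (QuotientGroup.mk' (B.subgroupOf K)) ⟨b, hle hb⟩ = 1 :=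
        (QuotientGroup.eq_one_iff _).mpr hbmem
      rw [this, map_mul, hb1, one_mul]
    have h2 : ((QuotientGroup.mk' (B.subgroupOf K)) ⟨b * x, hgK⟩) ^ p ^ k = 1 := by
      rw [h1, ← map_pow]
      have : (⟨x, hxK⟩ : K) ^ p ^ k = 1 := by
        apply Subtype.ext
        simpa using hxk
      rw [this, map_one]
    have h3 : orderOf ((QuotientGroup.mk' (B.subgroupOf K)) ⟨b * x, hgK⟩) ∣ p ^ k :=
      orderOf_dvd_of_pow_eq_one h2
    have h4 : orderOf ((QuotientGroup.mk' (B.subgroupOf K)) ⟨b * x, hgK⟩) ∣ orderOf (b * x) := by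
      have := orderOf_map_dvd (QuotientGroup.mk' (B.subgroupOf K)) (⟨b * x, hgK⟩ : K)
      rwa [Subgroup.orderOf_mk] at this
    have h5 : Nat.Coprime (orderOf (b * x)) (p ^ k) := Nat.Coprime.pow_right k hcop
    have h6 : orderOf ((QuotientGroup.mk' (B.subgroupOf K)) ⟨b * x, hgK⟩) = 1 :=
      Nat.eq_one_of_dvd_coprimes h5 h4 h3
    rw [orderOf_eq_one_iff] at h6
    have := (QuotientGroup.eq_one_iff _).mp h6
    exact Subgroup.mem_subgroupOf.mp this

theorem eq_closure_of_map_pResidual_eq {p : ℕ} {B : Subgroup H}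
    (hBres : (Cfsg.pResidual p ↥B).map B.subtype = B) :
    B = Subgroup.closure {s : H | s ∈ B ∧ Nat.Coprime (orderOf s) p} := by
  conv_lhs => rw [← hBres]
  unfold Cfsg.pResidual
  rw [MonoidHom.map_closure]
  congr 1
  ext s
  constructor
  · rintro ⟨b, hb, rfl⟩
    refine ⟨b.2, ?_⟩
    have : Nat.Coprime (orderOf b) p := hb
    rwa [← Subgroup.orderOf_coe] at this
  · rintro ⟨hs, hcop⟩
    refine ⟨⟨s, hs⟩, ?_, rfl⟩
    show Nat.Coprime (orderOf (⟨s, hs⟩ : B)) p
    rwa [Subgroup.orderOf_mk]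

theorem orderOf_conj_smul (x s : H) : orderOf (MulAut.conj x • s) = orderOf s :=
  MulEquiv.orderOf_eq (MulAut.conj x) s

/-- A subnormal `p`-subgroup normalizes every subnormal subgroup `B` with `B = O^p(B)`;
moreover `O^p(AB) = B`. -/
theorem subnormal_pGroup_normalizes_pResidual [Finite H] {p : ℕ} [Fact p.Prime] (A B : Subgroup H)
    (hA : A.IsSubnormal) (hB : B.IsSubnormal) (hAp : IsPGroup p ↥A)
    (hBres : (Cfsg.pResidual p ↥B).map B.subtype = B) :
    A ≤ Subgroup.normalizer (B : Set H) ∧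
      (Cfsg.pResidual p ↥(A ⊔ B)).map (A ⊔ B).subtype = B := by
  obtain ⟨N, hNn, hNp, hAN⟩ := exists_normal_isPGroup_ge_of_isSubnormal hA hAp
  have := hNn
  have hL1 := mem_of_coprime_of_mem_sup_normal_pGroup hNp hB
  have hBcl := eq_closure_of_map_pResidual_eq hBres
  constructor
  · intro a ha
    apply mem_normalizer_of_conj_smul_le
    rw [Subgroup.pointwise_smul_subset_iff]
    conv_lhs => rw [hBcl]
    rw [Subgroup.closure_le]
    rintro s ⟨hs, hcop⟩
    rw [SetLike.mem_coe, Subgroup.mem_inv_pointwise_smul_iff]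
    apply hL1
    · have h1 : MulAut.conj a • s = a * s * a⁻¹ := by simp [MulAut.smul_def]
      rw [h1]
      have haN : a ∈ B ⊔ N := (le_sup_right : N ≤ B ⊔ N) (hAN ha)
      have hsB : s ∈ B ⊔ N := (le_sup_left : B ≤ B ⊔ N) hs
      exact (B ⊔ N).mul_mem ((B ⊔ N).mul_mem haN hsB) ((B ⊔ N).inv_mem haN)
    · rw [orderOf_conj_smul]; exact hcop
  · apply le_antisymm
    · unfold Cfsg.pResidual
      rw [MonoidHom.map_closure, Subgroup.closure_le]
      rintro s ⟨g, hg, rfl⟩
      have hcop : Nat.Coprime (orderOf g) p := hg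
      rw [← Subgroup.orderOf_coe] at hcop
      apply hL1 _ _ hcop
      have : A ⊔ B ≤ B ⊔ N := sup_le (hAN.trans le_sup_right) le_sup_left
      exact this g.2
    · conv_lhs => rw [hBcl]
      rw [Subgroup.closure_le]
      rintro s ⟨hs, hcop⟩
      have hsAB : s ∈ A ⊔ B := (le_sup_right : B ≤ A ⊔ B) hs
      refine ⟨⟨s, hsAB⟩, ?_, rfl⟩
      apply Subgroup.subset_closure
      show Nat.Coprime (orderOf (⟨s, hsAB⟩ : ↥(A ⊔ B))) p
      rwa [Subgroup.orderOf_mk]

end pResidualSub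

end Cfsg.Agent.Lib.Helper91
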