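import Mathlib
import Cfsg.Agent.Lib.Helper91.Baer
import Cfsg.Agent.Lib.Helper91.Components
import Cfsg.Agent.Lib.Helper22.Fitting

set_option autoImplicit false

namespace Cfsg.Agent.Lib.Helper91

universe u

section polar

variable {G : Type u} [Group G]

/-- two subgroups commute elementwise -/
def Cm (X Y : Subgroup G) : Prop := ∀ x ∈ X, ∀ y ∈ Y, x * y = y * x

theorem Cm.symm' {X Y : Subgroup G} (h : Cm X Y) : Cm Y X :=
  fun y hy x hx => (h x hx y hy).symm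

/-- a purely group-theoretic identity in a "quadrangle" of commuting elements -/
theorem quad_rel {x y x' y' : G} (hxx' : x * x' = x' * x)
    (hyy' : y * y' = y' * y) (hd : x * y * (x' * y') = x' * y' * (x * y)) :
    x'⁻¹ * y * x' * y⁻¹ = x⁻¹ * y' * x * y'⁻¹ := by
  have e1 : x'⁻¹ * x = x * x'⁻¹ := by
    calc x'⁻¹ * x = x'⁻¹ * (x * x') * x'⁻¹ := by group
      _ = x'⁻¹ * (x' * x) * x'⁻¹ := by rw [hxx']
      _ = x * x'⁻¹ := by group
  have e2 : y * y'⁻¹ = y'⁻¹ * y := by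
    calc y * y'⁻¹ = y'⁻¹ * (y' * y) * y'⁻¹ := by group
      _ = y'⁻¹ * (y * y') * y'⁻¹ := by rw [hyy']
      _ = y'⁻¹ * y := by group
  have hA : x'⁻¹ * y * x' * y' = x⁻¹ * y' * x * y := by
    calc x'⁻¹ * y * x' * y' = x⁻¹ * (x * x'⁻¹) * y * x' * y' := by group
      _ = x⁻¹ * (x'⁻¹ * x) * y * x' * y' := by rw [e1]
      _ = x⁻¹ * x'⁻¹ * (x * y * (x' * y')) := by group
      _ = x⁻¹ * x'⁻¹ * (x' * y' * (x * y)) := by rw [hd]
      _ = x⁻¹ * y' * x * y := by group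
  calc x'⁻¹ * y * x' * y⁻¹ = (x'⁻¹ * y * x' * y') * y'⁻¹ * y⁻¹ := by group
    _ = (x⁻¹ * y' * x * y) * y'⁻¹ * y⁻¹ := by rw [hA]
    _ = x⁻¹ * y' * x * (y * y'⁻¹) * y⁻¹ := by group
    _ = x⁻¹ * y' * x * (y'⁻¹ * y) * y⁻¹ := by rw [e2]
    _ = x⁻¹ * y' * x * y'⁻¹ := by group

/-- In a quadrangle of commuting elements with commuting diagonals, the commutator
`c = x'⁻¹ y x' y⁻¹` commutes with `y` and `x'`. -/
theorem quad_central {x y x' y' : G} (hxy : x * y = y * x) (hx'y' : x' * y' = y' * x')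
    (hxx' : x * x' = x' * x) (hyy' : y * y' = y' * y)
    (hd : x * y * (x' * y') = x' * y' * (x * y)) :
    (x'⁻¹ * y * x' * y⁻¹) * y = y * (x'⁻¹ * y * x' * y⁻¹) ∧
    (x'⁻¹ * y * x' * y⁻¹) * x' = x' * (x'⁻¹ * y * x' * y⁻¹) := by
  have hR1 := quad_rel hxx' hyy' hd
  have hd' : y * x * (y' * x') = y' * x' * (y * x) := by
    rw [← hxy, ← hx'y']; exact hd
  have hR2 := quad_rel hyy' hxx' hd'
  -- hR2 : y'⁻¹ * x * y' * x⁻¹ = y⁻¹ * x' * y * x'⁻¹
  have cy : Commute y (x'⁻¹ * y * x' * y⁻¹) := by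
    rw [hR1]
    have h1 : Commute y x := hxy.symm
    have h2 : Commute y y' := hyy'
    exact ((h1.inv_right.mul_right h2).mul_right h1).mul_right h2.inv_right
  have ctx : Commute x' (y⁻¹ * x' * y * x'⁻¹) := by
    rw [← hR2]
    have h1 : Commute x' x := hxx'.symm
    have h2 : Commute x' y' := hx'y'
    exact ((h2.inv_right.mul_right h1).mul_right h2).mul_right h1.inv_right
  refine ⟨cy.eq.symm, ?_⟩
  -- c⁻¹ = y * (x'⁻¹ * c̃ * x') * y⁻¹
  have h3 : (x'⁻¹ * y * x' * y⁻¹)⁻¹ = y * (x'⁻¹ * (y⁻¹ * x' * y * x'⁻¹) * x') * y⁻¹ := by group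
  have h4 : x'⁻¹ * (y⁻¹ * x' * y * x'⁻¹) * x' = y⁻¹ * x' * y * x'⁻¹ := by
    rw [mul_assoc, ← ctx.eq]; group
  rw [h4] at h3
  -- c̃ = y⁻¹ c⁻¹ y = c⁻¹
  have h5 : y⁻¹ * x' * y * x'⁻¹ = (x'⁻¹ * y * x' * y⁻¹)⁻¹ := by
    have h6 : y⁻¹ * x' * y * x'⁻¹ = y⁻¹ * (x'⁻¹ * y * x' * y⁻¹)⁻¹ * y := by
      rw [h3]; group
    have h7 : Commute y (x'⁻¹ * y * x' * y⁻¹)⁻¹ := cy.inv_right
    rw [h6, mul_assoc, ← h7.eq]; group
  have h8 : Commute x' (x'⁻¹ * y * x' * y⁻¹)⁻¹ := by rw [← h5]; exact ctx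
  have h9 := h8.inv_right
  rw [inv_inv] at h9
  exact h9.eq.symm

/-- commutators are unchanged by central factors -/
theorem comm_mul_central {a b z w : G} (hzb : z * b = b * z)
    (hwa : w * a = a * w) (hwb : w * b = b * w) (hzw : z * w = w * z) :
    (b * w)⁻¹ * (a * z) * (b * w) * (a * z)⁻¹ = b⁻¹ * a * b * a⁻¹ := by
  have hw : Commute w (b⁻¹ * a * b * a⁻¹) := by
    have h1 : Commute w a := hwa
    have h2 : Commute w b := hwb
    exact ((h2.inv_right.mul_right h1).mul_right h2).mul_right h1.inv_right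
  calc (b * w)⁻¹ * (a * z) * (b * w) * (a * z)⁻¹
      = w⁻¹ * b⁻¹ * a * (z * b) * w * z⁻¹ * a⁻¹ := by group
    _ = w⁻¹ * b⁻¹ * a * (b * z) * w * z⁻¹ * a⁻¹ := by rw [hzb]
    _ = w⁻¹ * b⁻¹ * a * b * (z * w) * z⁻¹ * a⁻¹ := by group
    _ = w⁻¹ * b⁻¹ * a * b * (w * z) * z⁻¹ * a⁻¹ := by rw [hzw]
    _ = w⁻¹ * b⁻¹ * a * b * (w * a⁻¹) := by group
    _ = w⁻¹ * b⁻¹ * a * b * (a⁻¹ * w) := by
        have h1 : Commute w a := hwa
        rw [h1.inv_right.eq]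
    _ = w⁻¹ * ((b⁻¹ * a * b * a⁻¹) * w) := by group
    _ = w⁻¹ * (w * (b⁻¹ * a * b * a⁻¹)) := by rw [hw.eq]
    _ = b⁻¹ * a * b * a⁻¹ := by group

/-! ### subgroups of prime order -/

theorem exists_ne_one_of_prime_card {p : ℕ} (hp : p.Prime) {X : Subgroup G}
    (hX : Nat.card ↥X = p) : ∃ x ∈ X, x ≠ 1 := by
  by_contra hcon
  push Not at hcon
  have hbot : X = ⊥ := (Subgroup.eq_bot_iff_forall X).mpr hcon
  rw [hbot, Subgroup.card_bot] at hX
  exact hp.one_lt.ne hX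

theorem pow_eq_one_of_prime_card {p : ℕ} {X : Subgroup G}
    (hX : Nat.card ↥X = p) {x : G} (hx : x ∈ X) : x ^ p = 1 := by
  have h1 : (⟨x, hx⟩ : X) ^ Nat.card ↥X = 1 := pow_card_eq_one'
  rw [hX] at h1
  exact congrArg Subtype.val h1

theorem zpowers_eq_of_prime_card {p : ℕ} (hp : p.Prime) {X : Subgroup G}
    (hX : Nat.card ↥X = p) {x : G} (hx : x ∈ X) (hx1 : x ≠ 1) : Subgroup.zpowers x = X := by
  have hfin : Finite ↥X := Nat.finite_of_card_ne_zero (by rw [hX]; exact hp.ne_zero)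
  have hle : Subgroup.zpowers x ≤ X := (Subgroup.zpowers_le).mpr hx
  have hord : orderOf x = p := by
    have hd : orderOf x ∣ p := orderOf_dvd_of_pow_eq_one (pow_eq_one_of_prime_card hX hx)
    rcases (Nat.dvd_prime hp).mp hd with h | h
    · exact absurd (orderOf_eq_one_iff.mp h) hx1
    · exact h
  apply Subgroup.eq_of_le_of_card_ge hle
  rw [Nat.card_zpowers, hord, hX]

theorem card_zpowers_of_pow_eq_one {p : ℕ} (hp : p.Prime) {q : G} (hq : q ^ p = 1) (hq1 : q ≠ 1) :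
    Nat.card ↥(Subgroup.zpowers q) = p := by
  rw [Nat.card_zpowers]
  have hd : orderOf q ∣ p := orderOf_dvd_of_pow_eq_one hq
  rcases (Nat.dvd_prime hp).mp hd with h | h
  · exact absurd (orderOf_eq_one_iff.mp h) hq1
  · exact h

/-- generators commute ⇒ the subgroups commute -/
theorem cm_of_comm_gen {p : ℕ} (hp : p.Prime) {X Y : Subgroup G} (hX : Nat.card ↥X = p)
    (hY : Nat.card ↥Y = p) {x y : G} (hx : x ∈ X) (hx1 : x ≠ 1) (hy : y ∈ Y) (hy1 : y ≠ 1)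
    (hxy : x * y = y * x) : Cm X Y := by
  intro a ha b hb
  rw [← zpowers_eq_of_prime_card hp hX hx hx1] at ha
  rw [← zpowers_eq_of_prime_card hp hY hy hy1] at hb
  obtain ⟨i, rfl⟩ := Subgroup.mem_zpowers_iff.mp ha
  obtain ⟨j, rfl⟩ := Subgroup.mem_zpowers_iff.mp hb
  exact ((show Commute x y from hxy).zpow_zpow i j).eq

/-- an element commuting with `W` elementwise: its cyclic group commutes with `W` -/
theorem cm_zpowers_of_comm {q : G} {W : Subgroup G} (h : ∀ w ∈ W, q * w = w * q) :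
    Cm (Subgroup.zpowers q) W := by
  intro a ha b hb
  obtain ⟨i, rfl⟩ := Subgroup.mem_zpowers_iff.mp ha
  exact ((show Commute q b from h b hb).zpow_left i).eq

theorem cm_self_of_prime_card {p : ℕ} (hp : p.Prime) {X : Subgroup G} (hX : Nat.card ↥X = p) :
    Cm X X := by
  obtain ⟨x, hx, hx1⟩ := exists_ne_one_of_prime_card hp hX
  exact cm_of_comm_gen hp hX hX hx hx1 hx hx1 rfl

/-- the hypotheses on the family `K` -/
structure PolarFamily (p : ℕ) (K : Set (Subgroup G)) : Prop where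
  prime : p.Prime
  card : ∀ X ∈ K, Nat.card ↥X = p
  conj : ∀ X ∈ K, ∀ g : G, X.map (MulAut.conj g).toMonoidHom ∈ K
  line : ∀ X ∈ K, ∀ Y ∈ K, X ≠ Y → Cm X Y →
    ∀ Z : Subgroup G, Z ≤ X ⊔ Y → Nat.card ↥Z = p → Z ∈ K
  perp : ∀ X ∈ K, ∀ Y ∈ K, X ≠ Y → Cm X Y →
    ∀ W ∈ K, (X ⊔ Y) ⊓ Subgroup.centralizer (W : Set G) ≠ ⊥

namespace PolarFamily

variable {p : ℕ} {K : Set (Subgroup G)}

/-- a nontrivial element of a line generates a member of `K` -/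
theorem zpowers_mem (hK : PolarFamily p K) {X Y : Subgroup G} (hX : X ∈ K) (hY : Y ∈ K)
    (hne : X ≠ Y) (hc : Cm X Y) {q : G} (hq : q ∈ X ⊔ Y) (hq1 : q ≠ 1) :
    Subgroup.zpowers q ∈ K := by
  obtain ⟨x, hx, y, hy, rfl⟩ := exists_mul_of_mem_sup_of_commute hc hq
  have hpow : (x * y) ^ p = 1 := by
    rw [(show Commute x y from hc x hx y hy).mul_pow,
      pow_eq_one_of_prime_card (hK.card X hX) hx, pow_eq_one_of_prime_card (hK.card Y hY) hy,
      one_mul]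
  exact hK.line X hX Y hY hne hc _ ((Subgroup.zpowers_le).mpr hq)
    (card_zpowers_of_pow_eq_one hK.prime hpow hq1)

/-- every member `W` of `K` commutes with some point of each line -/
theorem exists_point (hK : PolarFamily p K) {X Y : Subgroup G} (hX : X ∈ K) (hY : Y ∈ K)
    (hne : X ≠ Y) (hc : Cm X Y) {W : Subgroup G} (hW : W ∈ K) :
    ∃ x ∈ X, ∃ y ∈ Y, x * y ≠ 1 ∧ (∀ w ∈ W, (x * y) * w = w * (x * y)) ∧
      Subgroup.zpowers (x * y) ∈ K := by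
  have h1 := hK.perp X hX Y hY hne hc W hW
  obtain ⟨⟨q, hqmem⟩, hq1⟩ := (Subgroup.ne_bot_iff_exists_ne_one).mp h1
  have hq1' : q ≠ 1 := fun h => hq1 (Subtype.ext h)
  obtain ⟨x, hx, y, hy, rfl⟩ := exists_mul_of_mem_sup_of_commute hc hqmem.1
  refine ⟨x, hx, y, hy, hq1', ?_, hK.zpowers_mem hX hY hne hc hqmem.1 hq1'⟩
  intro w hw
  exact (Subgroup.mem_centralizer_iff.mp hqmem.2 w hw).symm

/-- every point lies on a line -/
theorem exists_neighbour (hK : PolarFamily p K)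
    (hex : ∃ X ∈ K, ∃ Y ∈ K, X ≠ Y ∧ Cm X Y) {Y : Subgroup G} (hY : Y ∈ K) :
    ∃ Z ∈ K, Z ≠ Y ∧ Cm Z Y := by
  obtain ⟨X₀, hX₀, Y₀, hY₀, hne, hc⟩ := hex
  obtain ⟨x, hx, y, hy, hq1, hqW, hqK⟩ := hK.exists_point hX₀ hY₀ hne hc hY
  by_cases hZY : Subgroup.zpowers (x * y) = Y
  · -- `Y` lies on the line `X₀ Y₀`
    have hYX : Cm Y X₀ := by
      rw [← hZY]
      apply cm_zpowers_of_comm
      intro w hw
      have h1 := cm_self_of_prime_card hK.prime (hK.card X₀ hX₀) x hx w hw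
      have h2 := hc w hw y hy
      calc x * y * w = x * (y * w) := by group
        _ = x * (w * y) := by rw [h2]
        _ = (x * w) * y := by group
        _ = (w * x) * y := by rw [h1]
        _ = w * (x * y) := by group
    have hYY : Cm Y Y₀ := by
      rw [← hZY]
      apply cm_zpowers_of_comm
      intro w hw
      have h1 := cm_self_of_prime_card hK.prime (hK.card Y₀ hY₀) y hy w hw
      have h2 := hc x hx w hw
      calc x * y * w = x * (y * w) := by group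
        _ = x * (w * y) := by rw [h1]
        _ = (x * w) * y := by group
        _ = (w * x) * y := by rw [h2]
        _ = w * (x * y) := by group
    by_cases h : X₀ = Y
    · refine ⟨Y₀, hY₀, ?_, hYY.symm'⟩
      rw [← h]; exact hne.symm
    · exact ⟨X₀, hX₀, h, hYX.symm'⟩
  · exact ⟨_, hqK, hZY, cm_zpowers_of_comm hqW⟩

/-- any two points have a common neighbour -/
theorem exists_common (hK : PolarFamily p K)
    (hex : ∃ X ∈ K, ∃ Y ∈ K, X ≠ Y ∧ Cm X Y) {Y X' : Subgroup G} (hY : Y ∈ K) (hX' : X' ∈ K) :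
    ∃ C ∈ K, Cm C Y ∧ Cm C X' := by
  obtain ⟨Z, hZ, hZY, hZc⟩ := hK.exists_neighbour hex hY
  obtain ⟨z, hz, y, hy, hq1, hqW, hqK⟩ := hK.exists_point hZ hY hZY hZc hX'
  refine ⟨_, hqK, ?_, cm_zpowers_of_comm hqW⟩
  apply cm_zpowers_of_comm
  intro w hw
  have h1 := cm_self_of_prime_card hK.prime (hK.card Y hY) y hy w hw
  have h2 := hZc z hz w hw
  calc z * y * w = z * (y * w) := by group
    _ = z * (w * y) := by rw [h1]
    _ = (z * w) * y := by group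
    _ = (w * z) * y := by rw [h2]
    _ = w * (z * y) := by group

/-- the quadrangle lemma -/
theorem quad_lemma (hK : PolarFamily p K) {X Y X' Y' : Subgroup G} (hX : X ∈ K) (hY : Y ∈ K)
    (hX' : X' ∈ K) (hY' : Y' ∈ K) (hXY : Cm X Y) (hX'Y' : Cm X' Y') (hXX' : Cm X X')
    (hYY' : Cm Y Y') (hXY' : ¬ Cm X Y') (hYX' : ¬ Cm Y X') :
    ∃ y ∈ Y, ∃ x' ∈ X', y ≠ 1 ∧ x' ≠ 1 ∧ x'⁻¹ * y * x' * y⁻¹ ≠ 1 ∧
      Subgroup.zpowers (x'⁻¹ * y * x' * y⁻¹) ∈ K ∧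
      (x'⁻¹ * y * x' * y⁻¹) * y = y * (x'⁻¹ * y * x' * y⁻¹) ∧
      (x'⁻¹ * y * x' * y⁻¹) * x' = x' * (x'⁻¹ * y * x' * y⁻¹) := by
  have hp := hK.prime
  obtain ⟨x, hx, hx1⟩ := exists_ne_one_of_prime_card hp (hK.card X hX)
  obtain ⟨y, hy, hy1⟩ := exists_ne_one_of_prime_card hp (hK.card Y hY)
  have hneXY : X ≠ Y := by
    intro h; rw [h] at hXX'; exact hYX' hXX'
  have hneX'Y' : X' ≠ Y' := by
    intro h; rw [← h] at hXY'; exact hXY' hXX'
  have hxy : x * y = y * x := hXY x hx y hy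
  have hxy1 : x * y ≠ 1 := by
    intro h
    have h0 : y = x⁻¹ := eq_inv_of_mul_eq_one_right h
    have hyX : y ∈ X := by rw [h0]; exact X.inv_mem hx
    have h1 := zpowers_eq_of_prime_card hp (hK.card X hX) hyX hy1
    have h2 := zpowers_eq_of_prime_card hp (hK.card Y hY) hy hy1
    exact hneXY (h1.symm.trans h2)
  have hxyXY : x * y ∈ X ⊔ Y :=
    Subgroup.mul_mem _ (Subgroup.mem_sup_left hx) (Subgroup.mem_sup_right hy)
  have hP : Subgroup.zpowers (x * y) ∈ K := hK.zpowers_mem hX hY hneXY hXY hxyXY hxy1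
  obtain ⟨x', hx', y', hy', hq1, hqW, -⟩ := hK.exists_point hX' hY' hneX'Y' hX'Y' hP
  have hd : x * y * (x' * y') = x' * y' * (x * y) :=
    (hqW (x * y) (Subgroup.mem_zpowers _)).symm
  have hxx' : x * x' = x' * x := hXX' x hx x' hx'
  have hyy' : y * y' = y' * y := hYY' y hy y' hy'
  have hx'y' : x' * y' = y' * x' := hX'Y' x' hx' y' hy'
  have hx'1 : x' ≠ 1 := by
    intro h
    rw [h, one_mul] at hd hq1
    apply hXY'
    apply cm_of_comm_gen hp (hK.card X hX) (hK.card Y' hY') hx hx1 hy' hq1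
    have h1 : x * y' * y = y' * x * y := by
      calc x * y' * y = x * (y' * y) := by group
        _ = x * (y * y') := by rw [hyy']
        _ = x * y * y' := by group
        _ = y' * (x * y) := hd
        _ = y' * x * y := by group
    exact mul_right_cancel h1
  have hy'1 : y' ≠ 1 := by
    intro h
    rw [h, mul_one] at hd hq1
    apply hYX'
    apply cm_of_comm_gen hp (hK.card Y hY) (hK.card X' hX') hy hy1 hx' hq1
    have h1 : x * (y * x') = x * (x' * y) := by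
      calc x * (y * x') = x * y * x' := by group
        _ = x' * (x * y) := hd
        _ = (x' * x) * y := by group
        _ = (x * x') * y := by rw [hxx']
        _ = x * (x' * y) := by group
    exact mul_left_cancel h1
  obtain ⟨hcy, hcx'⟩ := quad_central hxy hx'y' hxx' hyy' hd
  have hc1 : x'⁻¹ * y * x' * y⁻¹ ≠ 1 := by
    intro h
    apply hYX'
    apply cm_of_comm_gen hp (hK.card Y hY) (hK.card X' hX') hy hy1 hx' hx'1
    calc y * x' = x' * (x'⁻¹ * y * x' * y⁻¹) * y := by group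
      _ = x' * y := by rw [h, mul_one]
  refine ⟨y, hy, x', hx', hy1, hx'1, hc1, ?_, hcy, hcx'⟩
  -- the conjugate of `Y` by `x'⁻¹`
  have hY₂ : Y.map (MulAut.conj x'⁻¹).toMonoidHom ∈ K := hK.conj Y hY x'⁻¹
  have hy₂ : x'⁻¹ * y * x' ∈ Y.map (MulAut.conj x'⁻¹).toMonoidHom := by
    refine Subgroup.mem_map.mpr ⟨y, hy, ?_⟩
    simp
  have hy₂1 : x'⁻¹ * y * x' ≠ 1 := by
    intro h
    apply hy1
    calc y = x' * (x'⁻¹ * y * x') * x'⁻¹ := by group
      _ = 1 := by rw [h]; group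
  have hy₂y : (x'⁻¹ * y * x') * y = y * (x'⁻¹ * y * x') := by
    have e : x'⁻¹ * y * x' = (x'⁻¹ * y * x' * y⁻¹) * y := by group
    rw [e]
    exact ((show Commute (x'⁻¹ * y * x' * y⁻¹) y from hcy).mul_left (Commute.refl y)).eq
  have hcm : Cm (Y.map (MulAut.conj x'⁻¹).toMonoidHom) Y :=
    cm_of_comm_gen hp (hK.card _ hY₂) (hK.card Y hY) hy₂ hy₂1 hy hy1 hy₂y
  have hcmem : x'⁻¹ * y * x' * y⁻¹ ∈ Y.map (MulAut.conj x'⁻¹).toMonoidHom ⊔ Y :=
    Subgroup.mul_mem _ (Subgroup.mem_sup_left hy₂) (Subgroup.mem_sup_right (Y.inv_mem hy))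
  have hne : Y.map (MulAut.conj x'⁻¹).toMonoidHom ≠ Y := by
    intro h
    rw [h] at hy₂
    have hcY : x'⁻¹ * y * x' * y⁻¹ ∈ Y := Y.mul_mem hy₂ (Y.inv_mem hy)
    apply hYX'
    exact cm_of_comm_gen hp (hK.card Y hY) (hK.card X' hX') hcY hc1 hx' hx'1 hcx'
  exact hK.zpowers_mem hY₂ hY hne hcm hcmem hc1

/-- a point of the line `Y C` other than `C` commuting with `U` -/
theorem exists_point_off (hK : PolarFamily p K) {Y C U : Subgroup G} (hY : Y ∈ K) (hC : C ∈ K)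
    (hU : U ∈ K) (hne : Y ≠ C) (hYC : Cm Y C) (hUC : ¬ Cm U C) :
    ∃ y ∈ Y, ∃ c ∈ C, y ≠ 1 ∧ (∀ u ∈ U, (y * c) * u = u * (y * c)) ∧
      Subgroup.zpowers (y * c) ∈ K := by
  obtain ⟨y, hy, c, hc, hq1, hqU, hqK⟩ := hK.exists_point hY hC hne hYC hU
  refine ⟨y, hy, c, hc, ?_, hqU, hqK⟩
  intro h
  rw [h, one_mul] at hqU hq1
  apply hUC
  have := cm_zpowers_of_comm hqU
  rw [zpowers_eq_of_prime_card hK.prime (hK.card C hC) hc hq1] at this
  exact this.symm'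

/-- if there are no quadrangles, a common neighbour of a non-commuting pair is radical -/
theorem radical_of_no_quad (hK : PolarFamily p K)
    (hnq : ∀ X Y X' Y' : Subgroup G, X ∈ K → Y ∈ K → X' ∈ K → Y' ∈ K → Cm X Y → Cm X' Y' →
      Cm X X' → Cm Y Y' → ¬ Cm X Y' → ¬ Cm Y X' → False)
    {Y X' C : Subgroup G} (hY : Y ∈ K) (hX' : X' ∈ K) (hC : C ∈ K) (hYX' : ¬ Cm Y X')
    (hCY : Cm C Y) (hCX' : Cm C X') : ∀ U ∈ K, Cm U C := by
  intro U hU
  by_contra hUC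
  have hp := hK.prime
  have hCC : Cm C C := cm_self_of_prime_card hp (hK.card C hC)
  have hneYC : Y ≠ C := by
    intro h; rw [h] at hYX'; exact hYX' hCX'
  have hneX'C : X' ≠ C := by
    intro h; rw [h] at hYX'; exact hYX' hCY.symm'
  obtain ⟨y₀, hy₀, c₀, hc₀, hy₀1, hqU, hqK⟩ :=
    hK.exists_point_off hY hC hU hneYC hCY.symm' hUC
  obtain ⟨x₀, hx₀, c₁, hc₁, hx₀1, hq'U, hq'K⟩ :=
    hK.exists_point_off hX' hC hU hneX'C hCX'.symm' hUC
  apply hnq U (Subgroup.zpowers (y₀ * c₀)) (Subgroup.zpowers (x₀ * c₁)) C hU hqK hq'K hC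
  · exact (cm_zpowers_of_comm hqU).symm'
  · apply cm_zpowers_of_comm
    intro w hw
    have h1 := hCX' w hw x₀ hx₀
    have h2 := hCC c₁ hc₁ w hw
    calc x₀ * c₁ * w = x₀ * (c₁ * w) := by group
      _ = x₀ * (w * c₁) := by rw [h2]
      _ = (x₀ * w) * c₁ := by group
      _ = (w * x₀) * c₁ := by rw [h1]
      _ = w * (x₀ * c₁) := by group
  · exact (cm_zpowers_of_comm hq'U).symm'
  · apply cm_zpowers_of_comm
    intro w hw
    have h1 := hCY w hw y₀ hy₀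
    have h2 := hCC c₀ hc₀ w hw
    calc y₀ * c₀ * w = y₀ * (c₀ * w) := by group
      _ = y₀ * (w * c₀) := by rw [h2]
      _ = (y₀ * w) * c₀ := by group
      _ = (w * y₀) * c₀ := by rw [h1]
      _ = w * (y₀ * c₀) := by group
  · exact hUC
  · intro h
    have h1 := h (y₀ * c₀) (Subgroup.mem_zpowers _) (x₀ * c₁) (Subgroup.mem_zpowers _)
    apply hYX'
    apply cm_of_comm_gen hp (hK.card Y hY) (hK.card X' hX') hy₀ hy₀1 hx₀ hx₀1
    have e1 : c₀ * x₀ = x₀ * c₀ := hCX' c₀ hc₀ x₀ hx₀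
    have e2 : c₁ * y₀ = y₀ * c₁ := hCY c₁ hc₁ y₀ hy₀
    have e3 : c₁ * c₀ = c₀ * c₁ := hCC c₁ hc₁ c₀ hc₀
    have h2 : y₀ * x₀ * (c₀ * c₁) = x₀ * y₀ * (c₀ * c₁) := by
      calc y₀ * x₀ * (c₀ * c₁) = y₀ * (x₀ * c₀) * c₁ := by group
        _ = y₀ * (c₀ * x₀) * c₁ := by rw [e1]
        _ = y₀ * c₀ * (x₀ * c₁) := by group
        _ = x₀ * c₁ * (y₀ * c₀) := h1
        _ = x₀ * (c₁ * y₀) * c₀ := by group
        _ = x₀ * (y₀ * c₁) * c₀ := by rw [e2]
        _ = x₀ * y₀ * (c₁ * c₀) := by group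
        _ = x₀ * y₀ * (c₀ * c₁) := by rw [e3]
    exact mul_right_cancel h2

/-- a quadrangle produces a radical point -/
theorem radical_of_quad (hK : PolarFamily p K) {X Y X' Y' : Subgroup G} (hX : X ∈ K) (hY : Y ∈ K)
    (hX' : X' ∈ K) (hY' : Y' ∈ K) (hXY : Cm X Y) (hX'Y' : Cm X' Y') (hXX' : Cm X X')
    (hYY' : Cm Y Y') (hXY' : ¬ Cm X Y') (hYX' : ¬ Cm Y X') :
    ∃ V ∈ K, ∀ U ∈ K, Cm U V := by
  have hp := hK.prime
  obtain ⟨y, hy, x', hx', hy1, hx'1, hc1, hcK, hcy, hcx'⟩ :=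
    hK.quad_lemma hX hY hX' hY' hXY hX'Y' hXX' hYY' hXY' hYX'
  obtain ⟨c, hcdef⟩ : ∃ c : G, c = x'⁻¹ * y * x' * y⁻¹ := ⟨_, rfl⟩
  rw [← hcdef] at hc1 hcK hcy hcx'
  refine ⟨Subgroup.zpowers c, hcK, ?_⟩
  intro U hU
  by_contra hUC
  have hCcard := hK.card _ hcK
  have hCY : Cm (Subgroup.zpowers c) Y :=
    cm_of_comm_gen hp hCcard (hK.card Y hY) (Subgroup.mem_zpowers c) hc1 hy hy1 hcy
  have hCX' : Cm (Subgroup.zpowers c) X' :=
    cm_of_comm_gen hp hCcard (hK.card X' hX') (Subgroup.mem_zpowers c) hc1 hx' hx'1 hcx'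
  have hCC : Cm (Subgroup.zpowers c) (Subgroup.zpowers c) := cm_self_of_prime_card hp hCcard
  have hneYC : Y ≠ Subgroup.zpowers c := by
    intro h; rw [h] at hYX'; exact hYX' hCX'
  have hneX'C : X' ≠ Subgroup.zpowers c := by
    intro h; rw [h] at hYX'; exact hYX' hCY.symm'
  obtain ⟨y₀, hy₀, c₀, hc₀, hy₀1, hqU, -⟩ :=
    hK.exists_point_off hY hcK hU hneYC hCY.symm' hUC
  obtain ⟨x₀, hx₀, c₁, hc₁, hx₀1, hq'U, -⟩ :=
    hK.exists_point_off hX' hcK hU hneX'C hCX'.symm' hUC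
  have hymem : y ∈ Subgroup.zpowers y₀ := by
    rw [zpowers_eq_of_prime_card hp (hK.card Y hY) hy₀ hy₀1]; exact hy
  have hxmem : x' ∈ Subgroup.zpowers x₀ := by
    rw [zpowers_eq_of_prime_card hp (hK.card X' hX') hx₀ hx₀1]; exact hx'
  obtain ⟨k, hk⟩ := Subgroup.mem_zpowers_iff.mp hymem
  obtain ⟨l, hl⟩ := Subgroup.mem_zpowers_iff.mp hxmem
  have hA : (y₀ * c₀) ^ k = y * c₀ ^ k := by
    rw [(show Commute y₀ c₀ from (hCY c₀ hc₀ y₀ hy₀).symm).mul_zpow, hk]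
  have hB : (x₀ * c₁) ^ l = x' * c₁ ^ l := by
    rw [(show Commute x₀ c₁ from (hCX' c₁ hc₁ x₀ hx₀).symm).mul_zpow, hl]
  have hc₀k : c₀ ^ k ∈ Subgroup.zpowers c := Subgroup.zpow_mem _ hc₀ k
  have hc₁l : c₁ ^ l ∈ Subgroup.zpowers c := Subgroup.zpow_mem _ hc₁ l
  apply hUC
  apply Cm.symm'
  apply cm_zpowers_of_comm
  intro u hu
  have hAu : Commute ((y₀ * c₀) ^ k) u := (show Commute (y₀ * c₀) u from hqU u hu).zpow_left k
  have hBu : Commute ((x₀ * c₁) ^ l) u := (show Commute (x₀ * c₁) u from hq'U u hu).zpow_left l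
  rw [hA] at hAu
  rw [hB] at hBu
  have hcomm : Commute ((x' * c₁ ^ l)⁻¹ * (y * c₀ ^ k) * (x' * c₁ ^ l) * (y * c₀ ^ k)⁻¹) u :=
    ((hBu.inv_left.mul_left hAu).mul_left hBu).mul_left hAu.inv_left
  rw [comm_mul_central (hCX' _ hc₀k x' hx') (hCY _ hc₁l y hy) (hCX' _ hc₁l x' hx')
    (hCC _ hc₀k _ hc₁l), ← hcdef] at hcomm
  exact hcomm.eq

/-- **existence of a radical point** -/
theorem exists_radical (hK : PolarFamily p K) (hex : ∃ X ∈ K, ∃ Y ∈ K, X ≠ Y ∧ Cm X Y) :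
    ∃ V ∈ K, ∀ U ∈ K, Cm U V := by
  by_cases hall : ∀ X ∈ K, ∀ Y ∈ K, Cm X Y
  · obtain ⟨X, hX, -⟩ := hex
    exact ⟨X, hX, fun U hU => hall U hU X hX⟩
  · push Not at hall
    obtain ⟨Y, hY, X', hX', hYX'⟩ := hall
    by_cases hq : ∃ X Y X' Y' : Subgroup G, X ∈ K ∧ Y ∈ K ∧ X' ∈ K ∧ Y' ∈ K ∧ Cm X Y ∧
        Cm X' Y' ∧ Cm X X' ∧ Cm Y Y' ∧ ¬ Cm X Y' ∧ ¬ Cm Y X'
    · obtain ⟨A, B, A', B', hA, hB, hA', hB', h1, h2, h3, h4, h5, h6⟩ := hq
      exact hK.radical_of_quad hA hB hA' hB' h1 h2 h3 h4 h5 h6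
    · obtain ⟨C, hC, hCY, hCX'⟩ := hK.exists_common hex hY hX'
      refine ⟨C, hC, hK.radical_of_no_quad ?_ hY hX' hC hYX' hCY hCX'⟩
      intro A B A' B' hA hB hA' hB' h1 h2 h3 h4 h5 h6
      exact hq ⟨A, B, A', B', hA, hB, hA', hB', h1, h2, h3, h4, h5, h6⟩

end PolarFamily

/-- the final statement -/
theorem polar_family_main [Finite G] {p : ℕ} (hp : p.Prime) (K : Set (Subgroup G))
    (hK : ∀ X ∈ K, Nat.card ↥X = p)
    (hKc : ∀ X ∈ K, ∀ g : G, X.map (MulAut.conj g).toMonoidHom ∈ K)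
    (hex : ∃ X ∈ K, ∃ Y ∈ K, X ≠ Y ∧ ∀ x ∈ X, ∀ y ∈ Y, x * y = y * x)
    (ha : ∀ X ∈ K, ∀ Y ∈ K, X ≠ Y → (∀ x ∈ X, ∀ y ∈ Y, x * y = y * x) →
      ∀ Z : Subgroup G, Z ≤ X ⊔ Y → Nat.card ↥Z = p → Z ∈ K)
    (hb : ∀ X ∈ K, ∀ Y ∈ K, X ≠ Y → (∀ x ∈ X, ∀ y ∈ Y, x * y = y * x) →
      ∀ W ∈ K, (X ⊔ Y) ⊓ Subgroup.centralizer (W : Set G) ≠ ⊥) :
    (∃ V ∈ K, (∀ W ∈ K, ∀ v ∈ V, ∀ w ∈ W, v * w = w * v) ∧ V ≤ Cfsg.pCore p G) ∧
      ¬ IsSimpleGroup G := by
  have hPF : PolarFamily p K := ⟨hp, hK, hKc, ha, hb⟩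
  obtain ⟨V, hV, hVrad⟩ := hPF.exists_radical hex
  have hfact : Fact p.Prime := ⟨hp⟩
  have hVcore : V ≤ Cfsg.pCore p G := by
    have hpg : ∀ g : G, IsPGroup p ↥(V ⊔ V.map (MulAut.conj g).toMonoidHom) := by
      intro g
      have hVg : V.map (MulAut.conj g).toMonoidHom ∈ K := hKc V hV g
      have hcm : Cm V (V.map (MulAut.conj g).toMonoidHom) := (hVrad _ hVg).symm'
      rintro ⟨z, hz⟩
      obtain ⟨x, hx, y, hy, rfl⟩ := exists_mul_of_mem_sup_of_commute hcm hz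
      refine ⟨1, ?_⟩
      apply Subtype.ext
      rw [pow_one]
      show (x * y) ^ p = 1
      rw [(show Commute x y from hcm x hx y hy).mul_pow,
        pow_eq_one_of_prime_card (hK V hV) hx, pow_eq_one_of_prime_card (hK _ hVg) hy, one_mul]
    obtain ⟨N, hNn, hNp, hVN⟩ := baer_suzuki (p := p) V hpg
    exact hVN.trans (Helper22.le_pCore' hNn hNp)
  refine ⟨⟨V, hV, fun W hW v hv w hw => (hVrad W hW w hw v hv).symm, hVcore⟩, ?_⟩
  intro hsimple
  have hcoreN : (Cfsg.pCore p G).Normal := Helper22.pCore_normal' p G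
  have hVne : V ≠ ⊥ := by
    intro h
    have := hK V hV
    rw [h, Subgroup.card_bot] at this
    exact hp.one_lt.ne this
  have htop : Cfsg.pCore p G = ⊤ := by
    rcases hcoreN.eq_bot_or_eq_top with h | h
    · exfalso
      rw [h] at hVcore
      exact hVne (le_bot_iff.mp hVcore)
    · exact h
  have hGp : IsPGroup p G := by
    have h1 := Helper22.pCore_isPGroup' p G
    rw [htop] at h1
    exact h1.of_equiv Subgroup.topEquiv
  have hnt : Nontrivial G := hsimple.toNontrivial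
  have hcen : Nontrivial (Subgroup.center G) := hGp.center_nontrivial
  have hcentop : Subgroup.center G = ⊤ := by
    rcases (inferInstance : (Subgroup.center G).Normal).eq_bot_or_eq_top with h | h
    · exfalso
      rw [h] at hcen
      exact not_nontrivial _ hcen
    · exact h
  obtain ⟨X₀, hX₀, Y₀, hY₀, hne, -⟩ := hex
  have key : ∀ X ∈ K, X = ⊤ := by
    intro X hX
    have hXn : X.Normal := by
      refine ⟨fun n hn g => ?_⟩
      have hg : g ∈ Subgroup.center G := by rw [hcentop]; trivial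
      rw [Subgroup.mem_center_iff] at hg
      have : g * n * g⁻¹ = n := by
        rw [← hg n]; group
      rw [this]; exact hn
    rcases hXn.eq_bot_or_eq_top with h | h
    · exfalso
      have := hK X hX
      rw [h, Subgroup.card_bot] at this
      exact hp.one_lt.ne this
    · exact h
  exact hne ((key X₀ hX₀).trans (key Y₀ hY₀).symm)

end polar

end Cfsg.Agent.Lib.Helper91
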