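import Cfsg.Agent.S1976
import Cfsg.Agent.S1979

set_option autoImplicit false
open Cfsg

namespace Cfsg.Agent.Lib.Helper91.Pp

open Cfsg.Agent.S1979 in
/-- PP-INT: strengthened S1979. If both K-infinity subgroups of the finite `p`-group `P` lie in
the subgroup `Q`, then the K-infinity subgroups of `Q` are those of `P`. -/
theorem kinf_intermediate {P : Type*} [Group P] [Finite P] {p : ℕ} [Fact p.Prime]
    (hP : IsPGroup p P) (Q : Subgroup P) (hL : Cfsg.kInfLower P ≤ Q) (hU : Cfsg.kInfUpper P ≤ Q) :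
    (Cfsg.kInfLower ↥Q).map Q.subtype = Cfsg.kInfLower P ∧
      (Cfsg.kInfUpper ↥Q).map Q.subtype = Cfsg.kInfUpper P := by
  obtain ⟨N, hN⟩ := Cfsg.Agent.S1976.result hP
  have heL : ∀ n, Cfsg.kSeqEven P n ≤ Cfsg.kInfLower P := fun n => le_iSup (Cfsg.kSeqEven P) n
  have hoU : ∀ n, Cfsg.kInfUpper P ≤ Cfsg.kSeqOdd P n := fun n => iInf_le _ n
  have hE : ∀ n, Cfsg.kSeqEven P n = FL Q (Cfsg.kSeqOdd P n) :=
    fun n => (FL_eq ((heL n).trans hL)).symm
  have hOle : ∀ n, FU Q (Cfsg.kSeqEven P n) ≤ Cfsg.kSeqOdd P (n + 1) :=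
    fun n => sSup_le_sSup fun _ hB => hB.2
  have hNe : Cfsg.kSeqEven P N = Cfsg.kInfLower P := (hN N le_rfl).1
  have hNo : Cfsg.kSeqOdd P N = Cfsg.kInfUpper P := (hN N le_rfl).2
  have hNo1 : Cfsg.kSeqOdd P (N + 1) = Cfsg.kInfUpper P := (hN (N + 1) (Nat.le_succ N)).2
  have hFUN : FU Q (Cfsg.kInfLower P) = Cfsg.kInfUpper P := by
    rw [← hNe, ← hNo1]
    exact FU_eq (R := Cfsg.kSeqEven P N) (Q := Q) (by
      show Cfsg.kSeqOdd P (N + 1) ≤ Q
      rw [hNo1]; exact hU)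
  have hFLN : FL Q (Cfsg.kInfUpper P) = Cfsg.kInfLower P := by
    rw [← hNo, ← hE N, hNe]
  have hE' : ∀ n, (Cfsg.kSeqEven Q n).map Q.subtype = FL Q ((Cfsg.kSeqOdd Q n).map Q.subtype) :=
    fun n => map_FL Q _
  have hO' : ∀ n, (Cfsg.kSeqOdd Q (n + 1)).map Q.subtype =
      FU Q ((Cfsg.kSeqEven Q n).map Q.subtype) := fun n => map_FU Q _
  have stepB : ∀ n, (Cfsg.kInfUpper P ≤ (Cfsg.kSeqOdd Q n).map Q.subtype ∧
      (Cfsg.kSeqOdd Q n).map Q.subtype ≤ Cfsg.kSeqOdd P n) →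
      (Cfsg.kSeqEven P n ≤ (Cfsg.kSeqEven Q n).map Q.subtype ∧
        (Cfsg.kSeqEven Q n).map Q.subtype ≤ Cfsg.kInfLower P) := by
    intro n h
    constructor
    · rw [hE n, hE' n]; exact FL_anti Q h.2
    · rw [hE' n, ← hFLN]; exact FL_anti Q h.1
  have hA : ∀ n, (Cfsg.kInfUpper P ≤ (Cfsg.kSeqOdd Q n).map Q.subtype ∧
      (Cfsg.kSeqOdd Q n).map Q.subtype ≤ Cfsg.kSeqOdd P n) := by
    intro n
    induction n with
    | zero =>
      have : (Cfsg.kSeqOdd Q 0).map Q.subtype = Q := by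
        show (⊤ : Subgroup Q).map Q.subtype = Q
        rw [← MonoidHom.range_eq_map, Subgroup.range_subtype]
      rw [this]
      exact ⟨hU, le_top⟩
    | succ n ih =>
      have hB := stepB n ih
      constructor
      · rw [hO' n, ← hFUN]; exact FU_anti Q hB.2
      · rw [hO' n]; exact le_trans (FU_anti Q hB.1) (hOle n)
  have hB : ∀ n, (Cfsg.kSeqEven P n ≤ (Cfsg.kSeqEven Q n).map Q.subtype ∧
        (Cfsg.kSeqEven Q n).map Q.subtype ≤ Cfsg.kInfLower P) := fun n => stepB n (hA n)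
  constructor
  · show (⨆ n, Cfsg.kSeqEven Q n).map Q.subtype = Cfsg.kInfLower P
    rw [Subgroup.map_iSup]
    apply le_antisymm
    · exact iSup_le fun n => (hB n).2
    · show (⨆ n, Cfsg.kSeqEven P n) ≤ _
      exact iSup_le fun n => le_trans (hB n).1
        (le_iSup (fun n => (Cfsg.kSeqEven Q n).map Q.subtype) n)
  · show (⨅ n, Cfsg.kSeqOdd Q n).map Q.subtype = Cfsg.kInfUpper P
    rw [Subgroup.map_iInf _ Q.subtype_injective]
    apply le_antisymm
    · show _ ≤ ⨅ n, Cfsg.kSeqOdd P n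
      exact le_iInf fun n => le_trans (iInf_le _ n) (hA n).2
    · exact le_iInf fun n => (hA n).1

end Cfsg.Agent.Lib.Helper91.Pp
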