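import Cfsg.Agent.Lib.Helper91.PpINT
import Cfsg.Agent.Lib.Helper33.KInfStable
import Cfsg.Agent.Lib.Helper33.KInfChar
import Cfsg.Agent.Lib.Helper33.PStabBasic
import Cfsg.Agent.Lib.Helper51.QdStab
import Cfsg.Agent.Lib.Helper51.InvolvesT

set_option autoImplicit false
open Cfsg

namespace Cfsg.Agent.Lib.Helper91.Pp

universe u

/-- The induced functor commutes with injective homomorphisms, for an isomorphism-invariant
functor. -/
theorem ppodd_induced_map {X Y : Type u} [Group X] [Group Y] (f : X →* Y)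
    (hf : Function.Injective f) (W : ∀ (Q : Type u) [Group Q], Subgroup Q)
    (hW : ∀ (Q R : Type u) [Group Q] [Group R] (φ : Q ≃* R), (W Q).map φ.toMonoidHom = W R)
    (S : Subgroup X) :
    (Cfsg.inducedFunctor W S).map f = Cfsg.inducedFunctor W (S.map f) := by
  unfold Cfsg.inducedFunctor
  have h := hW ↥S ↥(S.map f) (S.equivMapOfInjective f hf)
  rw [← h, Subgroup.map_map, Subgroup.map_map]
  rfl

/-- Inside `G`: if both K-infinity subgroups of the finite `p`-subgroup `S` lie in `T ≤ S`, then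
the upper K-infinity subgroups of `T` and `S` coincide. -/
theorem ppodd_induced_eq {G : Type u} [Group G] {p : ℕ} [Fact p.Prime] (S T : Subgroup G)
    [Finite S] (hS : IsPGroup p S) (hTS : T ≤ S)
    (hL : Cfsg.inducedFunctor Cfsg.kInfLower S ≤ T)
    (hU : Cfsg.inducedFunctor Cfsg.kInfUpper S ≤ T) :
    Cfsg.inducedFunctor Cfsg.kInfUpper T = Cfsg.inducedFunctor Cfsg.kInfUpper S := by
  have hL' : Cfsg.kInfLower ↥S ≤ T.subgroupOf S := by
    intro x hx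
    rw [Subgroup.mem_subgroupOf]
    exact hL (Subgroup.mem_map_of_mem S.subtype hx)
  have hU' : Cfsg.kInfUpper ↥S ≤ T.subgroupOf S := by
    intro x hx
    rw [Subgroup.mem_subgroupOf]
    exact hU (Subgroup.mem_map_of_mem S.subtype hx)
  have hint := (kinf_intermediate hS (T.subgroupOf S) hL' hU').2
  have hmap := ppodd_induced_map S.subtype S.subtype_injective
    (fun (Q : Type u) [Group Q] => Cfsg.kInfUpper Q)
    (fun Q R _ _ φ => Cfsg.Agent.Lib.Helper33.map_kInfUpper φ) (T.subgroupOf S)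
  rw [Subgroup.map_subgroupOf_eq_of_le hTS] at hmap
  show Cfsg.inducedFunctor (fun (Q : Type u) [Group Q] => Cfsg.kInfUpper Q) T = _
  rw [← hmap]
  show ((Cfsg.kInfUpper ↥(T.subgroupOf S)).map (T.subgroupOf S).subtype).map S.subtype = _
  rw [hint]
  rfl

/-- In a `Qd(p)`-free group of characteristic `p` (`p` odd) both K-infinity subgroups of a Sylow
`p`-subgroup are normal. -/
theorem ppodd_normal {Y : Type u} [Group Y] [Finite Y] {p : ℕ} [Fact p.Prime] (hp2 : p ≠ 2)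
    (hq : ¬ Cfsg.Involves ↥(Cfsg.qd p) Y)
    (hc : Subgroup.centralizer ((Cfsg.pCore p Y : Subgroup Y) : Set Y) ≤ Cfsg.pCore p Y)
    (S : Sylow p Y) :
    (Cfsg.inducedFunctor (G := Y) Cfsg.kInfLower (S : Subgroup Y)).Normal ∧
      (Cfsg.inducedFunctor (G := Y) Cfsg.kInfUpper (S : Subgroup Y)).Normal := by
  have hst : ∀ (K' R' : Subgroup Y) [_h : (R'.subgroupOf K').Normal],
      Cfsg.IsNormalizerPStable p (↥K' ⧸ R'.subgroupOf K') := by
    intro K' R' hR'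
    apply Cfsg.Agent.Lib.Helper51.QdStab.isNormalizerPStable_qd hp2
    intro hinv
    apply hq
    exact Cfsg.Agent.Lib.Helper51.involves_of_injective K'.subtype K'.subtype_injective
      (Cfsg.Agent.Lib.Helper51.involves_of_surjective (QuotientGroup.mk' (R'.subgroupOf K'))
        (QuotientGroup.mk'_surjective _) hinv)
  have hsec : ∀ (X : Type u) [Group X] [Finite X], Cfsg.Agent.Lib.Helper33.Sec Y X →
      Cfsg.IsNormalizerPStable p X :=
    fun X _ _ hX => Cfsg.Agent.Lib.Helper33.nps_of_sec (fun K R _ => hst K R) X hX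
  constructor
  · exact Cfsg.Agent.Lib.Helper33.kinf_normal_of_stable hsec hc S
      (fun (Q : Type u) [Group Q] => Cfsg.kInfLower Q)
      (Cfsg.Agent.Lib.Helper33.isCharPFunctor_kInfLower p) (Or.inl (fun Q _ => rfl))
  · exact Cfsg.Agent.Lib.Helper33.kinf_normal_of_stable hsec hc S
      (fun (Q : Type u) [Group Q] => Cfsg.kInfUpper Q)
      (Cfsg.Agent.Lib.Helper33.isCharPFunctor_kInfUpper p) (Or.inr (fun Q _ => rfl))

end Cfsg.Agent.Lib.Helper91.Pp

namespace Cfsg.Agent.Lib.Helper91.Pp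

universe u

/-- `M ≤ N_G(N.map M.subtype)` for a normal subgroup `N` of `↥M`. -/
theorem ppodd_le_normalizer_map {G : Type u} [Group G] (M : Subgroup G) (N : Subgroup ↥M)
    [hN : N.Normal] : M ≤ Subgroup.normalizer ((N.map M.subtype : Subgroup G) : Set G) := by
  have h := Subgroup.le_normalizer_map (H := N) M.subtype
  rw [Subgroup.normalizer_eq_top_iff.mpr hN, ← MonoidHom.range_eq_map, Subgroup.range_subtype] at h
  exact h

/-- The image in `G` of `O_p(M)` lies in every Sylow `p`-subgroup of any subgroup `L ≤ M` that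
contains it. -/
theorem ppodd_core_le_sylow {G : Type u} [Group G] [Finite G] {p : ℕ} [Fact p.Prime]
    (M L : Subgroup G) (hLM : L ≤ M) (hQL : (Cfsg.pCore p ↥M).map M.subtype ≤ L)
    (T₀ : Sylow p ↥L) :
    (Cfsg.pCore p ↥M).map M.subtype ≤ (T₀ : Subgroup ↥L).map L.subtype := by
  obtain ⟨Q, hQ⟩ : ∃ Q : Subgroup G, Q = (Cfsg.pCore p ↥M).map M.subtype := ⟨_, rfl⟩
  rw [← hQ] at hQL ⊢
  obtain ⟨S₀⟩ : Nonempty (Sylow p ↥M) := inferInstance
  have hcp : IsPGroup p ↥(Cfsg.pCore p ↥M) :=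
    S₀.isPGroup'.to_le (Cfsg.Agent.Lib.Helper11.pCore_le_sylow S₀)
  have hQp : IsPGroup p ↥Q := by
    rw [hQ]; exact hcp.map M.subtype
  haveI hcn : (Cfsg.pCore p ↥M).Normal := Cfsg.Agent.Lib.Helper55.pCore_normal' p
  have hMN : M ≤ Subgroup.normalizer (Q : Set G) := by
    rw [hQ]; exact ppodd_le_normalizer_map M _
  haveI hn : (Q.subgroupOf L).Normal := by
    constructor
    intro y hy x
    rw [Subgroup.mem_subgroupOf] at hy ⊢
    have hx : (x : G) ∈ Subgroup.normalizer (Q : Set G) := hMN (hLM x.2)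
    have := (Subgroup.mem_normalizer_iff.mp hx (y : G)).mp hy
    simpa using this
  have hp' : IsPGroup p ↥(Q.subgroupOf L) := hQp.comap_subtype
  have h1 : Q.subgroupOf L ≤ Cfsg.pCore p ↥L := Cfsg.Agent.Lib.Helper55.le_pCore p _ hp'
  have h2 : Cfsg.pCore p ↥L ≤ (T₀ : Subgroup ↥L) := Cfsg.Agent.Lib.Helper11.pCore_le_sylow T₀
  calc Q = (Q.subgroupOf L).map L.subtype := (Subgroup.map_subgroupOf_eq_of_le hQL).symm
    _ ≤ (T₀ : Subgroup ↥L).map L.subtype := Subgroup.map_mono (h1.trans h2)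

/-- One half of the argument: for `T` a `p`-subgroup of `M` containing the image of `O_p(M)`,
the subgroup `K^∞(T)` of `G` is normalized by `M`. -/
theorem ppodd_half {G : Type u} [Group G] [Finite G] {p : ℕ} [Fact p.Prime] (hp2 : p ≠ 2)
    (M : Subgroup G)
    (hc : Subgroup.centralizer (Cfsg.pCore p ↥M : Set ↥M) ≤ Cfsg.pCore p ↥M)
    (hq : ¬ Cfsg.Involves ↥(Cfsg.qd p) ↥M) (T : Subgroup G) (hT : IsPGroup p ↥T) (hTM : T ≤ M)
    (hQT : (Cfsg.pCore p ↥M).map M.subtype ≤ T) :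
    M ≤ Subgroup.normalizer ((Cfsg.inducedFunctor Cfsg.kInfUpper T : Subgroup G) : Set G) := by
  have hTp : IsPGroup p ↥(T.subgroupOf M) := hT.comap_subtype
  obtain ⟨S, hS⟩ := hTp.exists_le_sylow
  obtain ⟨hnL, hnU⟩ := ppodd_normal hp2 hq hc S
  -- both K-infinity subgroups of `S` lie in `O_p(M)`
  have hleS : ∀ (W : ∀ (Q : Type u) [Group Q], Subgroup Q),
      Cfsg.inducedFunctor (G := ↥M) W (S : Subgroup ↥M) ≤ (S : Subgroup ↥M) := by
    intro W
    unfold Cfsg.inducedFunctor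
    rintro _ ⟨y, _, rfl⟩
    exact y.2
  have hcoreL : Cfsg.inducedFunctor (G := ↥M) Cfsg.kInfLower (S : Subgroup ↥M) ≤ Cfsg.pCore p ↥M :=
    haveI := hnL
    Cfsg.Agent.Lib.Helper55.le_pCore p _ (S.isPGroup'.to_le (hleS _))
  have hcoreU : Cfsg.inducedFunctor (G := ↥M) Cfsg.kInfUpper (S : Subgroup ↥M) ≤ Cfsg.pCore p ↥M :=
    haveI := hnU
    Cfsg.Agent.Lib.Helper55.le_pCore p _ (S.isPGroup'.to_le (hleS _))
  -- transport to `G`
  obtain ⟨SG, hSG⟩ : ∃ SG : Subgroup G, SG = (S : Subgroup ↥M).map M.subtype := ⟨_, rfl⟩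
  have hmapL := ppodd_induced_map M.subtype M.subtype_injective
    (fun (Q : Type u) [Group Q] => Cfsg.kInfLower Q)
    (fun Q R _ _ φ => Cfsg.Agent.Lib.Helper33.map_kInfLower φ) (S : Subgroup ↥M)
  have hmapU := ppodd_induced_map M.subtype M.subtype_injective
    (fun (Q : Type u) [Group Q] => Cfsg.kInfUpper Q)
    (fun Q R _ _ φ => Cfsg.Agent.Lib.Helper33.map_kInfUpper φ) (S : Subgroup ↥M)
  rw [← hSG] at hmapL hmapU
  have hTSG : T ≤ SG := by
    rw [hSG, ← Subgroup.map_subgroupOf_eq_of_le hTM]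
    exact Subgroup.map_mono hS
  have hSGp : IsPGroup p ↥SG := by
    rw [hSG]; exact S.isPGroup'.map M.subtype
  have hL : Cfsg.inducedFunctor Cfsg.kInfLower SG ≤ T := by
    refine le_trans ?_ hQT
    show Cfsg.inducedFunctor (fun (Q : Type u) [Group Q] => Cfsg.kInfLower Q) SG ≤ _
    rw [← hmapL]
    exact Subgroup.map_mono hcoreL
  have hU : Cfsg.inducedFunctor Cfsg.kInfUpper SG ≤ T := by
    refine le_trans ?_ hQT
    show Cfsg.inducedFunctor (fun (Q : Type u) [Group Q] => Cfsg.kInfUpper Q) SG ≤ _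
    rw [← hmapU]
    exact Subgroup.map_mono hcoreU
  have heq := ppodd_induced_eq SG T hSGp hTSG hL hU
  rw [heq]
  show M ≤ Subgroup.normalizer
    ((Cfsg.inducedFunctor (fun (Q : Type u) [Group Q] => Cfsg.kInfUpper Q) SG : Subgroup G) : Set G)
  rw [← hmapU]
  haveI := hnU
  exact ppodd_le_normalizer_map M _

end Cfsg.Agent.Lib.Helper91.Pp

namespace Cfsg.Agent.Lib.Helper91.Pp

universe u

/-- If `O_p(M) = 1` and `C_M(O_p(M)) ≤ O_p(M)` then `M = 1`. -/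
theorem ppodd_bot_of_core_bot {G : Type u} [Group G] {p : ℕ} (M : Subgroup G)
    (hc : Subgroup.centralizer (Cfsg.pCore p ↥M : Set ↥M) ≤ Cfsg.pCore p ↥M)
    (h : (Cfsg.pCore p ↥M).map M.subtype = ⊥) : M = ⊥ := by
  have h1 : Cfsg.pCore p ↥M = ⊥ := by
    rw [eq_bot_iff] at h ⊢
    intro x hx
    have := h (Subgroup.mem_map_of_mem M.subtype hx)
    rw [Subgroup.mem_bot] at this ⊢
    exact Subtype.ext this
  rw [h1] at hc
  rw [eq_bot_iff]
  intro x hx
  have hmem : (⟨x, hx⟩ : ↥M) ∈ Subgroup.centralizer ((⊥ : Subgroup ↥M) : Set ↥M) := by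
    rw [Subgroup.mem_centralizer_iff]
    intro y hy
    have hy1 : y = 1 := by simpa using hy
    rw [hy1]; simp
  have := hc hmem
  rw [Subgroup.mem_bot] at this ⊢
  exact congrArg Subtype.val this

/-- PP-ODD: the case where `Qd(p)` is involved in neither `M₁` nor `M₂`, `p` odd. -/
theorem qd_free_case {G : Type u} [Group G] [Finite G] {p : ℕ} [Fact p.Prime] (hp2 : p ≠ 2)
    (M₁ M₂ : Subgroup G) (hne : M₁ ≠ M₂)
    (hP : ∀ A : Subgroup G, A ≠ ⊥ → A ≤ M₁ ⊓ M₂ →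
      (M₁ ≤ Subgroup.normalizer (A : Set G) → M₂ ⊓ Subgroup.normalizer (A : Set G) = M₁ ⊓ M₂) ∧
      (M₂ ≤ Subgroup.normalizer (A : Set G) → M₁ ⊓ Subgroup.normalizer (A : Set G) = M₁ ⊓ M₂))
    (hc₁ : Subgroup.centralizer (Cfsg.pCore p ↥M₁ : Set ↥M₁) ≤ Cfsg.pCore p ↥M₁)
    (hc₂ : Subgroup.centralizer (Cfsg.pCore p ↥M₂ : Set ↥M₂) ≤ Cfsg.pCore p ↥M₂)
    (hO : (Cfsg.pCore p ↥M₁).map M₁.subtype ⊔ (Cfsg.pCore p ↥M₂).map M₂.subtype ≤ M₁ ⊓ M₂)
    (hq₁ : ¬ Cfsg.Involves ↥(Cfsg.qd p) ↥M₁) (hq₂ : ¬ Cfsg.Involves ↥(Cfsg.qd p) ↥M₂) : False := by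
  obtain ⟨L, hL⟩ : ∃ L : Subgroup G, L = M₁ ⊓ M₂ := ⟨_, rfl⟩
  rw [← hL] at hO
  have hL1 : L ≤ M₁ := by rw [hL]; exact inf_le_left
  have hL2 : L ≤ M₂ := by rw [hL]; exact inf_le_right
  have hQ1L : (Cfsg.pCore p ↥M₁).map M₁.subtype ≤ L := le_trans le_sup_left hO
  have hQ2L : (Cfsg.pCore p ↥M₂).map M₂.subtype ≤ L := le_trans le_sup_right hO
  obtain ⟨T₀⟩ : Nonempty (Sylow p ↥L) := inferInstance
  obtain ⟨T, hT⟩ : ∃ T : Subgroup G, T = (T₀ : Subgroup ↥L).map L.subtype := ⟨_, rfl⟩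
  have hTL : T ≤ L := by
    rw [hT]; rintro _ ⟨y, _, rfl⟩; exact y.2
  have hTp : IsPGroup p ↥T := by
    rw [hT]; exact T₀.isPGroup'.map L.subtype
  have hQ1T : (Cfsg.pCore p ↥M₁).map M₁.subtype ≤ T := by
    rw [hT]; exact ppodd_core_le_sylow M₁ L hL1 hQ1L T₀
  have hQ2T : (Cfsg.pCore p ↥M₂).map M₂.subtype ≤ T := by
    rw [hT]; exact ppodd_core_le_sylow M₂ L hL2 hQ2L T₀
  have hN1 := ppodd_half hp2 M₁ hc₁ hq₁ T hTp (hTL.trans hL1) hQ1T
  have hN2 := ppodd_half hp2 M₂ hc₂ hq₂ T hTp (hTL.trans hL2) hQ2T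
  obtain ⟨A, hA⟩ : ∃ A : Subgroup G, A = Cfsg.inducedFunctor Cfsg.kInfUpper T := ⟨_, rfl⟩
  rw [← hA] at hN1 hN2
  have hAT : A ≤ T := by
    rw [hA]; unfold Cfsg.inducedFunctor
    rintro _ ⟨y, _, rfl⟩; exact y.2
  -- `T ≠ ⊥`
  have hTne : T ≠ ⊥ := by
    intro hTb
    have h1 : M₁ = ⊥ := ppodd_bot_of_core_bot M₁ hc₁ (by rw [eq_bot_iff, ← hTb]; exact hQ1T)
    have h2 : M₂ = ⊥ := ppodd_bot_of_core_bot M₂ hc₂ (by rw [eq_bot_iff, ← hTb]; exact hQ2T)
    exact hne (h1.trans h2.symm)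
  have hAne : A ≠ ⊥ := by
    haveI : Nontrivial ↥T := (Subgroup.nontrivial_iff_ne_bot T).mpr hTne
    have h := (Cfsg.Agent.Lib.Helper33.isCharPFunctor_kInfUpper.{u} p).1 ↥T hTp inferInstance
    intro hAb
    apply h
    rw [hA] at hAb
    unfold Cfsg.inducedFunctor at hAb
    exact (Subgroup.map_eq_bot_iff_of_injective _ T.subtype_injective).mp hAb
  have hAL : A ≤ M₁ ⊓ M₂ := by rw [← hL]; exact hAT.trans hTL
  obtain ⟨h1, h2⟩ := hP A hAne hAL
  have e1 := h1 hN1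
  have e2 := h2 hN2
  rw [inf_eq_left.mpr hN2] at e1
  rw [inf_eq_left.mpr hN1] at e2
  -- e1 : M₂ = M₁ ⊓ M₂, e2 : M₁ = M₁ ⊓ M₂
  exact hne (e2.trans e1.symm)

end Cfsg.Agent.Lib.Helper91.Pp
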