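import Cfsg.Prelude.Def_LocalEven
import Cfsg.Prelude.Def_PLocal
import Cfsg.Agent.Lib.Helper35.NoSL

set_option autoImplicit false
open Cfsg

namespace Cfsg.Agent.Lib.Helper91.Pp

universe u

section mats

variable {p : ℕ} [Fact p.Prime]

/-- the matrix `i` -/
def qdI (a b : ZMod p) (h : a ^ 2 + b ^ 2 = -1) : Matrix.SpecialLinearGroup (Fin 3) (ZMod p) :=
  ⟨!![a, b, 0; b, -a, 0; 0, 0, 1], by
    rw [Matrix.det_fin_three]; simp; linear_combination (-1 : ZMod p) * h⟩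

/-- the matrix `j` -/
def qdJ : Matrix.SpecialLinearGroup (Fin 3) (ZMod p) :=
  ⟨!![0, 1, 0; -1, 0, 0; 0, 0, 1], by
    rw [Matrix.det_fin_three]; simp⟩

/-- the matrix `z = i² = j²` -/
def qdZ : Matrix.SpecialLinearGroup (Fin 3) (ZMod p) :=
  ⟨!![-1, 0, 0; 0, -1, 0; 0, 0, 1], by
    rw [Matrix.det_fin_three]; simp⟩

theorem qd_I_sq (a b : ZMod p) (h : a ^ 2 + b ^ 2 = -1) : qdI a b h * qdI a b h = qdZ := by
  apply Subtype.ext
  rw [Matrix.SpecialLinearGroup.coe_mul]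
  ext r c
  fin_cases r <;> fin_cases c <;>
    simp [qdI, qdZ, Matrix.mul_apply, Fin.sum_univ_three] <;>
    first | linear_combination h | ring

theorem qd_J_sq : (qdJ : Matrix.SpecialLinearGroup (Fin 3) (ZMod p)) * qdJ = qdZ := by
  apply Subtype.ext
  rw [Matrix.SpecialLinearGroup.coe_mul]
  ext r c
  fin_cases r <;> fin_cases c <;>
    simp [qdJ, qdZ, Matrix.mul_apply, Fin.sum_univ_three]

theorem qd_Z_sq : (qdZ : Matrix.SpecialLinearGroup (Fin 3) (ZMod p)) * qdZ = 1 := by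
  apply Subtype.ext
  rw [Matrix.SpecialLinearGroup.coe_mul]
  ext r c
  fin_cases r <;> fin_cases c <;>
    simp [qdZ, Matrix.mul_apply, Fin.sum_univ_three]

theorem qd_JI (a b : ZMod p) (h : a ^ 2 + b ^ 2 = -1) :
    qdJ * qdI a b h = qdZ * (qdI a b h * qdJ) := by
  apply Subtype.ext
  rw [Matrix.SpecialLinearGroup.coe_mul, Matrix.SpecialLinearGroup.coe_mul,
    Matrix.SpecialLinearGroup.coe_mul]
  ext r c
  fin_cases r <;> fin_cases c <;>
    simp [qdI, qdJ, qdZ, Matrix.mul_apply, Fin.sum_univ_three]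

theorem qd_Z_ne_one (hp2 : p ≠ 2) : (qdZ : Matrix.SpecialLinearGroup (Fin 3) (ZMod p)) ≠ 1 := by
  intro h
  have h00 := congrArg (fun M : Matrix.SpecialLinearGroup (Fin 3) (ZMod p) => M.1 0 0) h
  simp [qdZ] at h00
  -- h00 : (-1 : ZMod p) = 1
  have h2 : (2 : ZMod p) = 0 := by linear_combination (-1 : ZMod p) * h00
  have h2' : ((2 : ℕ) : ZMod p) = 0 := by exact_mod_cast h2
  rw [ZMod.natCast_eq_zero_iff] at h2'
  have hp := (Fact.out : p.Prime)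
  exact hp2 ((Nat.prime_dvd_prime_iff_eq hp Nat.prime_two).mp h2')

theorem qd_I_mem (a b : ZMod p) (h : a ^ 2 + b ^ 2 = -1) : qdI a b h ∈ Cfsg.qd p :=
  Subgroup.subset_closure ⟨by simp [qdI], by simp [qdI], by simp [qdI]⟩

theorem qd_J_mem : (qdJ : Matrix.SpecialLinearGroup (Fin 3) (ZMod p)) ∈ Cfsg.qd p :=
  Subgroup.subset_closure ⟨by simp [qdJ], by simp [qdJ], by simp [qdJ]⟩

end mats

/-- Abstract core: a group with elements `i, j, z` satisfying the quaternion relations and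
`z ≠ 1` has a nonabelian `2`-subgroup. -/
theorem qd_abstract {Γ : Type*} [Group Γ] [Finite Γ] (i j z : Γ) (hi : i * i = z) (hj : j * j = z)
    (hz : z * z = 1) (hji : j * i = z * (i * j)) (hz1 : z ≠ 1) :
    ∃ T : Subgroup Γ, IsPGroup 2 T ∧ ∃ x ∈ T, ∃ y ∈ T, x * y ≠ y * x := by
  have hi4 : i ^ 4 = 1 := by
    rw [show (4 : ℕ) = 2 + 2 from rfl, pow_add, pow_two, hi, hz]
  have hj4 : j ^ 4 = 1 := by
    rw [show (4 : ℕ) = 2 + 2 from rfl, pow_add, pow_two, hj, hz]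
  have hpz : ∀ x : Γ, x ^ 4 = 1 → IsPGroup 2 (Subgroup.zpowers x) := by
    intro x h
    rintro ⟨y, hy⟩
    obtain ⟨k, rfl⟩ := Subgroup.mem_zpowers_iff.mp hy
    refine ⟨2, Subtype.ext ?_⟩
    simp only [Subgroup.coe_pow, Subgroup.coe_one]
    rw [← zpow_natCast, ← zpow_mul, mul_comm, zpow_mul, zpow_natCast]
    norm_num [h]
  -- `j i j⁻¹ = i⁻¹`
  have hconj : j * i * j⁻¹ = i⁻¹ := by
    have h3 : i⁻¹ = z * i := by
      rw [inv_eq_iff_mul_eq_one, ← hi]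
      calc i * (i * i * i) = (i * i) * (i * i) := by group
        _ = 1 := by rw [hi, hz]
    rw [h3, hji]
    group
  have hnorm : Subgroup.zpowers j ≤ Subgroup.normalizer ((Subgroup.zpowers i : Subgroup Γ) : Set Γ) := by
    rw [Subgroup.zpowers_le]
    apply Subgroup.mem_normalizer_fintype
    intro n hn
    obtain ⟨k, rfl⟩ := Subgroup.mem_zpowers_iff.mp hn
    show j * i ^ k * j⁻¹ ∈ Subgroup.zpowers i
    rw [← conj_zpow, hconj]
    exact Subgroup.zpow_mem _ (Subgroup.inv_mem _ (Subgroup.mem_zpowers i)) k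
  refine ⟨Subgroup.zpowers j ⊔ Subgroup.zpowers i,
    IsPGroup.to_sup_of_normal_right' (hpz j hj4) (hpz i hi4) hnorm, i,
    (le_sup_right : Subgroup.zpowers i ≤ _) (Subgroup.mem_zpowers i), j,
    (le_sup_left : Subgroup.zpowers j ≤ _) (Subgroup.mem_zpowers j), ?_⟩
  intro hcomm
  apply hz1
  have : z * (i * j) = 1 * (i * j) := by rw [← hji, one_mul, hcomm]
  exact mul_right_cancel this

/-- PP-QD -/
theorem not_involves_qd_of_abelian_sylow_two {X : Type u} [Group X] [Finite X] {p : ℕ}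
    [Fact p.Prime] (hp2 : p ≠ 2)
    (hab : ∀ S : Sylow 2 X, IsMulCommutative (S : Subgroup X)) :
    ¬ Cfsg.Involves ↥(Cfsg.qd p) X := by
  rintro ⟨K, R, hn, ⟨e⟩⟩
  have h0 : Cfsg.Agent.Lib.Helper35.NoSL 3 X := Cfsg.Agent.Lib.Helper35.noSL_of_sylow hab
  have h1 : Cfsg.Agent.Lib.Helper35.NoSL 3 ↥K := h0.subgroup K
  have h2 : Cfsg.Agent.Lib.Helper35.NoSL 3 (↥K ⧸ R.subgroupOf K) := h1.quotient _
  have h3 : Cfsg.Agent.Lib.Helper35.NoSL 3 ↥(Cfsg.qd p) :=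
    h2.of_surjective e.toMonoidHom e.surjective
  haveI : Finite ↥(Cfsg.qd p) := Finite.of_equiv _ e.toEquiv
  obtain ⟨a, b, hab'⟩ := ZMod.sq_add_sq p (-1)
  obtain ⟨T, hT, x, hx, y, hy, hxy⟩ := qd_abstract
    (⟨qdI a b hab', qd_I_mem a b hab'⟩ : ↥(Cfsg.qd p)) ⟨qdJ, qd_J_mem⟩
    ⟨qdZ, by rw [← qd_J_sq]; exact Subgroup.mul_mem _ qd_J_mem qd_J_mem⟩
    (Subtype.ext (qd_I_sq a b hab')) (Subtype.ext qd_J_sq) (Subtype.ext qd_Z_sq)
    (Subtype.ext (qd_JI a b hab'))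
    (fun h => qd_Z_ne_one hp2 (congrArg Subtype.val h))
  exact hxy (h3 rfl T hT x hx y hy)

end Cfsg.Agent.Lib.Helper91.Pp
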