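import Cfsg.Prelude.Def_FusionComponents
import Cfsg.Agent.Lib.Helper87.Saturation

set_option autoImplicit false

namespace Cfsg.Agent.Lib.Helper91

open Cfsg Cfsg.FusionSystem Cfsg.Agent.Lib.Helper87

variable {Ω₁ Ω₂ : Type*} [Group Ω₁] [Group Ω₂]

/-- The restriction to `P ≤ P₁ × P₂` of the product of two homomorphisms. -/
def prodRes {P : Subgroup (Ω₁ × Ω₂)} {P₁ : Subgroup Ω₁} {P₂ : Subgroup Ω₂}
    (φ₁ : P₁ →* Ω₁) (φ₂ : P₂ →* Ω₂) (hP : P ≤ P₁.prod P₂) : P →* Ω₁ × Ω₂ where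
  toFun x := (φ₁ ⟨x.1.1, (Subgroup.mem_prod.mp (hP x.2)).1⟩,
    φ₂ ⟨x.1.2, (Subgroup.mem_prod.mp (hP x.2)).2⟩)
  map_one' := by
    have e1 : (⟨((1 : P) : Ω₁ × Ω₂).1, (Subgroup.mem_prod.mp (hP (1 : P).2)).1⟩ : P₁) = 1 := rfl
    have e2 : (⟨((1 : P) : Ω₁ × Ω₂).2, (Subgroup.mem_prod.mp (hP (1 : P).2)).2⟩ : P₂) = 1 := rfl
    rw [e1, e2, map_one, map_one]
    rfl
  map_mul' x y := by
    have e1 : (⟨((x * y : P) : Ω₁ × Ω₂).1, (Subgroup.mem_prod.mp (hP (x * y).2)).1⟩ : P₁) =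
        ⟨x.1.1, (Subgroup.mem_prod.mp (hP x.2)).1⟩ * ⟨y.1.1, (Subgroup.mem_prod.mp (hP y.2)).1⟩ :=
      rfl
    have e2 : (⟨((x * y : P) : Ω₁ × Ω₂).2, (Subgroup.mem_prod.mp (hP (x * y).2)).2⟩ : P₂) =
        ⟨x.1.2, (Subgroup.mem_prod.mp (hP x.2)).2⟩ * ⟨y.1.2, (Subgroup.mem_prod.mp (hP y.2)).2⟩ :=
      rfl
    rw [e1, e2, map_mul, map_mul]
    rfl

theorem prodRes_apply {P : Subgroup (Ω₁ × Ω₂)} {P₁ : Subgroup Ω₁} {P₂ : Subgroup Ω₂}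
    (φ₁ : P₁ →* Ω₁) (φ₂ : P₂ →* Ω₂) (hP : P ≤ P₁.prod P₂) (x : P)
    (h₁ : (x : Ω₁ × Ω₂).1 ∈ P₁) (h₂ : (x : Ω₁ × Ω₂).2 ∈ P₂) :
    prodRes φ₁ φ₂ hP x = (φ₁ ⟨x.1.1, h₁⟩, φ₂ ⟨x.1.2, h₂⟩) := rfl

theorem le_prod_map (P : Subgroup (Ω₁ × Ω₂)) :
    P ≤ (P.map (MonoidHom.fst Ω₁ Ω₂)).prod (P.map (MonoidHom.snd Ω₁ Ω₂)) := by
  intro x hx
  exact Subgroup.mem_prod.mpr ⟨⟨x, hx, rfl⟩, ⟨x, hx, rfl⟩⟩

theorem le_prod_of_map_eq {P : Subgroup (Ω₁ × Ω₂)} {P₁ : Subgroup Ω₁} {P₂ : Subgroup Ω₂}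
    (h₁ : P.map (MonoidHom.fst Ω₁ Ω₂) = P₁) (h₂ : P.map (MonoidHom.snd Ω₁ Ω₂) = P₂) :
    P ≤ P₁.prod P₂ := by
  subst h₁ h₂
  exact le_prod_map P

variable {S₁ : Subgroup Ω₁} {S₂ : Subgroup Ω₂} {F₁ : FusionSystem S₁} {F₂ : FusionSystem S₂}
  {E : FusionSystem (S₁.prod S₂)}

/-- Maps of the product system with source `P` whose projections are `P₁`, `P₂`. -/
theorem mem_hom_iff (hE : IsProductSystem F₁ F₂ E) {P : Subgroup (Ω₁ × Ω₂)}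
    {P₁ : Subgroup Ω₁} {P₂ : Subgroup Ω₂}
    (h₁ : P.map (MonoidHom.fst Ω₁ Ω₂) = P₁) (h₂ : P.map (MonoidHom.snd Ω₁ Ω₂) = P₂)
    (φ : P →* Ω₁ × Ω₂) :
    φ ∈ E.Hom P ↔ P ≤ S₁.prod S₂ ∧ ∃ φ₁ ∈ F₁.Hom P₁, ∃ φ₂ ∈ F₂.Hom P₂,
      φ = prodRes φ₁ φ₂ (le_prod_of_map_eq h₁ h₂) := by
  subst h₁ h₂
  rw [hE P φ]
  constructor
  · rintro ⟨hP, φ₁, hφ₁, φ₂, hφ₂, h⟩
    refine ⟨hP, φ₁, hφ₁, φ₂, hφ₂, ?_⟩
    ext x
    · rw [h x ⟨x, x.2, rfl⟩ ⟨x, x.2, rfl⟩]; rfl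
    · rw [h x ⟨x, x.2, rfl⟩ ⟨x, x.2, rfl⟩]; rfl
  · rintro ⟨hP, φ₁, hφ₁, φ₂, hφ₂, rfl⟩
    exact ⟨hP, φ₁, hφ₁, φ₂, hφ₂, fun x h₁ h₂ => rfl⟩

/-- A product of maps of the factors, restricted to any subgroup of the product of the sources,
is a map of the product system. -/
theorem prodRes_mem (hE : IsProductSystem F₁ F₂ E) {P : Subgroup (Ω₁ × Ω₂)}
    {R₁ : Subgroup Ω₁} {R₂ : Subgroup Ω₂} {φ₁ : R₁ →* Ω₁} {φ₂ : R₂ →* Ω₂}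
    (hφ₁ : φ₁ ∈ F₁.Hom R₁) (hφ₂ : φ₂ ∈ F₂.Hom R₂) (hP : P ≤ R₁.prod R₂) :
    prodRes φ₁ φ₂ hP ∈ E.Hom P := by
  have hR₁ : R₁ ≤ S₁ := hom_le F₁ hφ₁
  have hR₂ : R₂ ≤ S₂ := hom_le F₂ hφ₂
  have hl₁ : P.map (MonoidHom.fst Ω₁ Ω₂) ≤ R₁ := by
    rintro _ ⟨x, hx, rfl⟩
    exact (Subgroup.mem_prod.mp (hP hx)).1
  have hl₂ : P.map (MonoidHom.snd Ω₁ Ω₂) ≤ R₂ := by
    rintro _ ⟨x, hx, rfl⟩
    exact (Subgroup.mem_prod.mp (hP hx)).2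
  rw [hE P]
  refine ⟨hP.trans (Subgroup.prod_mono hR₁ hR₂), _, restrict_mem F₁ hφ₁ hl₁, _,
    restrict_mem F₂ hφ₂ hl₂, fun x h₁ h₂ => rfl⟩


/-! ### Pairs of automorphisms acting on a subgroup with given projections -/

section Pair

variable {Q₁ : Subgroup Ω₁} {Q₂ : Subgroup Ω₂} {Q : Subgroup (Ω₁ × Ω₂)}

/-- The restriction to `Q` of the product of two automorphisms. -/
def pairRes (a : MulAut Q₁ × MulAut Q₂) (hQ : Q ≤ Q₁.prod Q₂) : Q →* Ω₁ × Ω₂ :=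
  prodRes (Q₁.subtype.comp a.1.toMonoidHom) (Q₂.subtype.comp a.2.toMonoidHom) hQ

theorem pairRes_apply (a : MulAut Q₁ × MulAut Q₂) (hQ : Q ≤ Q₁.prod Q₂) (x : Q)
    (h₁ : (x : Ω₁ × Ω₂).1 ∈ Q₁) (h₂ : (x : Ω₁ × Ω₂).2 ∈ Q₂) :
    pairRes a hQ x = (((a.1 ⟨x.1.1, h₁⟩ : Q₁) : Ω₁), ((a.2 ⟨x.1.2, h₂⟩ : Q₂) : Ω₂)) := rfl

/-- `r` is the restriction to `Q` of the pair of automorphisms `a`. -/
def Rel (hQ : Q ≤ Q₁.prod Q₂) (a : MulAut Q₁ × MulAut Q₂) (r : MulAut Q) : Prop :=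
  ∀ x : Q, ((r x : Q) : Ω₁ × Ω₂) = pairRes a hQ x

theorem Rel.one (hQ : Q ≤ Q₁.prod Q₂) : Rel hQ (1 : MulAut Q₁ × MulAut Q₂) (1 : MulAut Q) := by
  intro x
  rfl

theorem Rel.mul {hQ : Q ≤ Q₁.prod Q₂} {a b : MulAut Q₁ × MulAut Q₂} {r s : MulAut Q}
    (ha : Rel hQ a r) (hb : Rel hQ b s) : Rel hQ (a * b) (r * s) := by
  intro x
  have h1 := ha (s x)
  have h2 := hb x
  have hx := Subgroup.mem_prod.mp (hQ x.2)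
  have hsx := Subgroup.mem_prod.mp (hQ (s x).2)
  rw [pairRes_apply a hQ (s x) hsx.1 hsx.2] at h1
  rw [pairRes_apply b hQ x hx.1 hx.2] at h2
  rw [pairRes_apply (a * b) hQ x hx.1 hx.2]
  show ((r (s x) : Q) : Ω₁ × Ω₂) = _
  rw [h1]
  have e1 : (⟨((s x : Q) : Ω₁ × Ω₂).1, hsx.1⟩ : Q₁) = b.1 ⟨x.1.1, hx.1⟩ :=
    Subtype.ext (congrArg Prod.fst h2)
  have e2 : (⟨((s x : Q) : Ω₁ × Ω₂).2, hsx.2⟩ : Q₂) = b.2 ⟨x.1.2, hx.2⟩ :=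
    Subtype.ext (congrArg Prod.snd h2)
  rw [e1, e2]
  rfl

theorem Rel.inv {hQ : Q ≤ Q₁.prod Q₂} {a : MulAut Q₁ × MulAut Q₂} {r : MulAut Q}
    (ha : Rel hQ a r) : Rel hQ a⁻¹ r⁻¹ := by
  intro x
  have hx := Subgroup.mem_prod.mp (hQ x.2)
  have hy := Subgroup.mem_prod.mp (hQ (r⁻¹ x).2)
  have h1 := ha (r⁻¹ x)
  have e : r (r⁻¹ x) = x := by
    show r (r.symm x) = x
    simp
  rw [e, pairRes_apply a hQ (r⁻¹ x) hy.1 hy.2] at h1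
  rw [pairRes_apply a⁻¹ hQ x hx.1 hx.2]
  have e1 : (⟨x.1.1, hx.1⟩ : Q₁) = a.1 ⟨((r⁻¹ x : Q) : Ω₁ × Ω₂).1, hy.1⟩ :=
    Subtype.ext (congrArg Prod.fst h1)
  have e2 : (⟨x.1.2, hx.2⟩ : Q₂) = a.2 ⟨((r⁻¹ x : Q) : Ω₁ × Ω₂).2, hy.2⟩ :=
    Subtype.ext (congrArg Prod.snd h1)
  rw [e1, e2]
  have i1 : (a⁻¹).1 (a.1 ⟨((r⁻¹ x : Q) : Ω₁ × Ω₂).1, hy.1⟩) =
      ⟨((r⁻¹ x : Q) : Ω₁ × Ω₂).1, hy.1⟩ := by
    show a.1.symm (a.1 _) = _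
    simp
  have i2 : (a⁻¹).2 (a.2 ⟨((r⁻¹ x : Q) : Ω₁ × Ω₂).2, hy.2⟩) =
      ⟨((r⁻¹ x : Q) : Ω₁ × Ω₂).2, hy.2⟩ := by
    show a.2.symm (a.2 _) = _
    simp
  rw [i1, i2]

theorem Rel.pow {hQ : Q ≤ Q₁.prod Q₂} {a : MulAut Q₁ × MulAut Q₂} {r : MulAut Q}
    (ha : Rel hQ a r) (n : ℕ) : Rel hQ (a ^ n) (r ^ n) := by
  induction n with
  | zero => simpa using Rel.one hQ
  | succ n ih => rw [pow_succ, pow_succ]; exact ih.mul ha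

/-- With full projections, a pair of automorphisms restricting to the identity is trivial. -/
theorem Rel.eq_one (h₁ : Q.map (MonoidHom.fst Ω₁ Ω₂) = Q₁) (h₂ : Q.map (MonoidHom.snd Ω₁ Ω₂) = Q₂)
    {hQ : Q ≤ Q₁.prod Q₂} {a : MulAut Q₁ × MulAut Q₂} (ha : Rel hQ a 1) : a = 1 := by
  apply Prod.ext
  · ext ⟨x₁, hx₁⟩
    rw [← h₁] at hx₁
    obtain ⟨x, hx, rfl⟩ := hx₁
    have h := ha ⟨x, hx⟩
    have hxx := Subgroup.mem_prod.mp (hQ hx)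
    rw [pairRes_apply a hQ ⟨x, hx⟩ hxx.1 hxx.2] at h
    have := congrArg Prod.fst h
    exact this.symm
  · ext ⟨x₂, hx₂⟩
    rw [← h₂] at hx₂
    obtain ⟨x, hx, rfl⟩ := hx₂
    have h := ha ⟨x, hx⟩
    have hxx := Subgroup.mem_prod.mp (hQ hx)
    rw [pairRes_apply a hQ ⟨x, hx⟩ hxx.1 hxx.2] at h
    have := congrArg Prod.snd h
    exact this.symm

/-- The pairs of automorphisms restricting to an element of `R`. -/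
def lift (hQ : Q ≤ Q₁.prod Q₂) (R : Subgroup (MulAut Q)) : Subgroup (MulAut Q₁ × MulAut Q₂) where
  carrier := {a | ∃ r ∈ R, Rel hQ a r}
  one_mem' := ⟨1, R.one_mem, Rel.one hQ⟩
  mul_mem' := by
    rintro a b ⟨r, hr, ha⟩ ⟨s, hs, hb⟩
    exact ⟨r * s, R.mul_mem hr hs, ha.mul hb⟩
  inv_mem' := by
    rintro a ⟨r, hr, ha⟩
    exact ⟨r⁻¹, R.inv_mem hr, ha.inv⟩

theorem mem_lift {hQ : Q ≤ Q₁.prod Q₂} {R : Subgroup (MulAut Q)} {a : MulAut Q₁ × MulAut Q₂} :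
    a ∈ lift hQ R ↔ ∃ r ∈ R, Rel hQ a r := Iff.rfl

theorem lift_isPGroup (h₁ : Q.map (MonoidHom.fst Ω₁ Ω₂) = Q₁)
    (h₂ : Q.map (MonoidHom.snd Ω₁ Ω₂) = Q₂) (hQ : Q ≤ Q₁.prod Q₂) {p : ℕ}
    {R : Subgroup (MulAut Q)} (hR : IsPGroup p R) : IsPGroup p (lift hQ R) := by
  rintro ⟨a, r, hr, ha⟩
  obtain ⟨k, hk⟩ := hR ⟨r, hr⟩
  have hk' : r ^ (p ^ k) = 1 := by
    have := congrArg Subtype.val hk
    simpa using this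
  refine ⟨k, Subtype.ext ?_⟩
  show a ^ (p ^ k) = 1
  have h := ha.pow (p ^ k)
  rw [hk'] at h
  exact Rel.eq_one h₁ h₂ h

end Pair


/-! ### Projections of ranges -/

theorem range_prodRes_map_fst {P : Subgroup (Ω₁ × Ω₂)} {P₁ : Subgroup Ω₁} {P₂ : Subgroup Ω₂}
    (φ₁ : P₁ →* Ω₁) (φ₂ : P₂ →* Ω₂) (hP : P ≤ P₁.prod P₂)
    (h₁ : P.map (MonoidHom.fst Ω₁ Ω₂) = P₁) :
    (prodRes φ₁ φ₂ hP).range.map (MonoidHom.fst Ω₁ Ω₂) = φ₁.range := by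
  apply le_antisymm
  · rintro _ ⟨_, ⟨x, rfl⟩, rfl⟩
    exact ⟨⟨x.1.1, (Subgroup.mem_prod.mp (hP x.2)).1⟩, rfl⟩
  · rintro _ ⟨⟨z, hz⟩, rfl⟩
    have hz' := hz
    rw [← h₁] at hz'
    obtain ⟨x, hx, hxz⟩ := hz'
    refine ⟨prodRes φ₁ φ₂ hP ⟨x, hx⟩, ⟨⟨x, hx⟩, rfl⟩, ?_⟩
    show φ₁ ⟨x.1, _⟩ = φ₁ ⟨z, hz⟩
    congr 1
    exact Subtype.ext hxz

theorem range_prodRes_map_snd {P : Subgroup (Ω₁ × Ω₂)} {P₁ : Subgroup Ω₁} {P₂ : Subgroup Ω₂}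
    (φ₁ : P₁ →* Ω₁) (φ₂ : P₂ →* Ω₂) (hP : P ≤ P₁.prod P₂)
    (h₂ : P.map (MonoidHom.snd Ω₁ Ω₂) = P₂) :
    (prodRes φ₁ φ₂ hP).range.map (MonoidHom.snd Ω₁ Ω₂) = φ₂.range := by
  apply le_antisymm
  · rintro _ ⟨_, ⟨x, rfl⟩, rfl⟩
    exact ⟨⟨x.1.2, (Subgroup.mem_prod.mp (hP x.2)).2⟩, rfl⟩
  · rintro _ ⟨⟨z, hz⟩, rfl⟩
    have hz' := hz
    rw [← h₂] at hz'
    obtain ⟨x, hx, hxz⟩ := hz'
    refine ⟨prodRes φ₁ φ₂ hP ⟨x, hx⟩, ⟨⟨x, hx⟩, rfl⟩, ?_⟩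
    show φ₂ ⟨x.2, _⟩ = φ₂ ⟨z, hz⟩
    congr 1
    exact Subtype.ext hxz

theorem range_aut_comp {G : Type*} [Group G] (K : Subgroup G) (α : MulAut K) :
    (K.subtype.comp α.toMonoidHom).range = K := by
  apply le_antisymm
  · rintro _ ⟨x, rfl⟩
    exact (α x).2
  · intro y hy
    exact ⟨α.symm ⟨y, hy⟩, by simp⟩

section Pair2

variable {Q₁ : Subgroup Ω₁} {Q₂ : Subgroup Ω₂} {Q : Subgroup (Ω₁ × Ω₂)}

theorem range_pairRes_map_fst (b : MulAut Q₁ × MulAut Q₂) (hQ : Q ≤ Q₁.prod Q₂)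
    (h₁ : Q.map (MonoidHom.fst Ω₁ Ω₂) = Q₁) :
    (pairRes b hQ).range.map (MonoidHom.fst Ω₁ Ω₂) = Q₁ := by
  unfold pairRes
  rw [range_prodRes_map_fst _ _ hQ h₁, range_aut_comp]

theorem range_pairRes_map_snd (b : MulAut Q₁ × MulAut Q₂) (hQ : Q ≤ Q₁.prod Q₂)
    (h₂ : Q.map (MonoidHom.snd Ω₁ Ω₂) = Q₂) :
    (pairRes b hQ).range.map (MonoidHom.snd Ω₁ Ω₂) = Q₂ := by
  unfold pairRes
  rw [range_prodRes_map_snd _ _ hQ h₂, range_aut_comp]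

theorem pairRes_injective (b : MulAut Q₁ × MulAut Q₂) (hQ : Q ≤ Q₁.prod Q₂) :
    Function.Injective (pairRes b hQ) := by
  intro x y hxy
  have hx := Subgroup.mem_prod.mp (hQ x.2)
  have hy := Subgroup.mem_prod.mp (hQ y.2)
  rw [pairRes_apply b hQ x hx.1 hx.2, pairRes_apply b hQ y hy.1 hy.2] at hxy
  have e1 : b.1 ⟨x.1.1, hx.1⟩ = b.1 ⟨y.1.1, hy.1⟩ := Subtype.ext (congrArg Prod.fst hxy)
  have e2 : b.2 ⟨x.1.2, hx.2⟩ = b.2 ⟨y.1.2, hy.2⟩ := Subtype.ext (congrArg Prod.snd hxy)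
  have f1 := congrArg Subtype.val (b.1.injective e1)
  have f2 := congrArg Subtype.val (b.2.injective e2)
  exact Subtype.ext (Prod.ext f1 f2)

/-- Transport of the relation `Rel` along the isomorphism induced by a pair `b`. -/
theorem rel_conj_iff {Q' : Subgroup (Ω₁ × Ω₂)} (hQ : Q ≤ Q₁.prod Q₂) (hQ' : Q' ≤ Q₁.prod Q₂)
    (b : MulAut Q₁ × MulAut Q₂) (e : Q ≃* Q')
    (he : ∀ x : Q, ((e x : Q') : Ω₁ × Ω₂) = pairRes b hQ x)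
    (a : MulAut Q₁ × MulAut Q₂) (r : MulAut Q) :
    Rel hQ a r ↔ Rel hQ' (b * a * b⁻¹) (MulAut.congr e r) := by
  have key : ∀ x : Q, ∀ (hx1 : (x : Ω₁ × Ω₂).1 ∈ Q₁) (hx2 : (x : Ω₁ × Ω₂).2 ∈ Q₂),
      pairRes (b * a * b⁻¹) hQ' (e x) =
        (((b.1 (a.1 ⟨x.1.1, hx1⟩) : Q₁) : Ω₁), ((b.2 (a.2 ⟨x.1.2, hx2⟩) : Q₂) : Ω₂)) := by
    intro x hx1 hx2
    have hy := Subgroup.mem_prod.mp (hQ' (e x).2)
    rw [pairRes_apply _ hQ' (e x) hy.1 hy.2]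
    have h := he x
    rw [pairRes_apply b hQ x hx1 hx2] at h
    have e1 : (⟨((e x : Q') : Ω₁ × Ω₂).1, hy.1⟩ : Q₁) = b.1 ⟨x.1.1, hx1⟩ :=
      Subtype.ext (congrArg Prod.fst h)
    have e2 : (⟨((e x : Q') : Ω₁ × Ω₂).2, hy.2⟩ : Q₂) = b.2 ⟨x.1.2, hx2⟩ :=
      Subtype.ext (congrArg Prod.snd h)
    rw [e1, e2]
    have i1 : (b * a * b⁻¹).1 (b.1 ⟨x.1.1, hx1⟩) = b.1 (a.1 ⟨x.1.1, hx1⟩) := by
      show b.1 (a.1 (b.1.symm (b.1 _))) = _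
      simp
    have i2 : (b * a * b⁻¹).2 (b.2 ⟨x.1.2, hx2⟩) = b.2 (a.2 ⟨x.1.2, hx2⟩) := by
      show b.2 (a.2 (b.2.symm (b.2 _))) = _
      simp
    rw [i1, i2]
  have key2 : ∀ x : Q, MulAut.congr e r (e x) = e (r x) := by
    intro x
    simp [MulAut.congr]
  constructor
  · intro h y
    obtain ⟨x, rfl⟩ := e.surjective y
    have hx := Subgroup.mem_prod.mp (hQ x.2)
    have hrx := Subgroup.mem_prod.mp (hQ (r x).2)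
    rw [key2, key x hx.1 hx.2, he, pairRes_apply b hQ (r x) hrx.1 hrx.2]
    have h' := h x
    rw [pairRes_apply a hQ x hx.1 hx.2] at h'
    have e1 : (⟨((r x : Q) : Ω₁ × Ω₂).1, hrx.1⟩ : Q₁) = a.1 ⟨x.1.1, hx.1⟩ :=
      Subtype.ext (congrArg Prod.fst h')
    have e2 : (⟨((r x : Q) : Ω₁ × Ω₂).2, hrx.2⟩ : Q₂) = a.2 ⟨x.1.2, hx.2⟩ :=
      Subtype.ext (congrArg Prod.snd h')
    rw [e1, e2]
  · intro h x
    have hx := Subgroup.mem_prod.mp (hQ x.2)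
    have hrx := Subgroup.mem_prod.mp (hQ (r x).2)
    have h' := h (e x)
    rw [key2, key x hx.1 hx.2, he, pairRes_apply b hQ (r x) hrx.1 hrx.2] at h'
    have e1 : b.1 ⟨((r x : Q) : Ω₁ × Ω₂).1, hrx.1⟩ = b.1 (a.1 ⟨x.1.1, hx.1⟩) :=
      Subtype.ext (congrArg Prod.fst h')
    have e2 : b.2 ⟨((r x : Q) : Ω₁ × Ω₂).2, hrx.2⟩ = b.2 (a.2 ⟨x.1.2, hx.2⟩) :=
      Subtype.ext (congrArg Prod.snd h')
    have f1 := congrArg Subtype.val (b.1.injective e1)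
    have f2 := congrArg Subtype.val (b.2.injective e2)
    rw [pairRes_apply a hQ x hx.1 hx.2]
    exact Prod.ext f1 f2

theorem Rel.unique (h₁ : Q.map (MonoidHom.fst Ω₁ Ω₂) = Q₁) (h₂ : Q.map (MonoidHom.snd Ω₁ Ω₂) = Q₂)
    {hQ : Q ≤ Q₁.prod Q₂} {a a' : MulAut Q₁ × MulAut Q₂} {r : MulAut Q}
    (ha : Rel hQ a r) (ha' : Rel hQ a' r) : a = a' := by
  have h := ha.inv.mul ha'
  rw [inv_mul_cancel] at h
  have := Rel.eq_one h₁ h₂ h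
  exact inv_mul_eq_one.mp this

/-- A pair of automorphisms induced by `S₁`, `S₂` restricts to an automorphism induced by
`S₁ × S₂`. -/
theorem Rel.mem_autInducedBy {S₁ : Subgroup Ω₁} {S₂ : Subgroup Ω₂} {hQ : Q ≤ Q₁.prod Q₂}
    {a : MulAut Q₁ × MulAut Q₂} {r : MulAut Q} (ha : Rel hQ a r)
    (ha₁ : a.1 ∈ autInducedBy S₁ Q₁) (ha₂ : a.2 ∈ autInducedBy S₂ Q₂) :
    r ∈ autInducedBy (S₁.prod S₂) Q := by
  obtain ⟨s₁, hs₁, h1⟩ := (mem_autInducedBy_iff S₁ Q₁ a.1).mp ha₁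
  obtain ⟨s₂, hs₂, h2⟩ := (mem_autInducedBy_iff S₂ Q₂ a.2).mp ha₂
  rw [mem_autInducedBy_iff]
  refine ⟨(s₁, s₂), Subgroup.mem_prod.mpr ⟨hs₁, hs₂⟩, fun x => ?_⟩
  have hx := Subgroup.mem_prod.mp (hQ x.2)
  rw [ha x, pairRes_apply a hQ x hx.1 hx.2, h1, h2]
  rfl

end Pair2


/-! ### Automorphisms in the product system -/

/-- A map of `F` from a finite `M` into `M` is an `F`-automorphism of `M`. -/
theorem aut_of_hom {Ω : Type*} [Group Ω] {S : Subgroup Ω} (F : FusionSystem S) {M : Subgroup Ω}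
    [Finite M] {ψ : M →* Ω} (hψ : ψ ∈ F.Hom M) (h : ∀ z : M, ψ z ∈ M) :
    ∃ γ ∈ F.autGroup M, ∀ z : M, ((γ z : M) : Ω) = ψ z := by
  let f : M →* M := ψ.codRestrict M h
  have hinj : Function.Injective f := by
    intro a b hab
    exact F.injective_of_mem hψ (congrArg (fun z : M => (z : Ω)) hab)
  have hbij : Function.Bijective f := ⟨hinj, Finite.injective_iff_surjective.mp hinj⟩
  refine ⟨MulEquiv.ofBijective f hbij, ?_, fun z => rfl⟩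
  rw [mem_autGroup_iff F (hom_le F hψ)]
  have e : M.subtype.comp (MulEquiv.ofBijective f hbij).toMonoidHom = ψ := by
    ext z; rfl
  rw [e]; exact hψ

section Aut

variable {S₁ : Subgroup Ω₁} {S₂ : Subgroup Ω₂} {F₁ : FusionSystem S₁} {F₂ : FusionSystem S₂}
  {E : FusionSystem (S₁.prod S₂)} {Q₁ : Subgroup Ω₁} {Q₂ : Subgroup Ω₂} {Q : Subgroup (Ω₁ × Ω₂)}

/-- Every automorphism of `Q` in the product system is the restriction of a pair of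
automorphisms of the projections. -/
theorem exists_pair_of_mem_autGroup (hE : IsProductSystem F₁ F₂ E) [Finite Q₁] [Finite Q₂]
    (h₁ : Q.map (MonoidHom.fst Ω₁ Ω₂) = Q₁) (h₂ : Q.map (MonoidHom.snd Ω₁ Ω₂) = Q₂)
    (hQ : Q ≤ Q₁.prod Q₂) (hQS : Q ≤ S₁.prod S₂) {r : MulAut Q} (hr : r ∈ E.autGroup Q) :
    ∃ a : MulAut Q₁ × MulAut Q₂, a.1 ∈ F₁.autGroup Q₁ ∧ a.2 ∈ F₂.autGroup Q₂ ∧ Rel hQ a r := by
  rw [mem_autGroup_iff E hQS] at hr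
  obtain ⟨-, φ₁, hφ₁, φ₂, hφ₂, hφ⟩ := (mem_hom_iff hE h₁ h₂ _).mp hr
  have hval : ∀ x : Q, ((r x : Q) : Ω₁ × Ω₂) = prodRes φ₁ φ₂ (le_prod_of_map_eq h₁ h₂) x := by
    intro x
    have := congrArg (fun f : Q →* Ω₁ × Ω₂ => f x) hφ
    exact this
  have hm₁ : ∀ z : Q₁, φ₁ z ∈ Q₁ := by
    rintro ⟨z, hz⟩
    have hz' := hz
    rw [← h₁] at hz'
    obtain ⟨x, hx, hxz⟩ := hz'
    have h := hval ⟨x, hx⟩
    have hxx := Subgroup.mem_prod.mp ((le_prod_of_map_eq h₁ h₂) hx)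
    rw [prodRes_apply φ₁ φ₂ _ ⟨x, hx⟩ hxx.1 hxx.2] at h
    have h' := congrArg Prod.fst h
    have e : (⟨z, hz⟩ : Q₁) = ⟨x.1, hxx.1⟩ := Subtype.ext hxz.symm
    rw [e]
    have h'' : φ₁ ⟨x.1, hxx.1⟩ = ((r ⟨x, hx⟩ : Q) : Ω₁ × Ω₂).1 := h'.symm
    rw [h'', ← h₁]
    exact ⟨_, (r ⟨x, hx⟩).2, rfl⟩
  have hm₂ : ∀ z : Q₂, φ₂ z ∈ Q₂ := by
    rintro ⟨z, hz⟩
    have hz' := hz
    rw [← h₂] at hz'
    obtain ⟨x, hx, hxz⟩ := hz'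
    have h := hval ⟨x, hx⟩
    have hxx := Subgroup.mem_prod.mp ((le_prod_of_map_eq h₁ h₂) hx)
    rw [prodRes_apply φ₁ φ₂ _ ⟨x, hx⟩ hxx.1 hxx.2] at h
    have h' := congrArg Prod.snd h
    have e : (⟨z, hz⟩ : Q₂) = ⟨x.2, hxx.2⟩ := Subtype.ext hxz.symm
    rw [e]
    have h'' : φ₂ ⟨x.2, hxx.2⟩ = ((r ⟨x, hx⟩ : Q) : Ω₁ × Ω₂).2 := h'.symm
    rw [h'', ← h₂]
    exact ⟨_, (r ⟨x, hx⟩).2, rfl⟩
  obtain ⟨γ₁, hγ₁, hγ₁e⟩ := aut_of_hom F₁ hφ₁ hm₁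
  obtain ⟨γ₂, hγ₂, hγ₂e⟩ := aut_of_hom F₂ hφ₂ hm₂
  refine ⟨(γ₁, γ₂), hγ₁, hγ₂, fun x => ?_⟩
  have hx := Subgroup.mem_prod.mp (hQ x.2)
  rw [hval x, pairRes_apply _ hQ x hx.1 hx.2, prodRes_apply φ₁ φ₂ _ x hx.1 hx.2]
  show _ = (((γ₁ ⟨x.1.1, hx.1⟩ : Q₁) : Ω₁), ((γ₂ ⟨x.1.2, hx.2⟩ : Q₂) : Ω₂))
  rw [hγ₁e, hγ₂e]

/-- A pair of automorphisms of the factor systems restricts to a map of the product system. -/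
theorem pairRes_mem (hE : IsProductSystem F₁ F₂ E) (hQ₁ : Q₁ ≤ S₁) (hQ₂ : Q₂ ≤ S₂)
    (hQ : Q ≤ Q₁.prod Q₂) {b : MulAut Q₁ × MulAut Q₂} (hb₁ : b.1 ∈ F₁.autGroup Q₁)
    (hb₂ : b.2 ∈ F₂.autGroup Q₂) : pairRes b hQ ∈ E.Hom Q :=
  prodRes_mem hE ((mem_autGroup_iff F₁ hQ₁ b.1).mp hb₁) ((mem_autGroup_iff F₂ hQ₂ b.2).mp hb₂) hQ

end Aut


theorem isPGroup_prod {p : ℕ} {S₁ : Subgroup Ω₁} {S₂ : Subgroup Ω₂} (hS₁ : IsPGroup p S₁)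
    (hS₂ : IsPGroup p S₂) : IsPGroup p (S₁.prod S₂) := by
  rintro ⟨⟨g₁, g₂⟩, hg⟩
  obtain ⟨hg₁, hg₂⟩ := Subgroup.mem_prod.mp hg
  obtain ⟨k₁, hk₁⟩ := hS₁ ⟨g₁, hg₁⟩
  obtain ⟨k₂, hk₂⟩ := hS₂ ⟨g₂, hg₂⟩
  have e₁ : g₁ ^ (p ^ k₁) = 1 := by simpa using congrArg Subtype.val hk₁
  have e₂ : g₂ ^ (p ^ k₂) = 1 := by simpa using congrArg Subtype.val hk₂
  refine ⟨k₁ + k₂, Subtype.ext ?_⟩
  show (g₁, g₂) ^ (p ^ (k₁ + k₂)) = 1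
  rw [Prod.pow_mk, pow_add, pow_mul, e₁, one_pow, mul_comm, pow_mul, e₂, one_pow]
  rfl

section FA

variable {S₁ : Subgroup Ω₁} {S₂ : Subgroup Ω₂} {F₁ : FusionSystem S₁} {F₂ : FusionSystem S₂}
  {E : FusionSystem (S₁.prod S₂)} {Q₁ : Subgroup Ω₁} {Q₂ : Subgroup Ω₂} {Q : Subgroup (Ω₁ × Ω₂)}

theorem finite_of_le' {Ω : Type*} [Group Ω] {S P : Subgroup Ω} [Finite S] (hP : P ≤ S) : Finite P :=
  Finite.of_injective _ (Subgroup.inclusion_injective hP)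

/-- With fully automized projections, some conjugate of `Q` under a pair of automorphisms of
the projections is fully automized in the product system. -/
theorem exists_fullyAutomized (hE : IsProductSystem F₁ F₂ E) [Finite S₁] [Finite S₂] {p : ℕ}
    [Fact p.Prime] (hS₁ : IsPGroup p S₁) (hS₂ : IsPGroup p S₂)
    (hfa₁ : F₁.IsFullyAutomized p Q₁) (hfa₂ : F₂.IsFullyAutomized p Q₂)
    (h₁ : Q.map (MonoidHom.fst Ω₁ Ω₂) = Q₁) (h₂ : Q.map (MonoidHom.snd Ω₁ Ω₂) = Q₂)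
    (hQ : Q ≤ Q₁.prod Q₂) :
    ∃ b : MulAut Q₁ × MulAut Q₂, b.1 ∈ F₁.autGroup Q₁ ∧ b.2 ∈ F₂.autGroup Q₂ ∧
      E.IsFullyAutomized p (pairRes b hQ).range := by
  have hQ₁ : Q₁ ≤ S₁ := hfa₁.1
  have hQ₂ : Q₂ ≤ S₂ := hfa₂.1
  have : Finite Q₁ := finite_of_le' hQ₁
  have : Finite Q₂ := finite_of_le' hQ₂
  let AA : Subgroup (MulAut Q₁ × MulAut Q₂) := (F₁.autGroup Q₁).prod (F₂.autGroup Q₂)
  let L : Subgroup (MulAut Q₁ × MulAut Q₂) := lift hQ ⊤ ⊓ AA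
  let P₀ : Sylow p L := default
  let P₀' : Subgroup (MulAut Q₁ × MulAut Q₂) := (P₀ : Subgroup L).map L.subtype
  have hP₀p : IsPGroup p P₀' := P₀.isPGroup'.map _
  have hP₀L : P₀' ≤ L := by
    rintro _ ⟨x, -, rfl⟩
    exact x.2
  have hmax : ∀ R : Subgroup (MulAut Q₁ × MulAut Q₂), IsPGroup p R → P₀' ≤ R → R ≤ L →
      R ≤ P₀' := by
    intro R hRp hle hRL
    have h1 : IsPGroup p (R.subgroupOf L) := hRp.comap_of_injective _ L.subtype_injective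
    have h2 : (P₀ : Subgroup L) ≤ R.subgroupOf L :=
      fun x hx => Subgroup.mem_subgroupOf.mpr (hle ⟨x, hx, rfl⟩)
    have h3 := P₀.is_maximal' h1 h2
    intro a ha
    have h4 : (⟨a, hRL ha⟩ : L) ∈ R.subgroupOf L := Subgroup.mem_subgroupOf.mpr ha
    rw [h3] at h4
    exact ⟨⟨a, hRL ha⟩, h4, rfl⟩
  let T₁ : Subgroup (MulAut Q₁) := P₀'.map (MonoidHom.fst (MulAut Q₁) (MulAut Q₂))
  let T₂ : Subgroup (MulAut Q₂) := P₀'.map (MonoidHom.snd (MulAut Q₁) (MulAut Q₂))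
  have hT₁ : T₁ ≤ F₁.autGroup Q₁ := by
    rintro _ ⟨a, ha, rfl⟩
    exact (Subgroup.mem_prod.mp (hP₀L ha).2).1
  have hT₂ : T₂ ≤ F₂.autGroup Q₂ := by
    rintro _ ⟨a, ha, rfl⟩
    exact (Subgroup.mem_prod.mp (hP₀L ha).2).2
  have hT₁p : IsPGroup p T₁ := hP₀p.map _
  have hT₂p : IsPGroup p T₂ := hP₀p.map _
  obtain ⟨b₁, hb₁, hb₁T⟩ := exists_conj_into_autS F₁ hfa₁ T₁ hT₁ hT₁p
  obtain ⟨b₂, hb₂, hb₂T⟩ := exists_conj_into_autS F₂ hfa₂ T₂ hT₂ hT₂p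
  refine ⟨(b₁, b₂), hb₁, hb₂, ?_⟩
  have hbA : ((b₁, b₂) : MulAut Q₁ × MulAut Q₂) ∈ AA := Subgroup.mem_prod.mpr ⟨hb₁, hb₂⟩
  have h₁' := range_pairRes_map_fst (b₁, b₂) hQ h₁
  have h₂' := range_pairRes_map_snd (b₁, b₂) hQ h₂
  have hQ' : (pairRes (b₁, b₂) hQ).range ≤ Q₁.prod Q₂ := le_prod_of_map_eq h₁' h₂'
  have hQ'S : (pairRes (b₁, b₂) hQ).range ≤ S₁.prod S₂ :=
    hQ'.trans (Subgroup.prod_mono hQ₁ hQ₂)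
  let e : Q ≃* (pairRes (b₁, b₂) hQ).range :=
    isoOfHom (pairRes (b₁, b₂) hQ) (pairRes_injective (b₁, b₂) hQ) rfl
  have he : ∀ x : Q, ((e x : (pairRes (b₁, b₂) hQ).range) : Ω₁ × Ω₂) = pairRes (b₁, b₂) hQ x :=
    fun x => rfl
  have hS : IsPGroup p (S₁.prod S₂) := isPGroup_prod hS₁ hS₂
  refine ⟨hQ'S, ⟨(autInducedBy (S₁.prod S₂) (pairRes (b₁, b₂) hQ).range).subgroupOf
    (E.autGroup (pairRes (b₁, b₂) hQ).range), ?_, ?_⟩, rfl⟩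
  · exact (autInducedBy_isPGroup hS _).comap_of_injective _ (Subgroup.subtype_injective _)
  · intro R' hR'p hle
    refine le_antisymm ?_ hle
    let R'' : Subgroup (MulAut (pairRes (b₁, b₂) hQ).range) :=
      R'.map (E.autGroup (pairRes (b₁, b₂) hQ).range).subtype
    let R : Subgroup (MulAut Q) := R''.comap (MulAut.congr e).toMonoidHom
    have hRp : IsPGroup p R :=
      (hR'p.map _).comap_of_injective _ (MulAut.congr e).injective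
    let Rt : Subgroup (MulAut Q₁ × MulAut Q₂) := lift hQ R ⊓ AA
    have hRtp : IsPGroup p Rt := (lift_isPGroup h₁ h₂ hQ hRp).to_le inf_le_left
    have hRtL : Rt ≤ L := by
      rintro a ⟨⟨r, -, hrel⟩, hA⟩
      exact ⟨⟨r, Subgroup.mem_top r, hrel⟩, hA⟩
    have hP₀Rt : P₀' ≤ Rt := by
      intro a ha
      obtain ⟨⟨r, -, hrel⟩, hA⟩ := hP₀L ha
      refine ⟨⟨r, ?_, hrel⟩, hA⟩
      have hrel' := (rel_conj_iff hQ hQ' (b₁, b₂) e he a r).mp hrel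
      have m1 : ((b₁, b₂) * a * (b₁, b₂)⁻¹ : MulAut Q₁ × MulAut Q₂).1 ∈ autInducedBy S₁ Q₁ :=
        hb₁T a.1 ⟨a, ha, rfl⟩
      have m2 : ((b₁, b₂) * a * (b₁, b₂)⁻¹ : MulAut Q₁ × MulAut Q₂).2 ∈ autInducedBy S₂ Q₂ :=
        hb₂T a.2 ⟨a, ha, rfl⟩
      have hmem := hrel'.mem_autInducedBy m1 m2
      show MulAut.congr e r ∈ R''
      exact ⟨⟨MulAut.congr e r, autInducedBy_le_autGroup E hQ'S hmem⟩,
        hle (Subgroup.mem_subgroupOf.mpr hmem), rfl⟩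
    have hRtP₀ : Rt ≤ P₀' := hmax Rt hRtp hP₀Rt hRtL
    intro r' hr'
    obtain ⟨a', ha'₁, ha'₂, hrel'⟩ := exists_pair_of_mem_autGroup hE h₁' h₂' hQ' hQ'S r'.2
    have hba : (b₁, b₂) * ((b₁, b₂)⁻¹ * a' * (b₁, b₂)) * (b₁, b₂)⁻¹ = a' := by group
    have hcr : MulAut.congr e ((MulAut.congr e).symm r'.1) = r'.1 :=
      (MulAut.congr e).apply_symm_apply r'.1
    have hrel : Rel hQ ((b₁, b₂)⁻¹ * a' * (b₁, b₂)) ((MulAut.congr e).symm r'.1) := by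
      rw [rel_conj_iff hQ hQ' (b₁, b₂) e he, hba, hcr]
      exact hrel'
    have haA : (b₁, b₂)⁻¹ * a' * (b₁, b₂) ∈ AA :=
      AA.mul_mem (AA.mul_mem (AA.inv_mem hbA) (Subgroup.mem_prod.mpr ⟨ha'₁, ha'₂⟩)) hbA
    have hrR : (MulAut.congr e).symm r'.1 ∈ R := by
      show MulAut.congr e ((MulAut.congr e).symm r'.1) ∈ R''
      rw [hcr]
      exact ⟨r', hr', rfl⟩
    have haP₀ : (b₁, b₂)⁻¹ * a' * (b₁, b₂) ∈ P₀' := hRtP₀ ⟨⟨_, hrR, hrel⟩, haA⟩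
    have m1 := hb₁T _ ⟨_, haP₀, rfl⟩
    have m2 := hb₂T _ ⟨_, haP₀, rfl⟩
    have e1 : b₁ * (MonoidHom.fst (MulAut Q₁) (MulAut Q₂)) ((b₁, b₂)⁻¹ * a' * (b₁, b₂)) * b₁⁻¹ =
        a'.1 := by
      show b₁ * (b₁⁻¹ * a'.1 * b₁) * b₁⁻¹ = a'.1
      group
    have e2 : b₂ * (MonoidHom.snd (MulAut Q₁) (MulAut Q₂)) ((b₁, b₂)⁻¹ * a' * (b₁, b₂)) * b₂⁻¹ =
        a'.2 := by
      show b₂ * (b₂⁻¹ * a'.2 * b₂) * b₂⁻¹ = a'.2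
      group
    rw [e1] at m1
    rw [e2] at m2
    exact Subgroup.mem_subgroupOf.mpr (hrel'.mem_autInducedBy m1 m2)

end FA


section Rec

variable {S₁ : Subgroup Ω₁} {S₂ : Subgroup Ω₂} {F₁ : FusionSystem S₁} {F₂ : FusionSystem S₂}
  {E : FusionSystem (S₁.prod S₂)} {Q₁ : Subgroup Ω₁} {Q₂ : Subgroup Ω₂} {Q : Subgroup (Ω₁ × Ω₂)}

theorem map_fst_mem_normalizer {R : Subgroup (Ω₁ × Ω₂)} {g : Ω₁ × Ω₂}
    (hg : g ∈ Subgroup.normalizer (R : Set (Ω₁ × Ω₂))) :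
    g.1 ∈ Subgroup.normalizer ((R.map (MonoidHom.fst Ω₁ Ω₂) : Subgroup Ω₁) : Set Ω₁) := by
  rw [Subgroup.mem_normalizer_iff] at hg ⊢
  intro z
  constructor
  · rintro ⟨x, hx, rfl⟩
    exact ⟨g * x * g⁻¹, (hg x).mp hx, rfl⟩
  · rintro ⟨y, hy, hyz⟩
    refine ⟨g⁻¹ * y * g, ?_, ?_⟩
    · rw [SetLike.mem_coe, hg]
      have : g * (g⁻¹ * y * g) * g⁻¹ = y := by group
      rw [this]
      exact hy
    · show g.1⁻¹ * y.1 * g.1 = z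
      have : y.1 = g.1 * z * g.1⁻¹ := hyz
      rw [this]
      group

theorem map_snd_mem_normalizer {R : Subgroup (Ω₁ × Ω₂)} {g : Ω₁ × Ω₂}
    (hg : g ∈ Subgroup.normalizer (R : Set (Ω₁ × Ω₂))) :
    g.2 ∈ Subgroup.normalizer ((R.map (MonoidHom.snd Ω₁ Ω₂) : Subgroup Ω₂) : Set Ω₂) := by
  rw [Subgroup.mem_normalizer_iff] at hg ⊢
  intro z
  constructor
  · rintro ⟨x, hx, rfl⟩
    exact ⟨g * x * g⁻¹, (hg x).mp hx, rfl⟩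
  · rintro ⟨y, hy, hyz⟩
    refine ⟨g⁻¹ * y * g, ?_, ?_⟩
    · rw [SetLike.mem_coe, hg]
      have : g * (g⁻¹ * y * g) * g⁻¹ = y := by group
      rw [this]
      exact hy
    · show g.2⁻¹ * y.2 * g.2 = z
      have : y.2 = g.2 * z * g.2⁻¹ := hyz
      rw [this]
      group

/-- A subgroup whose projections are receptive in the factors is receptive in the product. -/
theorem isReceptive_of_proj (hE : IsProductSystem F₁ F₂ E) (hrec₁ : F₁.IsReceptive Q₁)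
    (hrec₂ : F₂.IsReceptive Q₂) (h₁ : Q.map (MonoidHom.fst Ω₁ Ω₂) = Q₁)
    (h₂ : Q.map (MonoidHom.snd Ω₁ Ω₂) = Q₂) : E.IsReceptive Q := by
  refine ⟨(le_prod_of_map_eq h₁ h₂).trans (Subgroup.prod_mono hrec₁.1 hrec₂.1), ?_⟩
  intro R ψ hψ hr
  obtain ⟨hRS, ψ₁, hψ₁, ψ₂, hψ₂, rfl⟩ :=
    (mem_hom_iff hE (P₁ := R.map (MonoidHom.fst Ω₁ Ω₂)) (P₂ := R.map (MonoidHom.snd Ω₁ Ω₂))
      rfl rfl ψ).mp hψ
  have hr₁ : ψ₁.range = Q₁ := by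
    rw [← range_prodRes_map_fst ψ₁ ψ₂ (le_prod_of_map_eq rfl rfl) rfl, hr, h₁]
  have hr₂ : ψ₂.range = Q₂ := by
    rw [← range_prodRes_map_snd ψ₁ ψ₂ (le_prod_of_map_eq rfl rfl) rfl, hr, h₂]
  obtain ⟨χ₁, hχ₁, hχ₁e⟩ := hrec₁.2 _ ψ₁ hψ₁ hr₁
  obtain ⟨χ₂, hχ₂, hχ₂e⟩ := hrec₂.2 _ ψ₂ hψ₂ hr₂
  have hN : extender (S₁.prod S₂) R (prodRes ψ₁ ψ₂ (le_prod_of_map_eq rfl rfl)) ≤
      (extender S₁ (R.map (MonoidHom.fst Ω₁ Ω₂)) ψ₁).prod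
        (extender S₂ (R.map (MonoidHom.snd Ω₁ Ω₂)) ψ₂) := by
    unfold extender
    rw [Subgroup.closure_le]
    rintro g ⟨hgS, hgN, h, hhS, hh⟩
    have hgS' := Subgroup.mem_prod.mp hgS
    have hhS' := Subgroup.mem_prod.mp hhS
    refine Subgroup.mem_prod.mpr ⟨Subgroup.subset_closure ?_, Subgroup.subset_closure ?_⟩
    · refine ⟨hgS'.1, map_fst_mem_normalizer hgN, h.1, hhS'.1, ?_⟩
      rintro ⟨z, x, hx, rfl⟩ hz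
      have hgx : g * x * g⁻¹ ∈ R := (Subgroup.mem_normalizer_iff.mp hgN x).mp hx
      exact congrArg Prod.fst (hh ⟨x, hx⟩ hgx)
    · refine ⟨hgS'.2, map_snd_mem_normalizer hgN, h.2, hhS'.2, ?_⟩
      rintro ⟨z, x, hx, rfl⟩ hz
      have hgx : g * x * g⁻¹ ∈ R := (Subgroup.mem_normalizer_iff.mp hgN x).mp hx
      exact congrArg Prod.snd (hh ⟨x, hx⟩ hgx)
  refine ⟨prodRes χ₁ χ₂ hN, prodRes_mem hE hχ₁ hχ₂ hN, fun x hP hNx => ?_⟩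
  have hNx' := Subgroup.mem_prod.mp (hN hNx)
  have hP' := Subgroup.mem_prod.mp ((le_prod_of_map_eq (P := R) rfl rfl) hP)
  exact Prod.ext (hχ₁e x.1 hP'.1 hNx'.1) (hχ₂e x.2 hP'.2 hNx'.2)

end Rec

end Cfsg.Agent.Lib.Helper91
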