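import Mathlib
import Cfsg.Agent.Lib.Helper30.ZStarMain

set_option autoImplicit false

/-!
# Glauberman's `Z*`-theorem for `2`-elements of arbitrary order

If `a` is a `2`-element of the finite group `G` which is weakly closed in a Sylow `2`-subgroup
(the only conjugate of `a` in the Sylow subgroup is `a`), then `a` is central modulo `O(G)`.
Derived from the involution case (`Helper30.zstar_main`) by induction on the order of `G`.
-/

namespace Cfsg.Agent.Lib.Helper91.ZStarTwoElem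

open Cfsg Cfsg.Agent.Lib.Helper30

universe u

/-- `a` is *weakly closed*: in every `2`-subgroup containing `a`, the only conjugate of `a`
is `a` itself. -/
def WC {G : Type*} [Group G] (a : G) : Prop :=
  ∀ T : Subgroup G, IsPGroup 2 T → a ∈ T → ∀ g : G, g * a * g⁻¹ ∈ T → g * a * g⁻¹ = a

section basic

variable {G : Type*} [Group G]

theorem isPGroup_zpowers {a : G} {k : ℕ} (hk : orderOf a = 2 ^ k) :
    IsPGroup 2 (Subgroup.zpowers a) := by
  have : Fact (Nat.Prime 2) := ⟨Nat.prime_two⟩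
  apply IsPGroup.of_card (n := k)
  rw [Nat.card_zpowers, hk]

theorem conj_pow' (g a : G) (m : ℕ) : g * a ^ m * g⁻¹ = (g * a * g⁻¹) ^ m := by
  rw [conj_pow]

/-- Weak closure in one Sylow `2`-subgroup gives weak closure in all `2`-subgroups. -/
theorem wc_of_sylow [Finite G] (P : Sylow 2 G) (a : G)
    (h : ∀ g : G, g * a * g⁻¹ ∈ P → g * a * g⁻¹ = a) : WC a := by
  have : Fact (Nat.Prime 2) := ⟨Nat.prime_two⟩
  intro T hT haT g hg
  obtain ⟨Q, hQ⟩ := hT.exists_le_sylow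
  obtain ⟨c, hc⟩ := MulAction.exists_smul_eq G Q P
  have hmem : ∀ t ∈ (Q : Subgroup G), c * t * c⁻¹ ∈ (P : Subgroup G) := by
    intro t ht
    rw [← hc, Sylow.coe_subgroup_smul]
    have := Subgroup.smul_mem_pointwise_smul t (MulAut.conj c) (Q : Subgroup G) ht
    simpa [MulAut.smul_def] using this
  have h1 : c * a * c⁻¹ = a := h c (hmem a (hQ haT))
  have h2mem : c * (g * a * g⁻¹) * c⁻¹ ∈ (P : Subgroup G) := hmem _ (hQ hg)
  have e : c * (g * a * g⁻¹) * c⁻¹ = (c * g) * a * (c * g)⁻¹ := by group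
  rw [e] at h2mem
  have h2 := h (c * g) h2mem
  rw [← e] at h2
  have h3 : c * (g * a * g⁻¹) * c⁻¹ = c * a * c⁻¹ := by rw [h2, h1]
  have := congrArg (fun t => c⁻¹ * t * c) h3
  simpa [mul_assoc] using this

/-- A weakly closed element is central in every `2`-subgroup containing it. -/
theorem WC.comm {a : G} (h : WC a) (T : Subgroup G) (hT : IsPGroup 2 T) (haT : a ∈ T)
    (t : G) (ht : t ∈ T) : t * a * t⁻¹ = a :=
  h T hT haT t (T.mul_mem (T.mul_mem ht haT) (T.inv_mem ht))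

/-- Two `2`-elements of a subgroup `H` can be put in a common Sylow `2`-subgroup of `H` after
conjugating one of them inside `H`. -/
theorem exists_common_sylow [Finite G] (H : Subgroup G) (u v : G) (hu : u ∈ H) (hv : v ∈ H)
    (hu2 : IsPGroup 2 (Subgroup.zpowers u)) (hv2 : IsPGroup 2 (Subgroup.zpowers v)) :
    ∃ c ∈ H, ∃ Q : Sylow 2 H, u ∈ (Q : Subgroup H).map H.subtype ∧
      c * v * c⁻¹ ∈ (Q : Subgroup H).map H.subtype := by
  have : Fact (Nat.Prime 2) := ⟨Nat.prime_two⟩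
  have hu2' : IsPGroup 2 (Subgroup.zpowers (⟨u, hu⟩ : H)) := by
    have : (Subgroup.zpowers (⟨u, hu⟩ : H)).map H.subtype = Subgroup.zpowers u := by
      rw [MonoidHom.map_zpowers]; rfl
    have h2 : IsPGroup 2 ((Subgroup.zpowers (⟨u, hu⟩ : H)).map H.subtype) := by rw [this]; exact hu2
    exact h2.of_equiv ((Subgroup.zpowers (⟨u, hu⟩ : H)).equivMapOfInjective H.subtype
      H.subtype_injective).symm
  have hv2' : IsPGroup 2 (Subgroup.zpowers (⟨v, hv⟩ : H)) := by
    have : (Subgroup.zpowers (⟨v, hv⟩ : H)).map H.subtype = Subgroup.zpowers v := by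
      rw [MonoidHom.map_zpowers]; rfl
    have h2 : IsPGroup 2 ((Subgroup.zpowers (⟨v, hv⟩ : H)).map H.subtype) := by rw [this]; exact hv2
    exact h2.of_equiv ((Subgroup.zpowers (⟨v, hv⟩ : H)).equivMapOfInjective H.subtype
      H.subtype_injective).symm
  obtain ⟨Q₁, hQ₁⟩ := hu2'.exists_le_sylow
  obtain ⟨Q₂, hQ₂⟩ := hv2'.exists_le_sylow
  obtain ⟨c, hc⟩ := MulAction.exists_smul_eq H Q₂ Q₁
  refine ⟨c, c.2, Q₁, ?_, ?_⟩
  · exact ⟨⟨u, hu⟩, hQ₁ (Subgroup.mem_zpowers _), rfl⟩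
  · refine ⟨c * ⟨v, hv⟩ * c⁻¹, ?_, rfl⟩
    rw [SetLike.mem_coe, ← hc, Sylow.coe_subgroup_smul]
    have := Subgroup.smul_mem_pointwise_smul (⟨v, hv⟩ : H) (MulAut.conj c) (Q₂ : Subgroup H)
      (hQ₂ (Subgroup.mem_zpowers _))
    simpa [MulAut.smul_def] using this

/-- Powers of a weakly closed `2`-element are weakly closed relative to the `2`-subgroups
containing the element. -/
theorem WC.pow_conj [Finite G] {a : G} (h : WC a) {k : ℕ} (hk : orderOf a = 2 ^ k) (m : ℕ)
    (T : Subgroup G) (hT : IsPGroup 2 T) (haT : a ∈ T) (g : G)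
    (hg : g * a ^ m * g⁻¹ ∈ T) : g * a ^ m * g⁻¹ = a ^ m := by
  have ha2 := isPGroup_zpowers hk
  obtain ⟨z', hz'⟩ : ∃ z' : G, z' = g * a ^ m * g⁻¹ := ⟨_, rfl⟩
  obtain ⟨a', ha'⟩ : ∃ a' : G, a' = g * a * g⁻¹ := ⟨_, rfl⟩
  have hz'a' : z' = a' ^ m := by rw [hz', ha', conj_pow]
  rw [← hz'] at hg ⊢
  -- `a` commutes with `z'`
  have h1 : z' * a * z'⁻¹ = a := h.comm T hT haT z' hg
  have haC : a ∈ Subgroup.centralizer ({z'} : Set G) := by
    rw [Subgroup.mem_centralizer_singleton_iff]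
    have := congrArg (fun t => t * z') h1
    simpa [mul_assoc] using this.symm
  have ha'C : a' ∈ Subgroup.centralizer ({z'} : Set G) := by
    rw [Subgroup.mem_centralizer_singleton_iff, hz'a']
    exact ((Commute.refl a').pow_right m).eq
  have ha'2 : IsPGroup 2 (Subgroup.zpowers a') := by
    apply isPGroup_zpowers (k := k)
    rw [ha']
    have : g * a * g⁻¹ = MulAut.conj g a := by simp
    rw [this, MulEquiv.orderOf_eq, hk]
  have : Fact (Nat.Prime 2) := ⟨Nat.prime_two⟩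
  obtain ⟨c, hcC, Q, haR, hcR⟩ := exists_common_sylow _ a a' haC ha'C ha2 ha'2
  obtain ⟨R, hRdef⟩ : ∃ R : Subgroup G, R = (Q : Subgroup (Subgroup.centralizer ({z'} : Set G))).map
    (Subgroup.centralizer ({z'} : Set G)).subtype := ⟨_, rfl⟩
  have hR : IsPGroup 2 R := by rw [hRdef]; exact Q.2.map _
  rw [← hRdef] at haR hcR
  have e : c * a' * c⁻¹ = (c * g) * a * (c * g)⁻¹ := by rw [ha']; group
  rw [e] at hcR
  have h2 := h R hR haR (c * g) hcR
  -- `(c g) z (c g)⁻¹ = z`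
  have h3 : (c * g) * a ^ m * (c * g)⁻¹ = a ^ m := by rw [← conj_pow, h2]
  have h4 : (c * g) * a ^ m * (c * g)⁻¹ = c * z' * c⁻¹ := by rw [hz']; group
  have h5 : c * z' * c⁻¹ = z' := by
    rw [Subgroup.mem_centralizer_singleton_iff] at hcC
    rw [hcC, mul_assoc, mul_inv_cancel, mul_one]
  rw [← h3, h4, h5]

theorem conj_orderOf (g a : G) : orderOf (g * a * g⁻¹) = orderOf a := by
  have : g * a * g⁻¹ = MulAut.conj g a := by simp
  rw [this, MulEquiv.orderOf_eq]

/-- Weak closure passes to quotients. -/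
theorem WC.quotient [Finite G] {a : G} (h : WC a) {k : ℕ} (hk : orderOf a = 2 ^ k)
    (K : Subgroup G) [K.Normal] : WC (QuotientGroup.mk' K a) := by
  have : Fact (Nat.Prime 2) := ⟨Nat.prime_two⟩
  intro Tb hTb haTb gb hgb
  obtain ⟨g, rfl⟩ := QuotientGroup.mk'_surjective K gb
  obtain ⟨π, hπ⟩ : ∃ π : G →* G ⧸ K, π = QuotientGroup.mk' K := ⟨_, rfl⟩
  rw [← hπ] at haTb hgb ⊢
  have hπs : Function.Surjective π := by rw [hπ]; exact QuotientGroup.mk'_surjective K
  have haT₁ : a ∈ Tb.comap π := haTb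
  have hgT₁ : g * a * g⁻¹ ∈ Tb.comap π := by
    show π (g * a * g⁻¹) ∈ Tb
    simpa using hgb
  have ha2 := isPGroup_zpowers hk
  have ha'2 : IsPGroup 2 (Subgroup.zpowers (g * a * g⁻¹)) :=
    isPGroup_zpowers (k := k) (by rw [conj_orderOf, hk])
  obtain ⟨t, htT₁, Q, haR, htR⟩ := exists_common_sylow (Tb.comap π) a (g * a * g⁻¹) haT₁ hgT₁ ha2 ha'2
  obtain ⟨R, hRdef⟩ : ∃ R : Subgroup G, R = (Q : Subgroup (Tb.comap π)).map (Tb.comap π).subtype :=
    ⟨_, rfl⟩
  have hR : IsPGroup 2 R := by rw [hRdef]; exact Q.2.map _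
  rw [← hRdef] at haR htR
  have e : t * (g * a * g⁻¹) * t⁻¹ = (t * g) * a * (t * g)⁻¹ := by group
  rw [e] at htR
  have h2 := h R hR haR (t * g) htR
  have h3 : g * a * g⁻¹ = t⁻¹ * a * t⁻¹⁻¹ := by
    calc g * a * g⁻¹ = t⁻¹ * ((t * g) * a * (t * g)⁻¹) * t⁻¹⁻¹ := by group
      _ = t⁻¹ * a * t⁻¹⁻¹ := by rw [h2]
  -- lift `π t⁻¹` to an element of `R`
  have hsurj : Function.Surjective (π.subgroupComap Tb) :=
    π.subgroupComap_surjective_of_surjective Tb hπs
  have htop : ((Q.mapSurjective hsurj : Sylow 2 Tb) : Subgroup Tb) = ⊤ :=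
    ((Q.mapSurjective hsurj).is_maximal' (hTb.to_subgroup ⊤) le_top).symm
  have hmem : (π.subgroupComap Tb) ⟨t⁻¹, (Tb.comap π).inv_mem htT₁⟩ ∈
      ((Q.mapSurjective hsurj : Sylow 2 Tb) : Subgroup Tb) := by rw [htop]; exact Subgroup.mem_top _
  rw [Sylow.coe_mapSurjective] at hmem
  obtain ⟨r, hrQ, hr⟩ := hmem
  have hr' : π (r : G) = π t⁻¹ := congrArg Subtype.val hr
  have hrR : (r : G) ∈ R := by rw [hRdef]; exact ⟨r, hrQ, rfl⟩
  have h4 : (r : G) * a * (r : G)⁻¹ = a := h.comm R hR haR _ hrR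
  calc π g * π a * (π g)⁻¹ = π (g * a * g⁻¹) := by rw [map_mul, map_mul, map_inv]
    _ = π (t⁻¹ * a * t⁻¹⁻¹) := by rw [h3]
    _ = π (r : G) * π a * (π (r : G))⁻¹ := by
      rw [map_mul, map_mul, map_inv π (t⁻¹), hr']
    _ = π ((r : G) * a * (r : G)⁻¹) := by rw [map_mul, map_mul, map_inv]
    _ = π a := by rw [h4]

end basic

section main

/-- **`Z*`-theorem for weakly closed `2`-elements**, by induction on the order. -/
theorem zstar_wc_aux : ∀ (n : ℕ) (G : Type u) [Group G] [Finite G], Nat.card G = n →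
    ∀ a : G, (∃ k : ℕ, orderOf a = 2 ^ k) → WC a → ∀ g : G, g * a * g⁻¹ * a⁻¹ ∈ pPrimeCore 2 G := by
  intro n
  induction n using Nat.strong_induction_on with
  | _ n ih =>
  intro G _ _ hcard a ⟨k, hk⟩ hwc g
  have : Fact (Nat.Prime 2) := ⟨Nat.prime_two⟩
  have hIH : ∀ (H : Type u) [Group H] [Finite H], Nat.card H < Nat.card G →
      ∀ b : H, (∃ k : ℕ, orderOf b = 2 ^ k) → WC b → ∀ c : H, c * b * c⁻¹ * b⁻¹ ∈ pPrimeCore 2 H :=
    fun H _ _ hlt b hb hbw c => ih (Nat.card H) (hcard ▸ hlt) H rfl b hb hbw c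
  have hquot_order : ∀ (K : Subgroup G) [K.Normal], ∃ k' : ℕ,
      orderOf (QuotientGroup.mk' K a) = 2 ^ k' := by
    intro K _
    have h1 : orderOf (QuotientGroup.mk' K a) ∣ 2 ^ k := by
      rw [← hk]; exact orderOf_map_dvd _ a
    obtain ⟨k', -, hk'⟩ := (Nat.dvd_prime_pow Nat.prime_two).1 h1
    exact ⟨k', hk'⟩
  by_cases hO : pPrimeCore 2 G = ⊥
  · -- the core-free case
    rcases Nat.eq_zero_or_pos k with hk0 | hkpos
    · have ha1 : a = 1 := by
        rw [hk0, pow_zero] at hk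
        exact orderOf_eq_one_iff.mp hk
      rw [ha1]; simp
    obtain ⟨k', rfl⟩ : ∃ k', k = k' + 1 := ⟨k - 1, by omega⟩
    obtain ⟨z, hzdef⟩ : ∃ z : G, z = a ^ (2 ^ k') := ⟨_, rfl⟩
    have hoz : orderOf z = 2 := by
      rw [hzdef, orderOf_pow_of_dvd (by positivity) (by rw [hk]; exact pow_dvd_pow 2 (by omega)), hk,
        pow_succ, Nat.mul_div_cancel_left _ (by positivity)]
    have hzmem : z ∈ Subgroup.zpowers a := by rw [hzdef]; exact Subgroup.npow_mem_zpowers a _
    have hziso : IsIsolatedInvolution z := by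
      obtain ⟨P, hP⟩ := (isPGroup_zpowers hk).exists_le_sylow
      apply isolated_of_sylow P z hoz (hP hzmem)
      intro c hc
      rw [hzdef] at hc ⊢
      exact hwc.pow_conj hk _ P P.2 (hP (Subgroup.mem_zpowers a)) c hc
    have hzcomm : ∀ c : G, c * z = z * c := by
      intro c
      have h1 := zstar_main hziso c
      rw [hO, Subgroup.mem_bot] at h1
      have h2 := congrArg (fun t => t * c * z) h1
      simp only [one_mul] at h2
      rw [← h2]; group
    have hzc : z ∈ Subgroup.center G := Subgroup.mem_center_iff.mpr hzcomm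
    obtain ⟨Z, hZdef⟩ : ∃ Z : Subgroup G, Z = Subgroup.zpowers z := ⟨_, rfl⟩
    have hZn : Z.Normal := by
      refine ⟨fun x hx c => ?_⟩
      have hxc : x ∈ Subgroup.center G := by
        rw [hZdef] at hx
        exact (Subgroup.zpowers_le.mpr hzc) hx
      rw [Subgroup.mem_center_iff.mp hxc c, mul_assoc, mul_inv_cancel, mul_one]
      exact hx
    have hZcard : Nat.card Z = 2 := by rw [hZdef, Nat.card_zpowers, hoz]
    have hlt : Nat.card (G ⧸ Z) < Nat.card G := by
      have h1 := Subgroup.card_eq_card_quotient_mul_card_subgroup Z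
      have h3 : 0 < Nat.card (G ⧸ Z) := Nat.card_pos
      rw [hZcard] at h1
      omega
    have hwcq := hwc.quotient hk Z
    have hIHq := hIH (G ⧸ Z) hlt _ (hquot_order Z) hwcq (QuotientGroup.mk' Z g)
    -- the odd core of the quotient is trivial
    have hOq : pPrimeCore 2 (G ⧸ Z) = ⊥ := by
      have hKn : ((pPrimeCore 2 (G ⧸ Z)).comap (QuotientGroup.mk' Z)).Normal := inferInstance
      have hzK : z ∈ (pPrimeCore 2 (G ⧸ Z)).comap (QuotientGroup.mk' Z) :=
        le_comap_mk' Z _ (by rw [hZdef]; exact Subgroup.mem_zpowers z)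
      have hKcard := card_comap_mk' Z (pPrimeCore 2 (G ⧸ Z))
      rw [hZcard] at hKcard
      have hodd : Odd (Nat.card (pPrimeCore 2 (G ⧸ Z))) :=
        Nat.coprime_two_right.mp (pPrimeCore_card_coprime 2)
      have h2 := card_eq_two_of_central_invol hO z hoz hzc _ hzK _ hodd hKcard
      rw [hKcard] at h2
      have h1 : Nat.card (pPrimeCore 2 (G ⧸ Z)) = 1 := by omega
      exact Subgroup.card_eq_one.mp h1
    rw [hOq, Subgroup.mem_bot] at hIHq
    have h1 : g * a * g⁻¹ * a⁻¹ ∈ Z := by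
      rw [← QuotientGroup.ker_mk' Z, MonoidHom.mem_ker]
      simpa using hIHq
    have h2 : g * a * g⁻¹ ∈ Subgroup.zpowers a := by
      have h3 : g * a * g⁻¹ * a⁻¹ ∈ Subgroup.zpowers a := by
        rw [hZdef] at h1
        exact (Subgroup.zpowers_le.mpr hzmem) h1
      have := (Subgroup.zpowers a).mul_mem h3 (Subgroup.mem_zpowers a)
      simpa using this
    have h3 := hwc _ (isPGroup_zpowers hk) (Subgroup.mem_zpowers a) g h2
    rw [h3, mul_inv_cancel]
    exact Subgroup.one_mem _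
  · have hlt : Nat.card (G ⧸ pPrimeCore 2 G) < Nat.card G := by
      have h1 := Subgroup.card_eq_card_quotient_mul_card_subgroup (pPrimeCore 2 G)
      have h2 : 1 < Nat.card (pPrimeCore 2 G) := (Subgroup.one_lt_card_iff_ne_bot _).mpr hO
      have h3 : 0 < Nat.card (G ⧸ pPrimeCore 2 G) := Nat.card_pos
      nlinarith
    have hwcq := hwc.quotient hk (pPrimeCore 2 G)
    have h1 := hIH (G ⧸ pPrimeCore 2 G) hlt _ (hquot_order _) hwcq
      (QuotientGroup.mk' (pPrimeCore 2 G) g)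
    rw [pPrimeCore_quotient_eq_bot, Subgroup.mem_bot] at h1
    rw [← QuotientGroup.ker_mk' (pPrimeCore 2 G), MonoidHom.mem_ker]
    simpa using h1

/-- **`Z*`-theorem for `2`-elements of arbitrary order**: a `2`-element `a` of a Sylow
`2`-subgroup `P` of `G` whose only `G`-conjugate in `P` is `a` itself is central modulo `O(G)`. -/
theorem zstar_two_element {G : Type u} [Group G] [Finite G] (P : Sylow 2 G) (a : G) (haP : a ∈ P)
    (h : ∀ g : G, g * a * g⁻¹ ∈ P → g * a * g⁻¹ = a) (g : G) :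
    g * a * g⁻¹ * a⁻¹ ∈ pPrimeCore 2 G := by
  have : Fact (Nat.Prime 2) := ⟨Nat.prime_two⟩
  have hk : ∃ k : ℕ, orderOf a = 2 ^ k := by
    obtain ⟨k, hk⟩ := (IsPGroup.iff_orderOf.mp P.2) ⟨a, haP⟩
    exact ⟨k, by rw [← hk, Subgroup.orderOf_mk]⟩
  exact zstar_wc_aux _ G rfl a hk (wc_of_sylow P a h) g

end main

end Cfsg.Agent.Lib.Helper91.ZStarTwoElem
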