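import Mathlib
import Cfsg.Agent.Lib.Helper91.ZStarTwoElem
import Cfsg.Agent.Lib.Helper90.WreathedInvCent2
import Cfsg.Agent.Lib.Helper20.QD

set_option autoImplicit false

/-!
Groups with quasi-dihedral or wreathed Sylow `2`-subgroups and an isolated involution:
`O(X) Z(S)` is normal.
-/

namespace Cfsg.Agent.Lib.Helper91.QDWrIsolated

open Cfsg Subgroup Cfsg.Agent.Lib.Helper30 Cfsg.Agent.Lib.Helper90 Cfsg.Agent.Lib.Helper20
open Cfsg.Agent.Lib.Helper91.ZStarTwoElem

/-- Normality of `O ⊔ Z` from centrality of `Z` modulo the normal subgroup `O`. -/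
theorem sup_normal_of_comm {X : Type*} [Group X] (O Z : Subgroup X) [hO : O.Normal]
    (key : ∀ c ∈ Z, ∀ g : X, g * c * g⁻¹ * c⁻¹ ∈ O) : (O ⊔ Z).Normal := by
  refine ⟨fun n hn g => ?_⟩
  have hle : (O ⊔ Z).map (MulAut.conj g).toMonoidHom ≤ O ⊔ Z := by
    rw [Subgroup.map_sup]
    apply sup_le
    · rintro _ ⟨a, ha, rfl⟩
      exact Subgroup.mem_sup_left (by simpa using hO.conj_mem a ha g)
    · rintro _ ⟨c, hc, rfl⟩
      have h1 := key c hc g
      have : (MulAut.conj g).toMonoidHom c = (g * c * g⁻¹ * c⁻¹) * c := by simp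
      rw [this]
      exact Subgroup.mul_mem _ (Subgroup.mem_sup_left h1) (Subgroup.mem_sup_right hc)
  have := hle ⟨n, hn, rfl⟩
  simpa using this

/-- An isolated involution is central in every `2`-subgroup containing it. -/
theorem isolated_comm {X : Type*} [Group X] {z : X} (hz : IsIsolatedInvolution z)
    (T : Subgroup X) (hT : IsPGroup 2 T) (hzT : z ∈ T) (s : X) (hs : s ∈ T) : s * z = z * s := by
  have h1 := isolated_eq_of_mem_two_group hz T hT hzT s (T.mul_mem (T.mul_mem hs hzT) (T.inv_mem hs))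
  have := congrArg (fun t => t * s) h1
  simpa [mul_assoc] using this

/-- `g z g⁻¹ z⁻¹ ∈ O(X)` for an isolated involution. -/
theorem isolated_key {X : Type*} [Group X] [Finite X] {z : X} (hz : IsIsolatedInvolution z) (g : X) :
    g * z * g⁻¹ * z⁻¹ ∈ pPrimeCore 2 X := by
  have h1 := zstar_main hz g⁻¹
  have hn : (pPrimeCore 2 X).Normal := inferInstance
  have h2 := hn.conj_mem _ h1 g
  have e : g * (z * g⁻¹ * z⁻¹ * g⁻¹⁻¹) * g⁻¹ = g * z * g⁻¹ * z⁻¹ := by group
  rwa [e] at h2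

/-- The centre of a quasi-dihedral group has order two. -/
theorem QD_center_cases {S : Type*} [Group S] {q : ℕ} {x y : S} (h : QD S q x y) (c : S)
    (hc : c ∈ center S) : c = 1 ∨ c = x ^ (4 * q : ℤ) := by
  have hq := h.qpos
  rw [Subgroup.mem_center_iff] at hc
  rcases h.cases c with ⟨i, rfl⟩ | ⟨i, rfl⟩
  · have h1 : y * x ^ i * y⁻¹ = x ^ i := by
      rw [hc y, mul_assoc, mul_inv_cancel, mul_one]
    rw [h.conj_zpow, h.zpow_eq_iff] at h1
    have h2 : (4 * (q : ℤ)) ∣ (2 * q - 1) * i := by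
      obtain ⟨m, hm⟩ := h1
      refine ⟨m, ?_⟩
      have : 2 * ((2 * (q : ℤ) - 1) * i) = 2 * (4 * q * m) := by linarith
      exact mul_left_cancel₀ (by norm_num) this
    have hcop : IsCoprime (4 * (q : ℤ)) (2 * q - 1) := ⟨q, -(2 * q + 1), by ring⟩
    obtain ⟨m, hm⟩ := hcop.dvd_of_dvd_mul_left h2
    rcases Int.emod_two_eq_zero_or_one m with hm2 | hm2
    · left
      rw [h.zpow_eq_one_iff]
      obtain ⟨m', rfl⟩ : (2 : ℤ) ∣ m := Int.dvd_of_emod_eq_zero hm2
      exact ⟨m', by rw [hm]; ring⟩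
    · right
      rw [h.zpow_eq_iff]
      have : (2 : ℤ) ∣ m - 1 := by omega
      obtain ⟨m', hm'⟩ := this
      refine ⟨m', ?_⟩
      have : m = 2 * m' + 1 := by omega
      rw [hm, this]; ring
  · exfalso
    have h1 : x ^ (1 : ℤ) * (x ^ i * y) * (x ^ (1 : ℤ))⁻¹ = x ^ i * y := by
      rw [zpow_one, hc x, mul_assoc, mul_inv_cancel, mul_one]
    rw [h.conj_x_xy] at h1
    have h2 := mul_right_cancel h1
    rw [h.zpow_eq_iff] at h2
    have h3 : (8 * (q : ℤ)) ∣ 4 * q - 2 := by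
      obtain ⟨m, hm⟩ := h2
      exact ⟨-m, by linarith⟩
    have := Int.le_of_dvd (by linarith) h3
    linarith

section qd

variable {X : Type*} [Group X] [Finite X]

theorem qd_key (S : Sylow 2 X) (hS : Cfsg.IsQuasiDihedral (S : Subgroup X)) (z : X) (hzS : z ∈ S)
    (hz : Cfsg.IsIsolatedInvolution z) :
    ∀ c ∈ (Subgroup.center (S : Subgroup X)).map (S : Subgroup X).subtype, ∀ g : X,
      g * c * g⁻¹ * c⁻¹ ∈ pPrimeCore 2 X := by
  obtain ⟨k, x, y, hQD, -⟩ := exists_QD_of_isQuasiDihedral hS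
  have hzc : (⟨z, hzS⟩ : ↥(S : Subgroup X)) ∈ center ↥(S : Subgroup X) := by
    rw [Subgroup.mem_center_iff]
    intro s
    exact Subtype.ext (isolated_comm hz S S.2 hzS s s.2)
  have hz1 : (⟨z, hzS⟩ : ↥(S : Subgroup X)) ≠ 1 := by
    intro he
    have : z = 1 := congrArg Subtype.val he
    exact invol_ne_one hz.1 this
  have hzx : (⟨z, hzS⟩ : ↥(S : Subgroup X)) = x ^ (4 * (2 ^ k : ℕ) : ℤ) := by
    rcases QD_center_cases hQD _ hzc with h1 | h1
    · exact absurd h1 hz1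
    · exact h1
  rintro _ ⟨c, hc, rfl⟩ g
  rcases QD_center_cases hQD c hc with h1 | h1
  · rw [h1]; simp
  · rw [h1, ← hzx]
    exact isolated_key hz g

end qd

section wreathed

variable {G : Type*} [Group G] [Finite G] {S : Sylow 2 G} {n : ℕ} {x y w : ↥(S : Subgroup G)}

/-- If `S` contains an isolated involution then `|N_G(U) : C_G(U)| = 2`. -/
theorem relIndex_map_B_of_isolated (h : WrData ↥(S : Subgroup G) n x y w) (z : G) (hzS : z ∈ S)
    (hz : Cfsg.IsIsolatedInvolution z) :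
    (centralizer ((h.B.map (S : Subgroup G).subtype : Subgroup G) : Set G)).relIndex
      (normalizer ((h.B.map (S : Subgroup G).subtype : Subgroup G) : Set G)) = 2 := by
  -- `z` is the central involution of `S`
  obtain ⟨e, he⟩ : ∃ e : G,
    e = ((h.b ((2 : ℤ) ^ (n - 1)) ((2 : ℤ) ^ (n - 1)) : ↥(S : Subgroup G)) : G) := ⟨_, rfl⟩
  have hze : z = e := by
    have hzc : (⟨z, hzS⟩ : ↥(S : Subgroup G)) ∈ center ↥(S : Subgroup G) := by
      rw [Subgroup.mem_center_iff]
      intro s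
      exact Subtype.ext (isolated_comm hz S S.2 hzS s s.2)
    rw [h.center_eq_zpowers] at hzc
    obtain ⟨i, hi⟩ := Subgroup.mem_zpowers_iff.mp hzc
    rw [h.xy_zpow] at hi
    have h1 : h.b i i * h.b i i = 1 := by
      rw [hi]
      exact Subtype.ext (invol_mul_self hz.1)
    have h2 : h.b i i ≠ 1 := by
      rw [hi]
      intro hh
      exact invol_ne_one hz.1 (congrArg Subtype.val hh)
    have h3 := h.center_inv_unique i h1 h2
    rw [he, ← h3, hi]
  obtain ⟨U, hU⟩ : ∃ U : Subgroup G, U = h.B.map (S : Subgroup G).subtype := ⟨_, rfl⟩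
  have hUS : U ≤ (S : Subgroup G) := by rw [hU]; exact map_subtype_le _
  have hUcomm : ∀ a ∈ U, ∀ b ∈ U, a * b = b * a := by
    intro a ha b hb
    rw [hU] at ha hb
    obtain ⟨a₀, ha₀, rfl⟩ := ha
    obtain ⟨b₀, hb₀, rfl⟩ := hb
    have := congrArg (fun s : ↥(S : Subgroup G) => (s : G)) (h.B_comm a₀ b₀ ha₀ hb₀)
    simpa using this
  have hUab : IsMulCommutative ↥U :=
    ⟨⟨fun a b => Subtype.ext (hUcomm a a.2 b b.2)⟩⟩
  have hUcard : Nat.card U = 2 ^ (2 * n) := by
    rw [hU, ← Nat.card_congr (h.B.equivMapOfInjective (S : Subgroup G).subtype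
      (subtype_injective _)).toEquiv, h.card_B]
  rw [← hU]
  rcases h.relIndex_U U hUS hUab hUcard with h2 | h6
  · exact h2
  · exfalso
    have h3U' := ThreeInv.of_equiv
      (h.B.equivMapOfInjective (S : Subgroup G).subtype (Subgroup.subtype_injective _)).symm
      h.threeInv_B
    obtain ⟨tU, uU, h3U⟩ : ∃ tU uU : ↥U, ThreeInv ↥U tU uU := by
      subst hU
      exact ⟨_, _, h3U'⟩
    obtain ⟨g, hgne, hg3⟩ := exists_aut_order_three U (by rw [h6]; norm_num)
    obtain ⟨t₁, ht₁⟩ : ∃ t₁ : G, t₁ = ((h.b ((2 : ℤ) ^ (n - 1)) 0 : ↥(S : Subgroup G)) : G) :=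
      ⟨_, rfl⟩
    have ht₁U : t₁ ∈ U := by rw [hU]; exact ⟨_, h.b_mem_B _ _, ht₁.symm⟩
    have heU : e ∈ U := by rw [hU]; exact ⟨_, h.b_mem_B _ _, he.symm⟩
    have ot₁ : orderOf t₁ = 2 := by
      rw [ht₁, Subgroup.orderOf_coe, orderOf_two_iff']
      exact ⟨h.b_half_zero_ne_one, h.half_sq _ _ (dvd_refl _) (dvd_zero _)⟩
    have oe : orderOf e = 2 := by
      rw [he, Subgroup.orderOf_coe]; exact h.orderOf_e
    obtain ⟨k₁, _, hk₁⟩ := h3U.exists_conj g hgne hg3 e t₁ heU ht₁U oe ot₁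
    rw [← hze] at hk₁
    have hcomm : Commute z (k₁ * z * k₁⁻¹) := by
      rw [hk₁]
      exact hUcomm z (hze ▸ heU) t₁ ht₁U
    have h1 : t₁ = e := by
      rw [← hk₁, hz.2 k₁ hcomm, hze]
    have h2 : h.b ((2 : ℤ) ^ (n - 1)) 0 = h.b ((2 : ℤ) ^ (n - 1)) ((2 : ℤ) ^ (n - 1)) :=
      Subtype.ext (by rw [← ht₁, ← he]; exact h1)
    rw [h.b_eq_b_iff] at h2
    have := h2.2
    rw [zero_sub, dvd_neg] at this
    exact h.not_dvd_half this

theorem wreathed_key (S : Sylow 2 G) (hS : Cfsg.IsWreathed (S : Subgroup G)) (z : G) (hzS : z ∈ S)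
    (hz : Cfsg.IsIsolatedInvolution z) :
    ∀ c ∈ (Subgroup.center (S : Subgroup G)).map (S : Subgroup G).subtype, ∀ g : G,
      g * c * g⁻¹ * c⁻¹ ∈ pPrimeCore 2 G := by
  obtain ⟨n, x, y, w, h⟩ := exists_wrData hS
  have hU := relIndex_map_B_of_isolated h z hzS hz
  intro c hc g
  apply zstar_two_element S c (map_subtype_le _ hc)
  intro g' hg'
  have := h.conj_center_eq_of_mem ⟨1, by rw [hU, pow_one]⟩ c hc g'⁻¹ (by rw [inv_inv]; exact hg')
  simpa using this

end wreathed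

/-- Quasi-dihedral or wreathed Sylow `2`-subgroup with an isolated involution: `O(X) Z(S) ⊴ X`. -/
theorem main {X : Type*} [Group X] [Finite X] (S : Sylow 2 X)
    (hS : Cfsg.IsQuasiDihedral (S : Subgroup X) ∨ Cfsg.IsWreathed (S : Subgroup X)) (z : X)
    (hzS : z ∈ S) (hz : Cfsg.IsIsolatedInvolution z) :
    (Cfsg.oddCore X ⊔ (Subgroup.center (S : Subgroup X)).map (S : Subgroup X).subtype).Normal := by
  have hn : (pPrimeCore 2 X).Normal := inferInstance
  apply sup_normal_of_comm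
  rcases hS with hS | hS
  · exact qd_key S hS z hzS hz
  · exact wreathed_key S hS z hzS hz

end Cfsg.Agent.Lib.Helper91.QDWrIsolated
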