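import Mathlib
import Cfsg.Prelude.Def_Local
import Cfsg.Agent.Lib.Helper91.Components
import Cfsg.Agent.Lib.Helper91.WielandtCriterion

set_option autoImplicit false

namespace Cfsg.Agent.Lib.Helper91

open Cfsg

universe u

section standard
open scoped Pointwise

variable {G : Type u} [Group G]

theorem conj_smul_centralizer (g : G) (s : Set G) :
    MulAut.conj g • Subgroup.centralizer s = Subgroup.centralizer (MulAut.conj g • s) := by
  ext z
  rw [Subgroup.mem_pointwise_smul_iff_inv_smul_mem, Subgroup.mem_centralizer_iff,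
    Subgroup.mem_centralizer_iff]
  constructor
  · rintro h w ⟨v, hv, rfl⟩
    have := congrArg (fun t => MulAut.conj g • t) (h v hv)
    simpa only [smul_mul', smul_inv_smul] using this
  · intro h v hv
    have := h (MulAut.conj g • v) (Set.smul_mem_smul_set hv)
    have := congrArg (fun t => (MulAut.conj g)⁻¹ • t) this
    simpa only [smul_mul', inv_smul_smul] using this

theorem conj_smul_centralizer_singleton (g y : G) :
    MulAut.conj g • Subgroup.centralizer ({y} : Set G) =
      Subgroup.centralizer ({MulAut.conj g • y} : Set G) := by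
  rw [conj_smul_centralizer, Set.smul_set_singleton]

theorem conj_smul_centralizer_subgroup (g : G) (L : Subgroup G) :
    MulAut.conj g • Subgroup.centralizer (L : Set G) =
      Subgroup.centralizer ((MulAut.conj g • L : Subgroup G) : Set G) := by
  rw [conj_smul_centralizer, Subgroup.coe_pointwise_smul]

theorem isComponent_subgroupOf_conj {L C : Subgroup G} (g : G) (hLC : L ≤ C)
    (h : IsComponent (L.subgroupOf C)) :
    IsComponent ((MulAut.conj g • L).subgroupOf (MulAut.conj g • C)) := by
  refine ⟨isSubnormal_subgroupOf_conj g h.1, ?_⟩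
  have hLC' : MulAut.conj g • L ≤ MulAut.conj g • C :=
    Subgroup.pointwise_smul_le_pointwise_smul_iff.mpr hLC
  have e1 : ↥(L.subgroupOf C) ≃* L := Subgroup.subgroupOfEquivOfLe hLC
  have e2 : L ≃* ↥(MulAut.conj g • L) := Subgroup.equivSMul (MulAut.conj g) L
  have e3 : ↥((MulAut.conj g • L).subgroupOf (MulAut.conj g • C)) ≃* ↥(MulAut.conj g • L) :=
    Subgroup.subgroupOfEquivOfLe hLC'
  exact isQuasisimple_of_mulEquiv ((e1.trans e2).trans e3.symm) h.2

/-- transport of "component of the centralizer of an element" under conjugation -/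
theorem isComponent_centralizer_conj {L : Subgroup G} (g y : G)
    (hLy : L ≤ Subgroup.centralizer ({y} : Set G))
    (h : IsComponent (L.subgroupOf (Subgroup.centralizer ({y} : Set G)))) :
    MulAut.conj g • L ≤ Subgroup.centralizer ({MulAut.conj g • y} : Set G) ∧
      IsComponent ((MulAut.conj g • L).subgroupOf
        (Subgroup.centralizer ({MulAut.conj g • y} : Set G))) := by
  rw [← conj_smul_centralizer_singleton]
  exact ⟨Subgroup.pointwise_smul_le_pointwise_smul_iff.mpr hLy, isComponent_subgroupOf_conj g hLy h⟩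

theorem commutator_eq_bot_of_components_subgroupOf [Finite G] {L1 L2 C : Subgroup G} (h1 : L1 ≤ C)
    (h2 : L2 ≤ C) (hc1 : IsComponent (L1.subgroupOf C)) (hc2 : IsComponent (L2.subgroupOf C))
    (hne : L1 ≠ L2) : ⁅L1, L2⁆ = ⊥ := by
  have hne' : L1.subgroupOf C ≠ L2.subgroupOf C := by
    intro h
    apply hne
    have := congrArg (Subgroup.map C.subtype) h
    rwa [Subgroup.map_subgroupOf_eq_of_le h1, Subgroup.map_subgroupOf_eq_of_le h2] at this
  have hcomm := component_commute_of_ne hc1 hc2 hne'
  rw [Subgroup.commutator_eq_bot_iff_le_centralizer]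
  intro l hl
  rw [Subgroup.mem_centralizer_iff]
  intro l' hl'
  have := hcomm ⟨l, h1 hl⟩ (Subgroup.mem_subgroupOf.mpr hl) ⟨l', h2 hl'⟩
    (Subgroup.mem_subgroupOf.mpr hl')
  exact (congrArg Subtype.val this).symm

theorem normalizer_le_normalizer_centralizer (L : Subgroup G) :
    Subgroup.normalizer (L : Set G) ≤
      Subgroup.normalizer ((Subgroup.centralizer (L : Set G) : Subgroup G) : Set G) := by
  intro g hg
  rw [mem_normalizer_iff_conj_smul_eq] at hg ⊢
  rw [conj_smul_centralizer_subgroup, hg]

/-- A component of an involution centralizer that is a component of `C_G(y)` for all involutions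
`y ∈ C_G(L)` and does not commute with any other conjugate is standard. -/
theorem isStandardSubgroup_of_nonembedded [Finite G] (x : G) (hx : orderOf x = 2) (L : Subgroup G)
    (hLx : L ≤ Subgroup.centralizer ({x} : Set G))
    (hL : IsComponent (L.subgroupOf (Subgroup.centralizer ({x} : Set G))))
    (hne : ∀ y : G, orderOf y = 2 → y ∈ Subgroup.centralizer (L : Set G) →
      L ≤ Subgroup.centralizer ({y} : Set G) ∧
        IsComponent (L.subgroupOf (Subgroup.centralizer ({y} : Set G))))
    (hnc : ∀ g : G, L.map (MulAut.conj g).toMonoidHom ≠ L →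
      ⁅L, L.map (MulAut.conj g).toMonoidHom⁆ ≠ ⊥) : IsStandardSubgroup L := by
  have hnc' : ∀ g : G, MulAut.conj g • L ≠ L → ⁅L, MulAut.conj g • L⁆ ≠ ⊥ := hnc
  set K : Subgroup G := Subgroup.centralizer (L : Set G) with hK
  have hxK : x ∈ K := by
    rw [hK, Subgroup.mem_centralizer_iff]
    intro l hl
    have := hLx hl
    rw [Subgroup.mem_centralizer_singleton_iff] at this
    exact this
  -- key claim
  have hkey : ∀ g y : G, orderOf y = 2 → y ∈ K →
      MulAut.conj g • L ≤ Subgroup.centralizer ({y} : Set G) →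
      IsComponent ((MulAut.conj g • L).subgroupOf (Subgroup.centralizer ({y} : Set G))) →
      MulAut.conj g • L = L := by
    intro g y hy hyK hgLy hgcomp
    by_contra hne'
    obtain ⟨hLy, hcomp⟩ := hne y hy hyK
    exact hnc' g hne'
      (commutator_eq_bot_of_components_subgroupOf hLy hgLy hcomp hgcomp (Ne.symm hne'))
  have hord : ∀ (g : G) (y : G), orderOf (MulAut.conj g • y) = orderOf y := fun g y =>
    MulEquiv.orderOf_eq (MulAut.conj g) y
  refine ⟨isQuasisimple_of_mulEquiv (Subgroup.subgroupOfEquivOfLe hLx) hL.2, ⟨?_, ?_⟩, hnc, ?_⟩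
  · -- even order
    have h2 : orderOf (⟨x, hxK⟩ : K) = 2 := by rw [Subgroup.orderOf_mk, hx]
    have := orderOf_dvd_natCard (⟨x, hxK⟩ : K)
    rw [h2] at this
    exact (even_iff_two_dvd).mpr this
  · intro g hg
    show Odd (Nat.card ↥(K ⊓ MulAut.conj g • K))
    by_contra hodd
    rw [Nat.not_odd_iff_even, even_iff_two_dvd] at hodd
    have : Fact (Nat.Prime 2) := ⟨Nat.prime_two⟩
    obtain ⟨⟨y, hy⟩, hyo⟩ := exists_prime_orderOf_dvd_card' 2 hodd
    rw [Subgroup.orderOf_mk] at hyo
    obtain ⟨hy1, hy2⟩ := Subgroup.mem_inf.mp hy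
    rw [Subgroup.mem_pointwise_smul_iff_inv_smul_mem] at hy2
    have hy'o : orderOf ((MulAut.conj g)⁻¹ • y) = 2 := by
      rw [← hyo]; exact MulEquiv.orderOf_eq ((MulAut.conj g)⁻¹) y
    obtain ⟨hLy', hcomp'⟩ := hne _ hy'o hy2
    obtain ⟨h1, h2⟩ := isComponent_centralizer_conj g _ hLy' hcomp'
    rw [smul_inv_smul] at h1 h2
    have hgL := hkey g y hyo hy1 h1 h2
    apply hg
    exact normalizer_le_normalizer_centralizer L (mem_normalizer_iff_conj_smul_eq.mpr hgL)
  · apply le_antisymm (normalizer_le_normalizer_centralizer L)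
    intro g hg
    rw [mem_normalizer_iff_conj_smul_eq] at hg ⊢
    have hgx : MulAut.conj g • x ∈ K := by
      have h3 : MulAut.conj g • x ∈ MulAut.conj g • K := Subgroup.smul_mem_pointwise_smul _ _ _ hxK
      rwa [hg] at h3
    obtain ⟨h1, h2⟩ := isComponent_centralizer_conj g x hLx hL
    exact hkey g _ ((hord g x).trans hx) hgx h1 h2

end standard

end Cfsg.Agent.Lib.Helper91
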