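import Mathlib

/-!
# U3 hive (S2283) — auxiliary finite-field lemmas for leaf U3-LINE3 (helper91, Mathlib only).

`F` a field of order `q ^ 2`, conjugation `x ↦ x ^ q`, trace `x + x ^ q`, norm `x ^ (q + 1)`.
-/

set_option autoImplicit false

namespace Cfsg.Agent.Lib.Helper23.U3

variable {F : Type*} [Field F] [Fintype F] {q : ℕ}

/-- `x ↦ x ^ q` is a ring homomorphism of a field of order `q ^ 2`. -/
theorem u3l3a_powHom (hF : Fintype.card F = q ^ 2) : ∃ φ : F →+* F, ∀ a, φ a = a ^ q := by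
  obtain ⟨p, hchar, n, hp, hcard⟩ := FiniteField.card' F
  have hq : q ∣ p ^ (n : ℕ) := by
    rw [← hcard, hF]
    exact Dvd.intro_left (q ^ 1) (by ring)
  obtain ⟨j, _, rfl⟩ := (Nat.dvd_prime_pow hp).mp hq
  have : Fact p.Prime := ⟨hp⟩
  have : ExpChar F p := ExpChar.prime hp
  exact ⟨iterateFrobenius F p j, fun a => iterateFrobenius_def p j a⟩

theorem u3l3a_pow_pow (hF : Fintype.card F = q ^ 2) (a : F) : (a ^ q) ^ q = a := by
  rw [← pow_mul, ← sq, ← hF, FiniteField.pow_card]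

theorem u3l3a_add_pow (hF : Fintype.card F = q ^ 2) (a b : F) : (a + b) ^ q = a ^ q + b ^ q := by
  obtain ⟨φ, hφ⟩ := u3l3a_powHom hF
  rw [← hφ, ← hφ, ← hφ, map_add]

theorem u3l3a_sub_pow (hF : Fintype.card F = q ^ 2) (a b : F) : (a - b) ^ q = a ^ q - b ^ q := by
  obtain ⟨φ, hφ⟩ := u3l3a_powHom hF
  rw [← hφ, ← hφ, ← hφ, map_sub]

theorem u3l3a_neg_pow (hF : Fintype.card F = q ^ 2) (a : F) : (-a) ^ q = -a ^ q := by
  obtain ⟨φ, hφ⟩ := u3l3a_powHom hF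
  rw [← hφ, ← hφ, map_neg]

/-- LINE3 step (iii): every `g ∉ F_q` is `(d / d') ^ q` with `tr d = tr d' = 1`
(`d' = (g - 1) / (g - g ^ q)`, `d = g ^ q * d'`). -/
theorem u3l3a_gamma (hF : Fintype.card F = q ^ 2) (g : F) (hg : g ^ q ≠ g) :
    ∃ d d' : F, d + d ^ q = 1 ∧ d' + d' ^ q = 1 ∧ d ≠ 0 ∧ d' ≠ 0 ∧ g = (d / d') ^ q := by
  have hgg : g - g ^ q ≠ 0 := fun h => hg (sub_eq_zero.mp h).symm
  have hgg' : g ^ q - g ≠ 0 := fun h => hg (sub_eq_zero.mp h)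
  have hq0 : q ≠ 0 := by
    rintro rfl
    have hpos := Fintype.card_pos (α := F)
    rw [hF] at hpos
    simp at hpos
  have hg1 : g - 1 ≠ 0 := by
    intro h
    have : g = 1 := sub_eq_zero.mp h
    rw [this, one_pow] at hg
    exact hg rfl
  have hg0 : g ≠ 0 := by
    rintro rfl
    rw [zero_pow hq0] at hg
    exact hg rfl
  have hgq0 : g ^ q ≠ 0 := pow_ne_zero _ hg0
  have hd' : (g - 1) / (g - g ^ q) ≠ 0 := div_ne_zero hg1 hgg
  refine ⟨g ^ q * ((g - 1) / (g - g ^ q)), (g - 1) / (g - g ^ q), ?_, ?_, mul_ne_zero hgq0 hd', hd', ?_⟩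
  · rw [mul_pow, div_pow, u3l3a_sub_pow hF, u3l3a_sub_pow hF, u3l3a_pow_pow hF, one_pow]
    field_simp
    ring
  · rw [div_pow, u3l3a_sub_pow hF, u3l3a_sub_pow hF, u3l3a_pow_pow hF, one_pow]
    field_simp
    ring
  · rw [mul_div_assoc, div_self hd', mul_one, u3l3a_pow_pow hF]

/-- trace and norm land in the fixed field -/
theorem u3l3a_tr_pow (hF : Fintype.card F = q ^ 2) (a : F) : (a + a ^ q) ^ q = a + a ^ q := by
  rw [u3l3a_add_pow hF, u3l3a_pow_pow hF, add_comm]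

theorem u3l3a_norm_pow (hF : Fintype.card F = q ^ 2) (a : F) : (a * a ^ q) ^ q = a * a ^ q := by
  rw [mul_pow, u3l3a_pow_pow hF, mul_comm]

/-- LINE3 step (iii), the isotropy equation: if `tr d = tr d' = t` and `N a0 = -t` (so `t = -N(a0)`) and
`g = (d / d') ^ q`, then `g d + (g d)^q + N(g) N(a0) = 0`. -/
theorem u3l3a_isotropy (hF : Fintype.card F = q ^ 2) (d d' a0 t : F) (hd : d + d ^ q = t)
    (hd' : d' + d' ^ q = t) (hd0 : d' ≠ 0) (ha : a0 * a0 ^ q = -t) :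
    let g := (d / d') ^ q
    g * d + (g * d) ^ q + (g * g ^ q) * (a0 * a0 ^ q) = 0 := by
  intro g
  have hd0q : d' ^ q ≠ 0 := pow_ne_zero _ hd0
  have hgq : g ^ q = d / d' := u3l3a_pow_pow hF _
  have hg : g = d ^ q / d' ^ q := div_pow _ _ _
  rw [mul_pow, hgq, ha, hg]
  have h1 : d ^ q = t - d := by rw [← hd]; ring
  have h2 : d' ^ q = t - d' := by rw [← hd']; ring
  rw [h2] at hd0q
  rw [h1, h2]
  field_simp
  ring

end Cfsg.Agent.Lib.Helper23.U3
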