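import Mathlib
import Cfsg.Agent.Lib.Helper91.U3L3A

/-!
# U3 hive (S2283) — the coordinate core of leaf U3-LINE3 (helper91, Mathlib only).

In the coordinates of a hyperbolic frame `e, ε, f` (`h(e,f) = 1`, `h(ε,ε) = 1`) the Hermitian form is
`B x y = x₀ ȳ₂ + x₁ ȳ₁ + x₂ ȳ₀`.  A set `Q` of coordinate vectors closed under scalars and under
"isotropic points of the line through two non-orthogonal members", containing `e = (1,0,0)`,
`f = (0,0,1)` and some `(b₀, a₀, 1)` with `a₀ ≠ 0`, contains every isotropic vector.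
-/

set_option autoImplicit false

namespace Cfsg.Agent.Lib.Helper23.U3

variable {F : Type*} [Field F] [Fintype F] {q : ℕ}

/-- the Hermitian form in hyperbolic-frame coordinates -/
def u3l3b_B (q : ℕ) (x y : Fin 3 → F) : F := x 0 * y 2 ^ q + x 1 * y 1 ^ q + x 2 * y 0 ^ q

theorem u3l3b_q_ne_zero (hF : Fintype.card F = q ^ 2) : q ≠ 0 := by
  rintro rfl
  have hpos := Fintype.card_pos (α := F)
  rw [hF] at hpos
  simp at hpos

theorem u3l3b_exists_ne (hF : Fintype.card F = q ^ 2) : ∃ a : F, a ^ q ≠ a := by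
  classical
  by_contra hcon
  push Not at hcon
  have hq0 := u3l3b_q_ne_zero hF
  have hq2 : 2 ≤ q := by
    have h1 : 1 < Fintype.card F := Fintype.one_lt_card
    rw [hF] at h1
    by_contra hlt
    have : q = 1 := by omega
    rw [this] at h1
    simp at h1
  obtain ⟨g, hg⟩ := IsCyclic.exists_generator (α := Fˣ)
  have hord : orderOf g = Fintype.card Fˣ := by
    rw [orderOf_eq_card_of_forall_mem_zpowers hg, Nat.card_eq_fintype_card]
  rw [Fintype.card_units, hF] at hord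
  have h1 : g ^ (q - 1) = 1 := by
    apply Units.ext
    rw [Units.val_pow_eq_pow_val, Units.val_one]
    have h2 := hcon (g : F)
    have h3 : (g : F) ^ (q - 1) * (g : F) = (g : F) := by
      rw [← pow_succ, Nat.sub_add_cancel (by omega)]
      exact h2
    have hg0 : (g : F) ≠ 0 := g.ne_zero
    exact mul_right_cancel₀ hg0 (by rw [h3, one_mul])
  have hdvd := orderOf_dvd_of_pow_eq_one h1
  rw [hord] at hdvd
  have hle := Nat.le_of_dvd (by omega) hdvd
  have h4 : 2 * q ≤ q ^ 2 := by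
    rw [sq]
    exact Nat.mul_le_mul_right q hq2
  generalize q ^ 2 = m at hle h4
  omega

/-- the isotropy equation, `g` explicit -/
theorem u3l3b_isotropy (hF : Fintype.card F = q ^ 2) (d d' a0 t g : F) (hd : d + d ^ q = t)
    (hd' : d' + d' ^ q = t) (hd0 : d' ≠ 0) (ha : a0 * a0 ^ q = -t) (hg : g = (d / d') ^ q) :
    g * d + (g * d) ^ q + (g * a0) * (g * a0) ^ q = 0 := by
  have h := u3l3a_isotropy hF d d' a0 t hd hd' hd0 ha
  simp only at h
  rw [← hg] at h
  rw [mul_pow g a0]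
  linear_combination h

theorem u3l3b_core (hF : Fintype.card F = q ^ 2) (Q : Set (Fin 3 → F))
    (hsm : ∀ x ∈ Q, ∀ l : F, l • x ∈ Q)
    (hln : ∀ x ∈ Q, ∀ y ∈ Q, u3l3b_B q x y ≠ 0 → ∀ α β : F,
      u3l3b_B q (α • x + β • y) (α • x + β • y) = 0 → α • x + β • y ∈ Q)
    (he : ![1, 0, 0] ∈ Q) (hf : ![0, 0, 1] ∈ Q) (a0 b0 : F) (ha0 : a0 ≠ 0)
    (hw : ![b0, a0, 1] ∈ Q) :
    ∀ x : Fin 3 → F, u3l3b_B q x x = 0 → x ∈ Q := by
  have hq0 := u3l3b_q_ne_zero hF
  -- (ii) all isotropic points with the same middle coordinate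
  have h2 : ∀ b a : F, ![b, a, 1] ∈ Q → ∀ b' : F, b' + b' ^ q + a * a ^ q = 0 →
      ![b', a, 1] ∈ Q := by
    intro b a hR b' hb'
    have hB : u3l3b_B q ![1, 0, 0] ![b, a, 1] ≠ 0 := by simp [u3l3b_B]
    have hcomb : (b' - b) • ![(1 : F), 0, 0] + (1 : F) • ![b, a, 1] = ![b', a, 1] := by
      ext i; fin_cases i <;> simp
    have h := hln _ he _ hR hB (b' - b) 1 (by
      rw [hcomb]
      simp only [u3l3b_B, Matrix.cons_val_zero, Matrix.cons_val_one, Matrix.cons_val_two,
        Matrix.head_cons, Matrix.tail_cons, one_pow, mul_one, one_mul]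
      linear_combination hb')
    rwa [hcomb] at h
  -- (iii) multiplying the middle coordinate by `g ∉ F_q`
  have h3 : ∀ b a : F, ![b, a, 1] ∈ Q → a ≠ 0 → ∀ g : F, g ^ q ≠ g →
      ∃ b' : F, ![b', g * a, 1] ∈ Q := by
    intro b a hR ha g hg
    obtain ⟨δ, δ', hδ, hδ', hδ0, hδ'0, hgd⟩ := u3l3a_gamma hF g hg
    have hτq : (-(a * a ^ q)) ^ q = -(a * a ^ q) := by
      rw [u3l3a_neg_pow hF, u3l3a_norm_pow hF]
    have hτ0 : -(a * a ^ q) ≠ 0 := neg_ne_zero.mpr (mul_ne_zero ha (pow_ne_zero _ ha))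
    have hd : -(a * a ^ q) * δ + (-(a * a ^ q) * δ) ^ q = -(a * a ^ q) := by
      rw [mul_pow, hτq, ← mul_add, hδ, mul_one]
    have hd' : -(a * a ^ q) * δ' + (-(a * a ^ q) * δ') ^ q = -(a * a ^ q) := by
      rw [mul_pow, hτq, ← mul_add, hδ', mul_one]
    have hd0 : -(a * a ^ q) * δ ≠ 0 := mul_ne_zero hτ0 hδ0
    have hd'0 : -(a * a ^ q) * δ' ≠ 0 := mul_ne_zero hτ0 hδ'0
    have hgd' : g = (-(a * a ^ q) * δ / (-(a * a ^ q) * δ')) ^ q := by
      rw [mul_div_mul_left _ _ hτ0]; exact hgd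
    have hR' : ![-(a * a ^ q) * δ, a, 1] ∈ Q :=
      h2 b a hR (-(a * a ^ q) * δ) (by rw [hd]; ring)
    have hiso := u3l3b_isotropy hF _ _ a (-(a * a ^ q)) g hd hd' hd'0 (by ring) hgd'
    have hB : u3l3b_B q ![0, 0, 1] ![-(a * a ^ q) * δ, a, 1] ≠ 0 := by
      simp only [u3l3b_B, Matrix.cons_val_zero, Matrix.cons_val_one, Matrix.cons_val_two,
        Matrix.head_cons, Matrix.tail_cons, zero_mul, zero_add, one_mul]
      exact pow_ne_zero _ hd0
    have hcomb : (1 - g) • ![(0 : F), 0, 1] + g • ![-(a * a ^ q) * δ, a, 1] =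
        ![g * (-(a * a ^ q) * δ), g * a, 1] := by
      ext i; fin_cases i <;> simp
    have h := hln _ hf _ hR' hB (1 - g) g (by
      rw [hcomb]
      simp only [u3l3b_B, Matrix.cons_val_zero, Matrix.cons_val_one, Matrix.cons_val_two,
        Matrix.head_cons, Matrix.tail_cons, one_pow, mul_one, one_mul]
      linear_combination hiso)
    rw [hcomb] at h
    exact ⟨_, h⟩
  -- (iv) every middle coordinate is reached
  have h4 : ∀ a' : F, ∃ b' : F, ![b', a', 1] ∈ Q := by
    intro a'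
    by_cases ha' : a' = 0
    · subst ha'; exact ⟨0, hf⟩
    · have ht0 : a' / a0 ≠ 0 := div_ne_zero ha' ha0
      have hta : a' / a0 * a0 = a' := div_mul_cancel₀ _ ha0
      by_cases ht : (a' / a0) ^ q = a' / a0
      · obtain ⟨γ1, hγ1⟩ := u3l3b_exists_ne hF
        have hγ10 : γ1 ≠ 0 := by
          rintro rfl
          rw [zero_pow hq0] at hγ1
          exact hγ1 rfl
        obtain ⟨b1, hb1⟩ := h3 b0 a0 hw ha0 γ1 hγ1
        have hg : (a' / a0 / γ1) ^ q ≠ a' / a0 / γ1 := by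
          rw [div_pow (a' / a0), ht]
          intro h
          apply hγ1
          have hγq0 : γ1 ^ q ≠ 0 := pow_ne_zero _ hγ10
          rw [div_eq_div_iff hγq0 hγ10] at h
          exact (mul_left_cancel₀ ht0 h).symm
        obtain ⟨b2, hb2⟩ := h3 b1 (γ1 * a0) hb1 (mul_ne_zero hγ10 ha0) (a' / a0 / γ1) hg
        have hfin : a' / a0 / γ1 * (γ1 * a0) = a' := by
          field_simp
        rw [hfin] at hb2
        exact ⟨b2, hb2⟩
      · obtain ⟨b1, hb1⟩ := h3 b0 a0 hw ha0 (a' / a0) ht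
        rw [hta] at hb1
        exact ⟨b1, hb1⟩
  -- conclusion
  intro x hx
  by_cases hx2 : x 2 = 0
  · have h1 : x 1 * x 1 ^ q = 0 := by
      have := hx
      simp only [u3l3b_B, hx2, zero_pow hq0, mul_zero, zero_mul, zero_add, add_zero] at this
      exact this
    have hx1 : x 1 = 0 := by
      rcases mul_eq_zero.mp h1 with h | h
      · exact h
      · exact pow_eq_zero_iff hq0 |>.mp h
    have hxe : x = x 0 • ![1, 0, 0] := by
      ext i; fin_cases i <;> simp [hx1, hx2]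
    rw [hxe]
    exact hsm _ he _
  · obtain ⟨b', hb'⟩ := h4 (x 1 / x 2)
    have hx2q : x 2 ^ q ≠ 0 := pow_ne_zero _ hx2
    have hy : ![x 0 / x 2, x 1 / x 2, 1] ∈ Q := by
      apply h2 b' _ hb' (x 0 / x 2)
      have := hx
      simp only [u3l3b_B] at this
      rw [div_pow, div_pow]
      field_simp
      linear_combination this
    have hxe : x = x 2 • ![x 0 / x 2, x 1 / x 2, 1] := by
      ext i; fin_cases i <;> simp <;> field_simp
    rw [hxe]
    exact hsm _ hy _

end Cfsg.Agent.Lib.Helper23.U3
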