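import Mathlib
import Cfsg.Agent.Lib.Helper91.WielandtCriterion
import Cfsg.Agent.Lib.Helper91.Matsuyama

set_option autoImplicit false

namespace Cfsg.Agent.Lib.Helper91

universe u

section wielandtSharp
open scoped Pointwise

/-- transport of "A is subnormal in ⟨A, A^v⟩" into a subgroup `V` containing `A` and `v`. -/
theorem isSubnormal_subgroupOf_sup_conj_transport {G : Type u} [Group G] {A V : Subgroup G} (hAV : A ≤ V)
    (v : V) (h1 : (A.subgroupOf (A ⊔ MulAut.conj (v : G) • A)).IsSubnormal) :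
    ((A.subgroupOf V).subgroupOf (A.subgroupOf V ⊔ MulAut.conj v • A.subgroupOf V)).IsSubnormal := by
  have h2 : A ⊔ MulAut.conj (v : G) • A ≤ V := by
    apply sup_le hAV
    have := Subgroup.pointwise_smul_le_pointwise_smul_iff (a := MulAut.conj (v : G)) |>.mpr hAV
    rwa [Subgroup.conj_smul_eq_self_of_mem v.2] at this
  have h3 : A.subgroupOf V ⊔ MulAut.conj v • A.subgroupOf V =
      (A ⊔ MulAut.conj (v : G) • A).subgroupOf V := by
    rw [Subgroup.conj_smul_subgroupOf hAV v]
    have hvA : MulAut.conj (v : G) • A ≤ V := le_sup_right.trans h2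
    exact (Subgroup.subgroupOf_sup hAV hvA).symm
  rw [h3]
  let e : ((A ⊔ MulAut.conj (v : G) • A).subgroupOf V) ≃* (A ⊔ MulAut.conj (v : G) • A : Subgroup G) :=
    Subgroup.subgroupOfEquivOfLe h2
  have h4 := h1.map (f := e.symm.toMonoidHom) e.symm.surjective
  convert h4 using 1
  ext ⟨⟨x, hxV⟩, hx⟩
  simp only [Subgroup.mem_subgroupOf, Subgroup.mem_map]
  constructor
  · intro hxA
    refine ⟨⟨x, Subgroup.mem_subgroupOf.mp hx⟩, hxA, ?_⟩
    apply e.injective
    simp only [MulEquiv.coe_toMonoidHom, MulEquiv.apply_symm_apply]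
    rfl
  · rintro ⟨y, hy, hyx⟩
    have : e (e.symm y) = e ⟨⟨x, hxV⟩, hx⟩ := by rw [← hyx]; rfl
    rw [MulEquiv.apply_symm_apply] at this
    have h5 : (y : G) = x := congrArg Subtype.val this
    rw [← h5]; exact hy

theorem isSubnormal_of_subgroupOf_eq_top {G : Type u} [Group G] {A W : Subgroup G} (hW : W = ⊤)
    (h1 : (A.subgroupOf W).IsSubnormal) : A.IsSubnormal := by
  subst hW
  have := h1.map (f := (Subgroup.topEquiv : (⊤ : Subgroup G) ≃* G).toMonoidHom)
    Subgroup.topEquiv.surjective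
  convert this using 1
  ext x
  simp only [Subgroup.mem_map, Subgroup.mem_subgroupOf]
  constructor
  · intro hx
    exact ⟨⟨x, Subgroup.mem_top x⟩, hx, rfl⟩
  · rintro ⟨y, hy, rfl⟩
    exact hy

/-- Sharpened Wielandt criterion: it suffices to test conjugates of `A` by conjugates of elements of `A`. -/
theorem wielandt_criterion_sharp_aux : ∀ (n : ℕ) (G : Type u) [Group G] [Finite G], Nat.card G = n →
    ∀ A : Subgroup G,
      (∀ a ∈ A, ∀ g : G, (A.subgroupOf (A ⊔ MulAut.conj (g⁻¹ * a * g) • A)).IsSubnormal) →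
      A.IsSubnormal := by
  intro n
  induction n using Nat.strong_induction_on with
  | _ n ih =>
  intro G _ _ hn A h
  by_contra hA
  have hprop : ∀ V : Subgroup G, A ≤ V → V ≠ ⊤ → (A.subgroupOf V).IsSubnormal := by
    intro V hAV hV
    have hc : Nat.card V < n := hn ▸ card_subgroup_lt_of_ne_top' hV
    apply ih _ hc V rfl
    intro a ha v
    exact isSubnormal_subgroupOf_sup_conj_transport hAV (v⁻¹ * a * v)
      (h (a : G) (Subgroup.mem_subgroupOf.mp ha) (v : G))
  obtain ⟨M, hAM, hMtop, hM⟩ := zipper_lemma A hprop hA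
  have hconj : ∀ a ∈ A, ∀ g : G, MulAut.conj (g⁻¹ * a * g) • A ≤ M := by
    intro a ha g
    by_cases hg : A ⊔ MulAut.conj (g⁻¹ * a * g) • A = ⊤
    · exact absurd (isSubnormal_of_subgroupOf_eq_top hg (h a ha g)) hA
    · exact le_sup_right.trans (hM _ le_sup_left hg)
  have hnorm : ∀ a ∈ A, ∀ g : G, g⁻¹ * a * g ∈ Subgroup.normalizer (M : Set G) := by
    intro a ha g
    set c := g⁻¹ * a * g with hc
    have h1 : A ≤ MulAut.conj c⁻¹ • M := by
      rw [map_inv, ← Subgroup.pointwise_smul_subset_iff]; exact hconj a ha g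
    have h2 : MulAut.conj c⁻¹ • M ≠ ⊤ := by
      intro h
      apply hMtop
      have h3 : Nat.card (MulAut.conj c⁻¹ • M : Subgroup G) = Nat.card M := card_conj_smul c⁻¹ M
      rw [h, Subgroup.card_top] at h3
      exact (Subgroup.card_eq_iff_eq_top M).mp h3.symm
    have h3 : c⁻¹ ∈ Subgroup.normalizer (M : Set G) := mem_normalizer_of_conj_smul_le (hM _ h1 h2)
    have := Subgroup.inv_mem _ h3
    rwa [inv_inv] at this
  have hNC : Subgroup.normalClosure (A : Set G) ≤ Subgroup.normalizer (M : Set G) := by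
    unfold Subgroup.normalClosure
    rw [Subgroup.closure_le]
    intro x hx
    rw [Group.mem_conjugatesOfSet_iff] at hx
    obtain ⟨a, ha, hax⟩ := hx
    obtain ⟨g, rfl⟩ := isConj_iff.mp hax
    have := hnorm a ha g⁻¹
    rwa [inv_inv] at this
  by_cases hN : Subgroup.normalizer (M : Set G) = ⊤
  · have hMn : M.Normal := Subgroup.normalizer_eq_top_iff.mp hN
    exact hA ((hprop M hAM hMtop).trans hAM hMn.isSubnormal)
  · have hNM : Subgroup.normalizer (M : Set G) ≤ M := hM _ (hAM.trans Subgroup.le_normalizer) hN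
    have hNCtop : Subgroup.normalClosure (A : Set G) ≠ ⊤ :=
      fun h => hMtop (top_le_iff.mp (h ▸ hNC.trans hNM))
    apply hA
    exact (hprop _ Subgroup.le_normalClosure hNCtop).trans Subgroup.le_normalClosure
      (Subgroup.normalClosure_normal.isSubnormal)

theorem wielandt_criterion_sharp {G : Type u} [Group G] [Finite G] (A : Subgroup G)
    (h : ∀ a ∈ A, ∀ g : G, (A.subgroupOf (A ⊔ MulAut.conj (g⁻¹ * a * g) • A)).IsSubnormal) :
    A.IsSubnormal :=
  wielandt_criterion_sharp_aux (Nat.card G) G rfl A h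

end wielandtSharp

end Cfsg.Agent.Lib.Helper91
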